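/-
H24: groups in which the three involutions of a four-group have the same abelian centraliser.
-/
import Cfsg.Agent.Lib.H24.Isolated
set_option autoImplicit false
set_option linter.unusedSimpArgs false
set_option linter.unusedVariables false
set_option linter.unusedSectionVars false
namespace H24.FourCent

variable {X : Type*} [Group X] [Finite X]

theorem eq_one_of_sq {x : X} (hx : Odd (orderOf x)) (h : x * x = 1) : x = 1 := by
  have h2 : orderOf x ∣ 2 := orderOf_dvd_of_pow_eq_one (by rw [pow_two, h])
  rcases (Nat.dvd_prime Nat.prime_two).1 h2 with h3 | h3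
  · exact orderOf_eq_one_iff.1 h3
  · rw [h3] at hx; exact absurd hx (by decide)

theorem odd_orderOf {N : Subgroup X} (hodd : Odd (Nat.card N)) {x : X} (hx : x ∈ N) : Odd (orderOf x) := by
  have h1 := orderOf_dvd_natCard (⟨x, hx⟩ : N)
  rw [Subgroup.orderOf_mk] at h1
  exact hodd.of_dvd_nat h1

/-- decomposition with respect to an involution -/
theorem decomp {N : Subgroup X} [N.Normal] (hodd : Odd (Nat.card N)) {c : X} (hc : c * c = 1) {n : X} (hn : n ∈ N) :
    ∃ f ∈ N, ∃ i ∈ N, n = f * i ∧ c * f = f * c ∧ c * i * c = i⁻¹ := by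
  have hci : c⁻¹ = c := inv_eq_of_mul_eq_one_left hc
  have hcn : c * n * c ∈ N := by
    have := (inferInstance : N.Normal).conj_mem n hn c
    rwa [hci] at this
  have hj : n⁻¹ * (c * n * c) ∈ N := mul_mem (inv_mem hn) hcn
  obtain ⟨k, hk⟩ := odd_orderOf hodd hj
  set j := n⁻¹ * (c * n * c) with hjd
  have hjc : c * j * c = j⁻¹ := by
    rw [hjd, mul_inv_rev, mul_inv_rev, mul_inv_rev, hci, inv_inv]
    calc c * (n⁻¹ * (c * n * c)) * c = c * n⁻¹ * c * n * (c * c) := by group
      _ = c * (n⁻¹ * c) * n := by rw [hc]; group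
  have hpow : ∀ l : ℕ, c * j ^ l * c = (j ^ l)⁻¹ := by
    intro l
    have h1 : c * j ^ l * c = (c * j * c) ^ l := by
      have := (conj_pow (i := l) (a := c) (b := j))
      rw [hci] at this
      exact this.symm
    rw [h1, hjc, inv_pow]
  have hj2 : j ^ k * j ^ k = j⁻¹ := by
    apply eq_inv_of_mul_eq_one_left
    rw [← pow_add, ← pow_succ, ← two_mul, ← hk, pow_orderOf_eq_one]
  refine ⟨n * (j ^ k)⁻¹, mul_mem hn (inv_mem (pow_mem hj k)), j ^ k, pow_mem hj k, by group, ?_, hpow k⟩
  have h3 : c * n * c = n * j := by rw [hjd]; group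
  have h4 : c * (j ^ k)⁻¹ * c = j ^ k := by
    have := congrArg (fun x => x⁻¹) (hpow k)
    simp only [mul_inv_rev, inv_inv, hci] at this
    rw [mul_assoc]; exact this
  have h5 : c * (n * (j ^ k)⁻¹) * c = n * (j ^ k)⁻¹ := by
    calc c * (n * (j ^ k)⁻¹) * c = c * n * (c * c) * (j ^ k)⁻¹ * c := by rw [hc]; group
      _ = (c * n * c) * (c * (j ^ k)⁻¹ * c) := by group
      _ = n * (j * j ^ k) := by rw [h3, h4]; group
      _ = n * (j ^ k)⁻¹ := by
        congr 1
        apply eq_inv_of_mul_eq_one_left
        rw [mul_assoc, hj2, mul_inv_cancel]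
  calc c * (n * (j ^ k)⁻¹) = c * (n * (j ^ k)⁻¹) * (c * c) := by rw [hc, mul_one]
    _ = (c * (n * (j ^ k)⁻¹) * c) * c := by group
    _ = _ := by rw [h5]

theorem odd_part {N : Subgroup X} [N.Normal] (hodd : Odd (Nat.card N)) {a b : X} (ha : a * a = 1) (hb : b * b = 1)
    (hab : a * b = b * a) (F : Subgroup X) (hFa : ∀ n ∈ N, a * n = n * a → n ∈ F) (hFb : ∀ n ∈ N, b * n = n * b → n ∈ F)
    (hFab : ∀ n ∈ N, a * b * n = n * (a * b) → n ∈ F) (hFc : ∀ n ∈ F, a * n = n * a) : N ≤ F := by
  have hai : a⁻¹ = a := inv_eq_of_mul_eq_one_left ha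
  have hbi : b⁻¹ = b := inv_eq_of_mul_eq_one_left hb
  have step : ∀ n ∈ N, a * n * a = n⁻¹ → n = 1 := by
    intro n hn han
    obtain ⟨f, hf, i, hi, hfi, hbf, hbi'⟩ := decomp hodd hb hn
    have hfF := hFb f hf hbf
    have haf := hFc f hfF
    have hkN : a * i * a ∈ N := by
      have := (inferInstance : N.Normal).conj_mem i hi a
      rwa [hai] at this
    set k := a * i * a with hk
    have hbk : b * k * b = k⁻¹ := by
      rw [hk]
      calc b * (a * i * a) * b = (b * a) * i * (a * b) := by group
        _ = a * (b * i * b) * a := by rw [← hab, hab]; simp only [mul_assoc]; rw [← mul_assoc b a, ← hab]; simp only [mul_assoc]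
        _ = (a * i * a)⁻¹ := by rw [hbi', mul_inv_rev, mul_inv_rev, hai]; group
    have E1 : f * k = i⁻¹ * f⁻¹ := by
      rw [hfi] at han
      rw [mul_inv_rev] at han
      rw [← han, hk]
      calc f * (a * i * a) = f * a * i * a := by group
        _ = _ := by rw [← haf]; group
    have E2 : f * k⁻¹ = i * f⁻¹ := by
      have h1 : b * (f * k) * b = f * k⁻¹ := by
        calc b * (f * k) * b = (b * f) * k * b := by group
          _ = f * (b * k * b) := by rw [hbf]; group
          _ = _ := by rw [hbk]
      have h2 : b * (i⁻¹ * f⁻¹) * b = i * f⁻¹ := by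
        have h3 : b * i⁻¹ * b = i := by
          have := congrArg (fun x => x⁻¹) hbi'
          simp only [mul_inv_rev, inv_inv, hbi] at this
          rw [mul_assoc]; exact this
        have h4 : f⁻¹ * b = b * f⁻¹ := by
          calc f⁻¹ * b = f⁻¹ * (b * f) * f⁻¹ := by group
            _ = _ := by rw [hbf]; group
        calc b * (i⁻¹ * f⁻¹) * b = b * i⁻¹ * (f⁻¹ * b) := by group
          _ = (b * i⁻¹ * b) * f⁻¹ := by rw [h4]; group
          _ = _ := by rw [h3]
      rw [← h1, E1, h2]
    have E3 : k⁻¹ * (f * f) * k⁻¹⁻¹ = (f * f)⁻¹ := by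
      have e1 : i⁻¹ = f * k * f := by rw [E1]; group
      have e2 : i⁻¹ = f⁻¹ * k * f⁻¹ := by
        have : i = f * k⁻¹ * f := by rw [E2]; group
        rw [this]; group
      rw [e1] at e2
      have e3 : f * f * k = k * (f⁻¹ * f⁻¹) := by
        calc f * f * k = f * (f * k * f) * f⁻¹ := by group
          _ = f * (f⁻¹ * k * f⁻¹) * f⁻¹ := by rw [e2]
          _ = _ := by group
      rw [inv_inv, mul_assoc, e3, ← mul_assoc, inv_mul_cancel, one_mul, mul_inv_rev]
    have hff : f * f = 1 := H24.Isolated.eq_one_of_odd_inverts (odd_orderOf hodd (inv_mem hkN))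
      (odd_orderOf hodd (mul_mem hf hf)) E3
    have hf1 : f = 1 := eq_one_of_sq (odd_orderOf hodd hf) hff
    rw [hf1, one_mul] at hfi
    rw [← hfi] at hbi'
    have h6 : a * b * n = n * (a * b) := by
      have h7 : b * n = n⁻¹ * b := by
        calc b * n = b * n * (b * b) := by rw [hb, mul_one]
          _ = (b * n * b) * b := by group
          _ = _ := by rw [hbi']
      have h8 : a * n⁻¹ = n * a := by
        have h9 : a * n = n⁻¹ * a := by
          calc a * n = a * n * (a * a) := by rw [ha, mul_one]
            _ = (a * n * a) * a := by group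
            _ = _ := by rw [han]
        calc a * n⁻¹ = n * (n⁻¹ * a) * n⁻¹ := by group
          _ = n * (a * n) * n⁻¹ := by rw [h9]
          _ = _ := by group
      rw [mul_assoc, h7, ← mul_assoc, h8, mul_assoc]
    have h10 := hFc n (hFab n hn h6)
    have h11 : n * n = 1 := by
      have : a * n * a = n := by rw [h10, mul_assoc, ha, mul_one]
      rw [han] at this
      nth_rewrite 1 [← this]
      exact inv_mul_cancel n
    exact eq_one_of_sq (odd_orderOf hodd hn) h11
  intro n hn
  obtain ⟨f, hf, i, hi, hfi, haf, hai'⟩ := decomp hodd ha hn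
  rw [step i hi hai', mul_one] at hfi
  rw [hfi]
  exact hFa f hf haf

/-- three commuting involutions with the same abelian centraliser of order `4 s` -/
theorem four_cent {a b : X} (ha : a * a = 1) (hb : b * b = 1) (hab : a * b = b * a) (ha1 : a ≠ 1) (hb1 : b ≠ 1)
    (hne : a ≠ b) (D : Subgroup X) (hD : ∀ x ∈ D, ∀ y ∈ D, x * y = y * x) (hDa : Subgroup.centralizer {a} = D)
    (hDb : Subgroup.centralizer {b} = D) (hDab : Subgroup.centralizer {a * b} = D) {s : ℕ} (hs : Odd s)
    (hcard : Nat.card D = 4 * s) (h3 : ¬ 3 ∣ Nat.card X) (hS : ∀ P : Sylow 2 X, ∀ x ∈ P, x * x = 1) : D = ⊤ := by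
  classical
  haveI : Fact (Nat.Prime 2) := ⟨Nat.prime_two⟩
  have haD : a ∈ D := by rw [← hDa]; exact Subgroup.mem_centralizer_singleton_iff.2 rfl
  have hbD : b ∈ D := by rw [← hDb]; exact Subgroup.mem_centralizer_singleton_iff.2 rfl
  have hab1 : a * b ≠ 1 := by
    intro h
    apply hne
    rw [eq_inv_of_mul_eq_one_left h]; exact inv_eq_of_mul_eq_one_left hb
  -- the four-group
  have hV2 : IsPGroup 2 (Subgroup.closure {a, b}) := by
    have hex : ∀ x ∈ Subgroup.closure {a, b}, x * x = 1 := by
      intro x hx
      have hle : Subgroup.closure {a, b} ≤ D := by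
        rw [Subgroup.closure_le]
        rintro z (rfl | rfl)
        · exact haD
        · exact hbD
      refine Subgroup.closure_induction (p := fun x _ => x * x = 1) ?_ ?_ ?_ ?_ hx
      · rintro z (rfl | rfl)
        · exact ha
        · exact hb
      · exact one_mul 1
      · intro x y hx hy h1 h2
        rw [show x * y * (x * y) = x * (y * x) * y by group, hD y (hle hy) x (hle hx),
          show x * (x * y) * y = (x * x) * (y * y) by group, h1, h2, one_mul]
      · intro x _ h1
        rw [← mul_inv_rev, h1, inv_one]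
    intro x
    exact ⟨1, Subtype.ext (by
      change (x : X) ^ (2 ^ 1) = 1
      rw [pow_one, pow_two]; exact hex _ x.2)⟩
  obtain ⟨P, hP⟩ := hV2.exists_le_sylow
  have haP : a ∈ P := hP (Subgroup.subset_closure (by simp))
  have hbP : b ∈ P := hP (Subgroup.subset_closure (by simp))
  have hPsq := hS P
  have hPc : ∀ x ∈ P, ∀ y ∈ P, x * y = y * x := by
    intro x hx y hy
    rw [← inv_eq_of_mul_eq_one_left (hPsq _ (mul_mem hx hy)), mul_inv_rev, inv_eq_of_mul_eq_one_left (hPsq _ hx),
      inv_eq_of_mul_eq_one_left (hPsq _ hy)]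
  have hPD : (P : Subgroup X) ≤ D := by
    intro x hx
    rw [← hDa, Subgroup.mem_centralizer_singleton_iff]
    exact hPc _ hx _ haP
  have hcardP : Nat.card P ≤ 4 := by
    obtain ⟨k, hk⟩ := IsPGroup.iff_card.1 P.isPGroup'
    have h1 : Nat.card P ∣ 4 * s := by
      rw [← hcard]
      exact Subgroup.card_dvd_of_le hPD
    have h2 : Nat.Coprime (Nat.card P) s := by
      rw [hk]
      exact (Nat.coprime_two_left.2 hs).pow_left k
    exact Nat.le_of_dvd (by norm_num) (h2.dvd_of_dvd_mul_right h1)
  have hPmem : ∀ x ∈ P, x = 1 ∨ x = a ∨ x = b ∨ x = a * b := by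
    have hsub : ({1, a, b, a * b} : Set X) ⊆ (P : Subgroup X) := by
      rintro x (rfl | rfl | rfl | rfl)
      · exact one_mem _
      · exact haP
      · exact hbP
      · exact mul_mem haP hbP
    have hn4 : ({1, a, b, a * b} : Set X).ncard = 4 := by
      rw [Set.ncard_eq_toFinset_card']
      simp only [Set.toFinset_insert, Set.toFinset_singleton]
      rw [Finset.card_insert_of_notMem, Finset.card_insert_of_notMem, Finset.card_insert_of_notMem, Finset.card_singleton]
      · simp only [Finset.mem_singleton]; exact fun h => ha1 (right_eq_mul.1 h)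
      · simp only [Finset.mem_insert, Finset.mem_singleton, not_or]
        exact ⟨hne, fun h => hb1 (left_eq_mul.1 h)⟩
      · simp only [Finset.mem_insert, Finset.mem_singleton, not_or]
        exact ⟨fun h => ha1 h.symm, fun h => hb1 h.symm, fun h => hab1 h.symm⟩
    have heq : ({1, a, b, a * b} : Set X) = ((P : Subgroup X) : Set X) := by
      apply Set.eq_of_subset_of_ncard_le hsub
      rw [hn4]
      exact hcardP
    intro x hx
    have : x ∈ ({1, a, b, a * b} : Set X) := by rw [heq]; exact hx
    simpa using this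
  have hcen : Subgroup.normalizer (P : Set X) ≤ Subgroup.centralizer (P : Set X) := by
    intro n hn
    have hconj : ∀ v ∈ P, n * v * n⁻¹ ∈ P := fun v hv => (Subgroup.mem_normalizer_iff.1 hn v).1 hv
    -- a fixed involution
    have hfix : ∀ v : X, v ∈ P → v ≠ 1 → n * v = v * n → n ∈ Subgroup.centralizer (P : Set X) := by
      intro v hv hv1 hnv
      have hnD : n ∈ D := by
        rcases hPmem v hv with h | h | h | h
        · exact absurd h hv1
        · rw [← hDa, Subgroup.mem_centralizer_singleton_iff, ← h]; exact hnv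
        · rw [← hDb, Subgroup.mem_centralizer_singleton_iff, ← h]; exact hnv
        · rw [← hDab, Subgroup.mem_centralizer_singleton_iff, ← h]; exact hnv
      rw [Subgroup.mem_centralizer_iff]
      intro y hy
      exact hD y (hPD hy) n hnD
    by_contra hcon
    have hnf : ∀ v : X, v ∈ P → v ≠ 1 → n * v * n⁻¹ ≠ v := by
      intro v hv hv1 h
      exact hcon (hfix v hv hv1 (mul_inv_eq_iff_eq_mul.1 h))
    -- n acts as a 3-cycle
    have hne1 : ∀ v : X, v ≠ 1 → n * v * n⁻¹ ≠ 1 := by
      intro v hv h
      apply hv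
      have : v = n⁻¹ * (n * v * n⁻¹) * n := by group
      rw [this, h]; group
    have hinj : ∀ v w : X, n * v * n⁻¹ = n * w * n⁻¹ → v = w := fun v w h => mul_left_cancel (mul_right_cancel h)
    have habP : a * b ∈ P := mul_mem haP hbP
    have key : n ^ 3 * a * (n ^ 3)⁻¹ = a := by
      have hthree : n ^ 3 * a * (n ^ 3)⁻¹ = n * (n * (n * a * n⁻¹) * n⁻¹) * n⁻¹ := by
        rw [pow_succ, pow_two]; group
      rw [hthree]
      have ca := hPmem _ (hconj a haP)
      have cb := hPmem _ (hconj b hbP)
      have cc := hPmem _ (hconj _ habP)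
      have na := hnf a haP ha1
      have nb := hnf b hbP hb1
      have nc := hnf _ habP hab1
      have oa := hne1 a ha1
      have ob := hne1 b hb1
      have oc := hne1 _ hab1
      have ibc : n * b * n⁻¹ ≠ n * (a * b) * n⁻¹ := fun h => ha1 (right_eq_mul.1 (hinj _ _ h))
      have iab : n * a * n⁻¹ ≠ n * b * n⁻¹ := fun h => hne (hinj _ _ h)
      have iac : n * a * n⁻¹ ≠ n * (a * b) * n⁻¹ := fun h => hb1 (left_eq_mul.1 (hinj _ _ h))
      rcases ca with ca | ca | ca | ca
      · exact absurd ca oa
      · exact absurd ca na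
      · -- a -> b
        rcases cb with cb | cb | cb | cb
        · exact absurd cb ob
        · exfalso
          rcases cc with cc | cc | cc | cc
          · exact oc cc
          · exact ibc (cb.trans cc.symm)
          · exact iac (ca.trans cc.symm)
          · exact nc cc
        · exact absurd cb nb
        · rw [ca, cb]
          rcases cc with cc | cc | cc | cc
          · exact absurd cc oc
          · exact cc
          · exact absurd (ca.trans cc.symm) iac
          · exact absurd cc nc
      · -- a -> ab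
        rcases cc with cc | cc | cc | cc
        · exact absurd cc oc
        · exfalso
          rcases cb with cb | cb | cb | cb
          · exact ob cb
          · exact ibc (cb.trans cc.symm)
          · exact nb cb
          · exact iab (ca.trans cb.symm)
        · rw [ca, cc]
          rcases cb with cb | cb | cb | cb
          · exact absurd cb ob
          · exact cb
          · exact absurd cb nb
          · exact absurd (ca.trans cb.symm) iab
        · exact absurd cc nc
    have hn3 : n ^ 3 ∈ Subgroup.centralizer (P : Set X) := by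
      have h1 : n ^ 3 ∈ D := by
        rw [← hDa, Subgroup.mem_centralizer_singleton_iff]
        exact mul_inv_eq_iff_eq_mul.1 key
      rw [Subgroup.mem_centralizer_iff]
      intro y hy
      exact hD y (hPD hy) _ h1
    have hcop : Nat.Coprime 3 (orderOf n) := by
      rw [Nat.Prime.coprime_iff_not_dvd Nat.prime_three]
      exact fun h => h3 (h.trans (orderOf_dvd_natCard n))
    obtain ⟨m, hm⟩ := exists_pow_eq_self_of_coprime hcop
    apply hcon
    rw [← hm]
    exact pow_mem hn3 m
  set N := (MonoidHom.transferSylow P hcen).ker with hN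
  have hcomp := MonoidHom.ker_transferSylow_isComplement' P hcen
  have hnd := MonoidHom.not_dvd_card_ker_transferSylow P hcen
  have hodd : Odd (Nat.card N) := by
    rw [← Nat.not_even_iff_odd, even_iff_two_dvd]; exact hnd
  have hle : N ≤ D := by
    apply odd_part hodd ha hb hab D
    · intro n _ h; rw [← hDa, Subgroup.mem_centralizer_singleton_iff]; exact h.symm
    · intro n _ h; rw [← hDb, Subgroup.mem_centralizer_singleton_iff]; exact h.symm
    · intro n _ h; rw [← hDab, Subgroup.mem_centralizer_singleton_iff]; exact h.symm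
    · intro n hn; exact hD a haD n hn
  rw [eq_top_iff]
  intro x _
  obtain ⟨⟨u, v⟩, h⟩ := hcomp.2 x
  rw [← h]
  exact mul_mem (hle u.2) (hPD v.2)

end H24.FourCent
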