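/-
H24: the small Ree groups: Sylow 3-subgroups.
-/
import Cfsg.Agent.Lib.H24.ReeSyl
set_option autoImplicit false
set_option linter.unusedSimpArgs false
set_option linter.unusedVariables false
set_option linter.unusedSectionVars false

namespace H24.ReeSyl3

open Cfsg.Lie Matrix H24.ReeBlk H24.ReeAd H24.ReeAl H24.ReeGood H24.ReePts H24.ReeGrp
open H24.ReeAct H24.ReeStr H24.ReeInt H24.ReeUni H24.ReeSub H24.ReeSyl
open scoped MatrixGroups Pointwise

variable {K : Type*} [Field K] {e : ℕ} [RF K e]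

instance fact3 : Fact (Nat.Prime 3) := ⟨Nat.prime_three⟩

/-- the Sylow 3-subgroup fixing the point at infinity -/
noncomputable def syl3 [Finite K] {n : ℕ} (hn : Nat.card K = 3 ^ n) : Sylow 3 (G1 K e) :=
  (pgroup_U1 (K := K) (e := e) hn).toSylow (by
    have h1 := Subgroup.card_mul_index (U1 K e)
    rw [card_U1, card_G1] at h1
    have hpos : 0 < Nat.card K ^ 3 := pow_pos Nat.card_pos 3
    have h2 : (U1 K e).index = (Nat.card K - 1) * (Nat.card K ^ 3 + 1) := by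
      have : Nat.card K ^ 3 * (U1 K e).index = Nat.card K ^ 3 * ((Nat.card K - 1) * (Nat.card K ^ 3 + 1)) := by
        rw [h1]; ring
      exact Nat.eq_of_mul_eq_mul_left hpos this
    have hn0 : n ≠ 0 := by
      rintro rfl
      rw [pow_zero] at hn
      exact absurd hn (Finite.one_lt_card).ne'
    obtain ⟨k, rfl⟩ := Nat.exists_eq_succ_of_ne_zero hn0
    have h3 : Nat.card K = 3 * 3 ^ k := by rw [hn, pow_succ]; ring
    have hq : 1 ≤ Nat.card K := Nat.card_pos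
    rw [h2]
    intro h
    rcases (Nat.Prime.dvd_mul Nat.prime_three).1 h with h | h
    · have h5 : 3 ∣ Nat.card K := ⟨_, h3⟩
      have h6 := (Nat.dvd_sub_iff_right hq h5).1 h
      norm_num at h6
    · have h5 : 3 ∣ Nat.card K ^ 3 := Dvd.dvd.pow ⟨_, h3⟩ (by norm_num)
      have h6 := (Nat.dvd_add_right h5).1 h
      norm_num at h6)

theorem coe_syl3 [Finite K] {n : ℕ} (hn : Nat.card K = 3 ^ n) : ((syl3 (K := K) (e := e) hn : Sylow 3 (G1 K e)) : Subgroup (G1 K e)) = U1 K e :=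
  rfl

/-- every Sylow 3-subgroup is a conjugate of U1 -/
theorem exists_conj [Finite K] {n : ℕ} (hn : Nat.card K = 3 ^ n) (P : Sylow 3 (G1 K e)) :
    ∃ g : G1 K e, ∀ x : G1 K e, x ∈ (P : Subgroup (G1 K e)) ↔ g⁻¹ * x * g ∈ U1 K e := by
  obtain ⟨g, hg⟩ := MulAction.exists_smul_eq (G1 K e) (syl3 (K := K) (e := e) hn) P
  refine ⟨g, fun x => ?_⟩
  rw [← hg, Sylow.coe_subgroup_smul, Subgroup.mem_pointwise_smul_iff_inv_smul_mem, coe_syl3, ← MulAut.conj_symm_apply]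
  rfl

theorem ti [Finite K] {n : ℕ} (hn : Nat.card K = 3 ^ n) (P Q : Sylow 3 (G1 K e)) (hPQ : P ≠ Q) :
    (P : Subgroup (G1 K e)) ⊓ (Q : Subgroup (G1 K e)) = ⊥ := by
  obtain ⟨g, hg⟩ := exists_conj hn P
  obtain ⟨g', hg'⟩ := exists_conj hn Q
  by_contra hne
  apply hPQ
  obtain ⟨x, hx, hx1⟩ : ∃ x : G1 K e, x ∈ (P : Subgroup (G1 K e)) ⊓ (Q : Subgroup (G1 K e)) ∧ x ≠ 1 := by
    obtain ⟨a, ha⟩ := Subgroup.ne_bot_iff_exists_ne_one.1 hne
    exact ⟨a, a.2, fun h' => ha (Subtype.ext h')⟩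
  have h1 := (hg x).1 hx.1
  have h2 := (hg' x).1 hx.2
  have h4 : x • (g' • (none : Pt K)) = g' • none := by
    have := h2.1
    rwa [mul_smul, mul_smul, inv_smul_eq_iff] at this
  have h5 : g⁻¹ * x * g ≠ 1 := by
    intro h
    apply hx1
    have : x = g * (g⁻¹ * x * g) * g⁻¹ := by group
    rw [this, h]; group
  have h6 : (g⁻¹ * x * g) • (g⁻¹ • g' • (none : Pt K)) = g⁻¹ • g' • none := by
    rw [mul_smul, mul_smul, smul_inv_smul, h4]
  have h7 := U1_fix h1 h5 h6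
  -- g⁻¹ g' fixes the point at infinity
  have h8 : (g⁻¹ * g') • (none : Pt K) = none := by rw [mul_smul]; exact h7
  apply Sylow.ext
  ext y
  rw [hg, hg']
  constructor
  · intro hy
    have := conj_U1 hy (b := (g⁻¹ * g')⁻¹) (by rw [inv_smul_eq_iff, h8])
    have e1 : (g⁻¹ * g')⁻¹ * (g⁻¹ * y * g) * (g⁻¹ * g')⁻¹⁻¹ = g'⁻¹ * y * g' := by group
    rwa [e1] at this
  · intro hy
    have := conj_U1 hy (b := g⁻¹ * g') h8
    have e1 : (g⁻¹ * g') * (g'⁻¹ * y * g') * (g⁻¹ * g')⁻¹ = g⁻¹ * y * g := by group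
    rwa [e1] at this

end H24.ReeSyl3
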