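/-
H24: the small Ree groups: the subgroup PSL(2,q) and the centraliser of the involution of the torus.
-/
import Cfsg.Agent.Lib.H24.ReeSyl3
set_option autoImplicit false
set_option linter.unusedSimpArgs false
set_option linter.unusedVariables false
set_option linter.unusedSectionVars false
set_option linter.unusedTactic false
set_option linter.unreachableTactic false

namespace H24.ReeCen

open Cfsg.Lie Matrix H24.ReeBlk H24.ReeAd H24.ReeAl H24.ReeGood H24.ReePts H24.ReeGrp
open H24.ReeAct H24.ReeStr H24.ReeInt H24.ReeUni H24.ReeSub H24.ReeSyl H24.ReeSyl3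
open scoped MatrixGroups Pointwise

section mat
variable {K : Type*} [Field K]

/-- the 7-dimensional representation of 2 x 2 matrices: `Sym²(M^θ)` on the odd and `M^θ ⊗ M` on the even coordinates -/
def BM (X Y Z W x y z w : K) : Matrix (Fin 7) (Fin 7) K :=
  !![X * x, 0, -(Y * x), 0, -(X * y), 0, -(Y * y);
     0, X ^ 2, 0, X * Y, 0, -Y ^ 2, 0;
     -(Z * x), 0, W * x, 0, Z * y, 0, W * y;
     0, -(X * Z), 0, X * W + Y * Z, 0, Y * W, 0;
     -(X * z), 0, Y * z, 0, X * w, 0, Y * w;
     0, -Z ^ 2, 0, -(Z * W), 0, W ^ 2, 0;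
     -(Z * z), 0, W * z, 0, Z * w, 0, W * w]

set_option maxHeartbeats 4000000 in
theorem BM_mul [CharP K 3] (X Y Z W x y z w X' Y' Z' W' x' y' z' w' : K) :
    BM X Y Z W x y z w * BM X' Y' Z' W' x' y' z' w' =
      BM (X * X' + Y * Z') (X * Y' + Y * W') (Z * X' + W * Z') (Z * Y' + W * W')
        (x * x' + y * z') (x * y' + y * w') (z * x' + w * z') (z * y' + w * w') := by
  have h3 : (3 : K) = 0 := by exact_mod_cast CharP.cast_eq_zero K 3
  ext i j
  fin_cases i <;> fin_cases j <;>
    simp [BM, Matrix.mul_apply, Fin.sum_univ_succ] <;>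
    first
      | ring1
      | linear_combination (-(X * Z * X' * Y') - Y * W * Z' * W') * h3
      | linear_combination (-(X * Y * X' * Z')) * h3
      | linear_combination (X * Y * Y' * W') * h3
      | linear_combination (Z * W * X' * Z') * h3
      | linear_combination (-(Z * W * Y' * W')) * h3
      | linear_combination (X * Y * X' * Z') * h3
      | linear_combination (-(X * Y * Y' * W')) * h3
      | linear_combination (-(Z * W * X' * Z')) * h3
      | linear_combination (Z * W * Y' * W') * h3

end mat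

variable {K : Type*} [Field K] {e : ℕ} [RF K e]

/-- the representation of SL(2,K) -/
def Bs (M : SL(2, K)) : Matrix (Fin 7) (Fin 7) K :=
  BM (th K e (M 0 0)) (th K e (M 0 1)) (th K e (M 1 0)) (th K e (M 1 1)) (M 0 0) (M 0 1) (M 1 0) (M 1 1)

theorem Bs_mul (M N : SL(2, K)) : Bs (M * N) = Bs M * Bs N := by
  unfold Bs
  rw [BM_mul]
  simp only [Matrix.SpecialLinearGroup.coe_mul, Matrix.mul_apply, Fin.sum_univ_two, map_add, map_mul]

theorem Bs_one : Bs (1 : SL(2, K)) = 1 := by
  unfold Bs
  ext i j
  fin_cases i <;> fin_cases j <;> simp [BM]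

/-- upper unipotent -/
def up (u : K) : SL(2, K) := ⟨!![1, u; 0, 1], by simp [Matrix.det_fin_two]⟩
/-- lower unipotent -/
def lo (u : K) : SL(2, K) := ⟨!![1, 0; u, 1], by simp [Matrix.det_fin_two]⟩

theorem coe_up (u : K) : ((up u : SL(2, K)) : Matrix (Fin 2) (Fin 2) K) = !![1, u; 0, 1] := rfl
theorem coe_lo (u : K) : ((lo u : SL(2, K)) : Matrix (Fin 2) (Fin 2) K) = !![1, 0; u, 1] := rfl

theorem Bs_up (u : K) : Bs (up u) = ag (uG 0 u 0 : G1 K e) := by
  rw [ag_uG]
  unfold Bs AL up
  ext i j
  fin_cases i <;> fin_cases j <;> simp [BM, al] <;> ring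

theorem Bs_lo (u : K) : Bs (lo (-u)) = ag (vG 0 u 0 : G1 K e) := by
  rw [ag_vG]
  unfold Bs AL lo
  ext i j
  fin_cases i <;> fin_cases j <;> simp [BM, al, rev7, Fin.rev] <;> ring

/-- SL(2,K) is generated by elementary matrices -/
theorem sl2_gen (P : SL(2, K) → Prop) (h1 : P 1) (hm : ∀ a b, P a → P b → P (a * b)) (hu : ∀ u, P (up u))
    (hl : ∀ u, P (lo u)) (M : SL(2, K)) : P M := by
  have key : ∀ M : SL(2, K), M 1 0 ≠ 0 → P M := by
    intro M hc
    have hdet : M 0 0 * M 1 1 - M 0 1 * M 1 0 = 1 := by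
      have := M.det_coe
      rwa [Matrix.det_fin_two] at this
    have : M = up ((M 0 0 - 1) / M 1 0) * (lo (M 1 0) * up ((M 1 1 - 1) / M 1 0)) := by
      apply Subtype.ext
      change (M : Matrix (Fin 2) (Fin 2) K) = _
      rw [Matrix.SpecialLinearGroup.coe_mul, Matrix.SpecialLinearGroup.coe_mul, coe_up, coe_up, coe_lo]
      ext i j
      fin_cases i <;> fin_cases j <;>
        simp [Matrix.mul_apply, Fin.sum_univ_two] <;> field_simp
      · ring
      · linear_combination -hdet
      · ring
    rw [this]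
    exact hm _ _ (hu _) (hm _ _ (hl _) (hu _))
  by_cases hc : M 1 0 = 0
  · have hdet : M 0 0 * M 1 1 - M 0 1 * M 1 0 = 1 := by
      have := M.det_coe
      rwa [Matrix.det_fin_two] at this
    rw [hc, mul_zero, sub_zero] at hdet
    have hne : M 0 0 ≠ 0 := left_ne_zero_of_mul_eq_one hdet
    have : M = lo (-1) * (lo 1 * M) := by
      rw [← mul_assoc]
      have : lo (-1) * lo 1 = (1 : SL(2, K)) := by
        apply Subtype.ext
        rw [Matrix.SpecialLinearGroup.coe_mul, coe_lo, coe_lo]
        ext i j
        fin_cases i <;> fin_cases j <;> simp [Matrix.mul_apply, Fin.sum_univ_two]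
      rw [this, one_mul]
    rw [this]
    refine hm _ _ (hl _) (key _ ?_)
    rw [Matrix.SpecialLinearGroup.coe_mul, coe_lo]
    simp [Matrix.mul_apply, Fin.sum_univ_two, hc, hne]
  · exact key M hc

theorem exists_rho (M : SL(2, K)) : ∃ g : G1 K e, ag g = Bs M := by
  refine sl2_gen (fun M => ∃ g : G1 K e, ag g = Bs M) ⟨1, by rw [ag_one, Bs_one]⟩ ?_ ?_ ?_ M
  · rintro a b ⟨g, hg⟩ ⟨h, hh⟩
    exact ⟨g * h, by rw [ag_mul, hg, hh, Bs_mul]⟩
  · intro u; exact ⟨uG 0 u 0, (Bs_up u).symm⟩
  · intro u
    refine ⟨vG 0 (-u) 0, ?_⟩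
    rw [← Bs_lo, neg_neg]

/-- the homomorphism SL(2,K) → ²G₂ -/
noncomputable def rho : SL(2, K) →* G1 K e where
  toFun M := (exists_rho M).choose
  map_one' := ag_inj (by rw [(exists_rho (K := K) (e := e) 1).choose_spec, Bs_one, ag_one])
  map_mul' M N := ag_inj (by
    rw [(exists_rho (M * N)).choose_spec, ag_mul, (exists_rho M).choose_spec, (exists_rho N).choose_spec, Bs_mul])

theorem ag_rho (M : SL(2, K)) : ag (rho M : G1 K e) = Bs M := (exists_rho M).choose_spec

theorem rho_up (u : K) : (rho (up u) : G1 K e) = uG 0 u 0 := ag_inj (by rw [ag_rho, Bs_up])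
theorem rho_lo (u : K) : (rho (lo (-u)) : G1 K e) = vG 0 u 0 := ag_inj (by rw [ag_rho, Bs_lo])

theorem rho_ker {M : SL(2, K)} (h : (rho M : G1 K e) = 1) : M = 1 ∨ M = -1 := by
  have h1 : Bs M = 1 := by rw [← ag_rho (e := e), h, ag_one]
  have e11 := congrFun (congrFun h1 1) 1
  have e13 := congrFun (congrFun h1 1) 3
  have e31 := congrFun (congrFun h1 3) 1
  have e33 := congrFun (congrFun h1 3) 3
  have e44 := congrFun (congrFun h1 4) 4
  have e00 := congrFun (congrFun h1 0) 0
  simp [Bs, BM] at e11 e13 e31 e33 e44 e00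
  have hx : M 0 0 ≠ 0 := by
    intro h; rw [h] at e00; simp at e00
  have hy : M 0 1 = 0 := by
    rcases e13 with h | h
    · exact absurd h hx
    · exact h
  have hz : M 1 0 = 0 := by
    rcases e31 with h | h
    · exact absurd h hx
    · exact h
  have hx2 : M 0 0 = 1 ∨ M 0 0 = -1 := by
    rcases e11 with h | h
    · left
      exact (th K e).injective (by rw [h, map_one])
    · right
      exact (th K e).injective (by rw [h, map_neg, map_one])
  have hdet : M 0 0 * M 1 1 - M 0 1 * M 1 0 = 1 := by
    have := M.det_coe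
    rwa [Matrix.det_fin_two] at this
  rw [hy, zero_mul, sub_zero] at hdet
  rcases hx2 with hx2 | hx2
  · left
    rw [hx2, one_mul] at hdet
    ext i j
    fin_cases i <;> fin_cases j <;> simp [hx2, hy, hz, hdet]
  · right
    rw [hx2] at hdet
    have hw : M 1 1 = -1 := by linear_combination -hdet
    ext i j
    fin_cases i <;> fin_cases j <;> simp [hx2, hy, hz, hw]

theorem rho_neg_one : (rho (-1 : SL(2, K)) : G1 K e) = 1 := by
  apply ag_inj
  rw [ag_rho, ag_one]
  unfold Bs
  ext i j
  fin_cases i <;> fin_cases j <;> simp [BM]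

/-- diagonal elements -/
def dia (x : Kˣ) : SL(2, K) := ⟨!![(x : K), 0; 0, ((x⁻¹ : Kˣ) : K)], by simp [Matrix.det_fin_two]⟩

theorem rho_dia [Finite K] (x : Kˣ) : (rho (dia x) : G1 K e) = hT (Units.map (th K e).toMonoidHom x * x) := by
  apply ag_inj
  rw [ag_rho, ag_hT]
  have hx := x.ne_zero
  have hX : th K e (x : K) ≠ 0 := by simp
  have h1 : ph K e (((Units.map (th K e).toMonoidHom x * x : Kˣ) : Kˣ) : K) = x * th K e (x : K) ^ 3 := by
    rw [Units.val_mul, map_mul]
    change ph K e (th K e (x : K)) * ph K e x = _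
    rw [ph_th]; rfl
  have h2 : (((Units.map (th K e).toMonoidHom x * x : Kˣ) : Kˣ) : K) = th K e (x : K) * x := rfl
  unfold dg
  rw [h1, h2]
  unfold Bs dia
  ext i j
  fin_cases i <;> fin_cases j <;> simp [BM, Matrix.diagonal] <;> field_simp

/-- the Weyl element -/
def wy (K : Type*) [Field K] : SL(2, K) := ⟨!![0, 1; -1, 0], by simp [Matrix.det_fin_two]⟩

theorem rho_wy_o0 : (rho (wy K) : G1 K e) • (o0 : Pt K) = none := by
  refine (ag_unique (c := -1) (neg_ne_zero.2 one_ne_zero) ?_).1
  rw [ag_rho, H24.ReeStr.vec_zero]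
  change Bs (wy K) *ᵥ eN 6 = -1 • eN 0
  ext i
  rw [mulVec_eN]
  fin_cases i <;> simp [Bs, BM, wy, eN_apply]

/-! ### the centraliser of the involution -/

section cen
variable [Finite K]

/-- the involution of the torus -/
noncomputable def inv : G1 K e := hT (-1)

theorem inv_sq : (inv : G1 K e) * inv = 1 := by
  unfold inv
  rw [← hT_mul, show (-1 : Kˣ) * -1 = 1 by simp]
  exact map_one (hTH (K := K) (e := e))

theorem two_ne {K : Type*} [Field K] {e : ℕ} [RF K e] : (1 : K) ≠ -1 := by
  intro h
  have h3 := three0 (K := K) (e := e)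
  have : (1 : K) = 0 := by linear_combination h3 - h
  exact one_ne_zero this

theorem inv_ne : (inv : G1 K e) ≠ 1 := by
  intro h
  have h1 : (hT (-1) : G1 K e) = hT 1 := h.trans (map_one (hTH (K := K) (e := e))).symm
  have h2 := congrArg Units.val (hT_inj h1)
  simp only [Units.val_neg, Units.val_one] at h2
  exact two_ne (e := e) h2.symm

theorem inv_smul (t u v : K) : (inv : G1 K e) • (some (t, u, v) : Pt K) = some (-t, u, -v) := by
  unfold inv
  rw [(hT_smul (-1) t u v).1]
  simp
  norm_num

theorem inv_fix {p : Pt K} (h : (inv : G1 K e) • p = p) : p = none ∨ ∃ u : K, p = some (0, u, 0) := by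
  rcases p with _ | ⟨t, u, v⟩
  · exact Or.inl rfl
  · right
    rw [inv_smul, Option.some.injEq, Prod.mk.injEq, Prod.mk.injEq] at h
    obtain ⟨h1, -, h2⟩ := h
    have h3 := three0 (K := K) (e := e)
    have ht : t = 0 := by linear_combination h1 + t * h3
    have hv : v = 0 := by linear_combination h2 + v * h3
    exact ⟨u, by rw [ht, hv]⟩

theorem fix_inv (u : K) : (inv : G1 K e) • (some (0, u, 0) : Pt K) = some (0, u, 0) := by
  rw [inv_smul, neg_zero]

theorem inv_none : (inv : G1 K e) • (none : Pt K) = none := (hT_fix (-1)).1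

theorem rho_comm (M : SL(2, K)) : (inv : G1 K e) * rho M = rho M * inv := by
  apply ag_inj
  have h1 : ag (inv : G1 K e) = dg (ph K e) (-1) := by
    have := ag_hT (K := K) (e := e) (-1)
    rw [Units.val_neg, Units.val_one] at this
    exact this
  rw [ag_mul, ag_mul, ag_rho, h1]
  unfold dg
  ext i j
  rw [Matrix.diagonal_mul, Matrix.mul_diagonal]
  fin_cases i <;> fin_cases j <;> simp [Bs, BM]

theorem smul_fix_of_comm {g : G1 K e} (hg : inv * g = g * inv) {p : Pt K} (hp : (inv : G1 K e) • p = p) :
    (inv : G1 K e) • (g • p) = g • p := by rw [← mul_smul, hg, mul_smul, hp]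

/-- elements of the centraliser fixing the point at infinity -/
theorem cent_stab {g : G1 K e} (hg : inv * g = g * inv) (h0 : g • (none : Pt K) = none) :
    ∃ (u : K) (l : Kˣ), g = rho (up u) * hT l := by
  rcases inv_fix (smul_fix_of_comm hg (fix_inv 0)) with h | ⟨u, hu⟩
  · exfalso
    rw [← h0] at h
    have := MulAction.injective g h
    simp at this
  · have k0 : ((rho (up u))⁻¹ * g : G1 K e) • (none : Pt K) = none := by
      rw [mul_smul, h0, inv_smul_eq_iff, rho_up, (uG_none 0 u 0).1]
    have k1 : ((rho (up u))⁻¹ * g : G1 K e) • (o0 : Pt K) = o0 := by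
      rw [mul_smul, hu, inv_smul_eq_iff, rho_up, (uG_o0 0 u 0).1]
    obtain ⟨l, hl, -⟩ := exists_hT k0 k1
    exact ⟨u, l, by rw [← hl, mul_inv_cancel_left]⟩

/-- squares are values of x ↦ θ(x) x -/
theorem exists_dia (l : Kˣ) : ∃ x : Kˣ, (hT l : G1 K e) = rho (dia x) ∨ (hT l : G1 K e) = inv * rho (dia x) := by
  let f : Kˣ →* Kˣ := { toFun := fun x => Units.map (th K e).toMonoidHom x * x
                        map_one' := by simp
                        map_mul' := fun a b => by rw [map_mul]; exact mul_mul_mul_comm _ _ _ _ }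
  have hker : ∀ x : Kˣ, f x = 1 ∨ f x = -1 → x = 1 ∨ x = -1 := by
    intro x hx
    have hx0 := x.ne_zero
    have h1 : th K e (x : K) * x = 1 ∨ th K e (x : K) * x = -1 := by
      rcases hx with h | h
      · left; exact congrArg Units.val h
      · right
        have := congrArg Units.val h
        rw [Units.val_neg, Units.val_one] at this
        exact this
    have h2 : th K e (th K e (x : K)) = x := by
      rcases h1 with h | h
      · have h3 := congrArg (th K e) h
        rw [map_mul, map_one] at h3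
        have hX : th K e (x : K) ≠ 0 := by simp
        exact mul_right_cancel₀ hX (by rw [h3, mul_comm, h])
      · have h3 := congrArg (th K e) h
        rw [map_mul, map_neg, map_one] at h3
        have hX : th K e (x : K) ≠ 0 := by simp
        exact mul_right_cancel₀ hX (by rw [h3, mul_comm, h])
    have h4 : (x : K) ^ 3 = x := by
      have := (fld (K := K) (e := e)).sq x
      rw [h2] at this
      exact this
    have h5 : (x : K) * x = 1 := by
      have : (x : K) * (x * x - 1) = 0 := by linear_combination h4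
      rcases mul_eq_zero.1 this with h | h
      · exact absurd h hx0
      · linear_combination h
    rcases mul_self_eq_one_iff.1 h5 with h | h
    · left; exact Units.ext h
    · right; exact Units.ext (by rw [h]; simp)
  have hkc : Nat.card f.ker = 2 := by
    have : (f.ker : Set Kˣ) = {1, -1} := by
      ext x
      simp only [SetLike.mem_coe, MonoidHom.mem_ker, Set.mem_insert_iff, Set.mem_singleton_iff]
      constructor
      · intro h; exact hker x (Or.inl h)
      · rintro (rfl | rfl)
        · exact map_one f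
        · apply Units.ext
          change th K e ((-1 : Kˣ) : K) * ((-1 : Kˣ) : K) = 1
          simp
    have h1 : (1 : Kˣ) ≠ -1 := by
      intro h
      have := congrArg Units.val h
      rw [Units.val_neg, Units.val_one] at this
      exact two_ne (e := e) this
    have h2 : Nat.card f.ker = (f.ker : Set Kˣ).ncard := rfl
    rw [h2, this, Set.ncard_pair h1]
  have hidx : f.range.index = 2 := by
    have h1 := Subgroup.card_mul_index f.range
    have h2 := Subgroup.card_mul_index f.ker
    rw [Subgroup.index_ker, hkc] at h2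
    rw [← h2, mul_comm] at h1
    have hpos : 0 < Nat.card f.range := Nat.card_pos
    exact Nat.eq_of_mul_eq_mul_right hpos h1
  have hm1 : (-1 : Kˣ) ∉ f.range := by
    rintro ⟨x, hx⟩
    have h1 : (1 : Kˣ) ≠ -1 := by
      intro h
      have := congrArg Units.val h
      rw [Units.val_neg, Units.val_one] at this
      exact two_ne (e := e) this
    rcases hker x (Or.inr hx) with rfl | rfl
    · rw [map_one] at hx; exact h1 hx
    · have : f (-1) = 1 := by
        apply Units.ext
        change th K e ((-1 : Kˣ) : K) * ((-1 : Kˣ) : K) = 1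
        simp
      rw [this] at hx; exact h1 hx
  by_cases hl : l ∈ f.range
  · obtain ⟨x, hx⟩ := hl
    exact ⟨x, Or.inl (by rw [rho_dia, ← hx]; rfl)⟩
  · have h1 : (-1 : Kˣ) * l ∈ f.range := by
      rw [Subgroup.mul_mem_iff_of_index_two hidx]
      exact ⟨fun h => absurd h hm1, fun h => absurd h hl⟩
    obtain ⟨x, hx⟩ := h1
    refine ⟨x, Or.inr ?_⟩
    have h2 : (rho (dia x) : G1 K e) = hT (-1 * l) := by rw [rho_dia, ← hx]; rfl
    rw [h2]
    unfold inv
    rw [← hT_mul, ← mul_assoc, show (-1 : Kˣ) * -1 = 1 by simp, one_mul]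

/-- the centraliser of the involution -/
theorem cent {g : G1 K e} (hg : inv * g = g * inv) : ∃ M : SL(2, K), g = rho M ∨ g = inv * rho M := by
  -- reduce to the stabiliser
  obtain ⟨N, hN⟩ : ∃ N : SL(2, K), ((rho N : G1 K e) * g) • (none : Pt K) = none := by
    rcases inv_fix (smul_fix_of_comm hg inv_none) with h | ⟨u, hu⟩
    · exact ⟨1, by rw [map_one, one_mul, h]⟩
    · refine ⟨wy K * (up u)⁻¹, ?_⟩
      have : (rho (up u) : G1 K e)⁻¹ • (some (0, u, 0) : Pt K) = o0 := by
        rw [inv_smul_eq_iff, rho_up, (uG_o0 0 u 0).1]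
      rw [map_mul, map_inv, mul_smul, mul_smul, hu, this, rho_wy_o0]
  have hc : inv * ((rho N : G1 K e) * g) = rho N * g * inv := by
    rw [← mul_assoc, rho_comm, mul_assoc, hg, mul_assoc]
  obtain ⟨u, l, h⟩ := cent_stab hc hN
  obtain ⟨x, hx⟩ := exists_dia (e := e) l
  have h2 : g = (rho N)⁻¹ * (rho (up u) * hT l) := by rw [← h, inv_mul_cancel_left]
  refine ⟨N⁻¹ * up u * dia x, ?_⟩
  rcases hx with hx | hx
  · left
    rw [h2, hx, map_mul, map_mul, map_inv, mul_assoc]
  · right
    rw [h2, hx, map_mul, map_mul, map_inv, ← mul_assoc (rho (up u)), ← rho_comm, mul_assoc, ← mul_assoc,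
      ← map_inv rho, ← rho_comm, mul_assoc, mul_assoc]

theorem inv_ne_rho (M : SL(2, K)) : (inv : G1 K e) ≠ rho M := by
  intro h
  have h1 : ag (inv : G1 K e) = dg (ph K e) (-1) := by
    have := ag_hT (K := K) (e := e) (-1)
    rw [Units.val_neg, Units.val_one] at this
    exact this
  rw [h, ag_rho] at h1
  have e11 := congrFun (congrFun h1 1) 1
  have e00 := congrFun (congrFun h1 0) 0
  simp [Bs, BM, dg] at e11 e00
  rcases e11 with h | h
  · have : M 0 0 = 1 := (th K e).injective (by rw [h, map_one])
    rw [h, this] at e00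
    exact two_ne (e := e) (by linear_combination e00)
  · have : M 0 0 = -1 := (th K e).injective (by rw [h, map_neg, map_one])
    rw [h, this] at e00
    exact two_ne (e := e) (by linear_combination e00)

/-- the sign homomorphism onto the centre of the centraliser -/
noncomputable def zeta : Multiplicative (ZMod 2) →* Subgroup.centralizer {(inv : G1 K e)} where
  toFun i := if i = 1 then 1 else ⟨inv, by rw [Subgroup.mem_centralizer_singleton_iff]⟩
  map_one' := by simp
  map_mul' := by
    intro a b
    have h2 : ∀ x : Multiplicative (ZMod 2), x = 1 ∨ x = Multiplicative.ofAdd 1 := by decide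
    have hne : Multiplicative.ofAdd (1 : ZMod 2) ≠ 1 := by decide
    have hmm : Multiplicative.ofAdd (1 : ZMod 2) * Multiplicative.ofAdd 1 = 1 := by decide
    rcases h2 a with rfl | rfl <;> rcases h2 b with rfl | rfl
    · simp
    · simp [hne]
    · simp [hne]
    · rw [hmm, if_pos rfl, if_neg hne]
      exact Subtype.ext inv_sq.symm

/-- rho into the centraliser -/
noncomputable def rhoC : SL(2, K) →* Subgroup.centralizer {(inv : G1 K e)} :=
  rho.codRestrict _ (fun M => by rw [Subgroup.mem_centralizer_singleton_iff]; exact (rho_comm M).symm)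

theorem rhoC_center {M : SL(2, K)} (hM : M ∈ Subgroup.center SL(2, K)) : (rhoC M : Subgroup.centralizer {(inv : G1 K e)}) = 1 := by
  rw [Matrix.SpecialLinearGroup.mem_center_iff] at hM
  obtain ⟨r, hr, hM⟩ := hM
  rw [Fintype.card_fin, pow_two] at hr
  apply Subtype.ext
  change (rho M : G1 K e) = 1
  rcases mul_self_eq_one_iff.1 hr with h | h
  · have : M = 1 := by
      apply Subtype.ext
      change (M : Matrix (Fin 2) (Fin 2) K) = 1
      rw [← hM, h]; simp
    rw [this, map_one]
  · have : M = -1 := by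
      apply Subtype.ext
      rw [← hM, h]
      ext i j
      fin_cases i <;> fin_cases j <;> simp
    rw [this, rho_neg_one]

/-- rho on PSL(2,K) -/
noncomputable def rhoP : Matrix.ProjectiveSpecialLinearGroup (Fin 2) K →* Subgroup.centralizer {(inv : G1 K e)} :=
  QuotientGroup.lift _ rhoC (fun M hM => rhoC_center hM)

theorem rhoP_mk (M : SL(2, K)) : rhoP (QuotientGroup.mk M : Matrix.ProjectiveSpecialLinearGroup (Fin 2) K) =
    (rhoC M : Subgroup.centralizer {(inv : G1 K e)}) := rfl

theorem zr_comm (i : Multiplicative (ZMod 2)) (x : Matrix.ProjectiveSpecialLinearGroup (Fin 2) K) :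
    Commute (zeta i : Subgroup.centralizer {(inv : G1 K e)}) (rhoP x) := by
  obtain ⟨M, rfl⟩ := QuotientGroup.mk_surjective x
  rw [rhoP_mk]
  unfold zeta
  simp only [MonoidHom.coe_mk, OneHom.coe_mk]
  split_ifs
  · exact Commute.one_left _
  · exact Subtype.ext (rho_comm M)

/-- the centraliser of the involution is `Z₂ × PSL(2,q)` -/
noncomputable def centEquiv : Multiplicative (ZMod 2) × Matrix.ProjectiveSpecialLinearGroup (Fin 2) K ≃*
    Subgroup.centralizer {(inv : G1 K e)} :=
  MulEquiv.ofBijective (MonoidHom.noncommCoprod zeta rhoP zr_comm) (by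
    have h2 : ∀ x : Multiplicative (ZMod 2), x = 1 ∨ x = Multiplicative.ofAdd 1 := by decide
    have hne : Multiplicative.ofAdd (1 : ZMod 2) ≠ 1 := by decide
    have hz : ∀ i : Multiplicative (ZMod 2), (zeta i : Subgroup.centralizer {(inv : G1 K e)}) =
        if i = 1 then 1 else ⟨inv, by rw [Subgroup.mem_centralizer_singleton_iff]⟩ := fun i => rfl
    constructor
    · rw [injective_iff_map_eq_one]
      rintro ⟨i, x⟩ h
      obtain ⟨M, rfl⟩ := QuotientGroup.mk_surjective x
      rw [MonoidHom.noncommCoprod_apply, rhoP_mk] at h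
      rcases h2 i with rfl | rfl
      · rw [map_one, one_mul] at h
        have h3 : (rho M : G1 K e) = 1 := congrArg Subtype.val h
        have h4 : M ∈ Subgroup.center SL(2, K) := by
          rw [Matrix.SpecialLinearGroup.mem_center_iff]
          rcases rho_ker h3 with rfl | rfl
          · exact ⟨1, by simp, by simp⟩
          · refine ⟨-1, by simp, ?_⟩
            ext i j
            fin_cases i <;> fin_cases j <;> simp
        rw [(QuotientGroup.eq_one_iff M).2 h4]
        rfl
      · rw [hz, if_neg hne] at h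
        have h3 : (inv : G1 K e) * rho M = 1 := congrArg Subtype.val h
        have h4 : (inv : G1 K e) = rho M⁻¹ := by
          rw [map_inv]; exact eq_inv_of_mul_eq_one_left h3
        exact absurd h4 (inv_ne_rho _)
    · rintro ⟨g, hg⟩
      rw [Subgroup.mem_centralizer_singleton_iff] at hg
      obtain ⟨M, h | h⟩ := cent (e := e) hg.symm
      · refine ⟨(1, QuotientGroup.mk M), ?_⟩
        rw [MonoidHom.noncommCoprod_apply, rhoP_mk, map_one, one_mul]
        exact Subtype.ext h.symm
      · refine ⟨(Multiplicative.ofAdd 1, QuotientGroup.mk M), ?_⟩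
        rw [MonoidHom.noncommCoprod_apply, rhoP_mk, hz, if_neg hne]
        exact Subtype.ext h.symm)

end cen

end H24.ReeCen
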