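/-
H24: the small Ree groups: Sylow 2-subgroups.
-/
import Cfsg.Agent.Lib.H24.ReeCen
set_option autoImplicit false
set_option linter.unusedSimpArgs false
set_option linter.unusedVariables false
set_option linter.unusedSectionVars false

namespace H24.ReeSyl2

open Cfsg.Lie Matrix H24.ReeBlk H24.ReeAd H24.ReeAl H24.ReeGood H24.ReePts H24.ReeGrp
open H24.ReeAct H24.ReeStr H24.ReeInt H24.ReeUni H24.ReeSub H24.ReeSyl H24.ReeSyl3 H24.ReeCen
open scoped MatrixGroups Pointwise

/-- the homomorphism of an involution -/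
def zh {G : Type*} [Group G] (x : G) (hx : x * x = 1) : Multiplicative (ZMod 2) →* G where
  toFun i := if i = 1 then 1 else x
  map_one' := by simp
  map_mul' := by
    intro a b
    have h2 : ∀ x : Multiplicative (ZMod 2), x = 1 ∨ x = Multiplicative.ofAdd 1 := by decide
    have hne : Multiplicative.ofAdd (1 : ZMod 2) ≠ 1 := by decide
    have hmm : Multiplicative.ofAdd (1 : ZMod 2) * Multiplicative.ofAdd 1 = 1 := by decide
    rcases h2 a with rfl | rfl <;> rcases h2 b with rfl | rfl
    · simp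
    · simp [hne]
    · simp [hne]
    · rw [hmm, if_pos rfl, if_neg hne, hx]

theorem zh_one {G : Type*} [Group G] (x : G) (hx : x * x = 1) : zh x hx 1 = 1 := map_one _
theorem zh_gen {G : Type*} [Group G] (x : G) (hx : x * x = 1) : zh x hx (Multiplicative.ofAdd 1) = x := by
  have hne : Multiplicative.ofAdd (1 : ZMod 2) ≠ 1 := by decide
  change (if Multiplicative.ofAdd (1 : ZMod 2) = 1 then 1 else x) = x
  rw [if_neg hne]

theorem elem8 {G : Type*} [Group G] {a x y : G} (ha : a * a = 1) (hx : x * x = 1) (hy : y * y = 1) (hax : Commute a x)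
    (hay : Commute a y) (hxy : Commute x y) (a1 : a ≠ 1) (x1 : x ≠ 1) (y1 : y ≠ 1) (ax : a ≠ x) (ay : a ≠ y)
    (xy : x ≠ y) (axy : a ≠ x * y) : ∃ E : Subgroup G, Nat.card E = 8 ∧ ∀ z ∈ E, z * z = 1 := by
  have h2 : ∀ x : Multiplicative (ZMod 2), x = 1 ∨ x = Multiplicative.ofAdd 1 := by decide
  have c1 : ∀ i j, Commute (zh x hx i) (zh y hy j) := by
    intro i j
    rcases h2 i with rfl | rfl <;> rcases h2 j with rfl | rfl <;> simp only [zh_one, zh_gen, Commute.one_left, Commute.one_right]
    exact hxy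
  let ψ := MonoidHom.noncommCoprod (zh x hx) (zh y hy) c1
  have c2 : ∀ i j, Commute (zh a ha i) (ψ j) := by
    rintro i ⟨j, k⟩
    simp only [ψ, MonoidHom.noncommCoprod_apply]
    rcases h2 i with rfl | rfl <;> rcases h2 j with rfl | rfl <;> rcases h2 k with rfl | rfl <;>
      simp only [zh_one, zh_gen, Commute.one_left, Commute.one_right, one_mul, mul_one]
    · exact hay
    · exact hax
    · exact hax.mul_right hay
  let Φ := MonoidHom.noncommCoprod (zh a ha) ψ c2
  have hΦ : ∀ i j k, Φ (i, j, k) = zh a ha i * (zh x hx j * zh y hy k) := fun i j k => rfl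
  have inj : Function.Injective Φ := by
    rw [injective_iff_map_eq_one]
    rintro ⟨i, j, k⟩ h
    rw [hΦ] at h
    rcases h2 i with rfl | rfl <;> rcases h2 j with rfl | rfl <;> rcases h2 k with rfl | rfl <;>
      simp only [zh_one, zh_gen, one_mul, mul_one] at h
    · rfl
    · exact absurd h y1
    · exact absurd h x1
    · exfalso
      exact xy (mul_right_cancel (h.trans hy.symm))
    · exact absurd h a1
    · exfalso
      exact ay (mul_right_cancel (h.trans hy.symm))
    · exfalso
      exact ax (mul_right_cancel (h.trans hx.symm))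
    · exfalso
      apply axy
      have h3 : (x * y) * (x * y) = 1 := by
        rw [mul_assoc, ← mul_assoc y, ← hxy.eq, mul_assoc x y y, hy, mul_one, hx]
      have h4 : a = (x * y)⁻¹ := eq_inv_of_mul_eq_one_left h
      rw [h4]
      exact inv_eq_of_mul_eq_one_left h3
  refine ⟨Φ.range, ?_, ?_⟩
  · rw [← Nat.card_congr (MonoidHom.ofInjective inj).toEquiv, Nat.card_prod, Nat.card_prod]
    have : Nat.card (Multiplicative (ZMod 2)) = 2 := by
      rw [Nat.card_eq_fintype_card]; rfl
    rw [this]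
  · rintro z ⟨⟨i, j, k⟩, rfl⟩
    rw [← map_mul]
    have : ((i, j, k) : Multiplicative (ZMod 2) × Multiplicative (ZMod 2) × Multiplicative (ZMod 2)) * (i, j, k) = 1 := by
      have h4 : ∀ x : Multiplicative (ZMod 2), x * x = 1 := by decide
      simp only [Prod.mk_mul_mk, h4]; rfl
    rw [this, map_one]

variable {K : Type*} [Field K] {e : ℕ} [RF K e]

theorem card_mod {m : ℕ} : ∃ r, 3 ^ (2 * m + 1) = 8 * r + 3 := by
  induction m with
  | zero => exact ⟨0, by norm_num⟩
  | succ m ih =>
    obtain ⟨r, hr⟩ := ih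
    refine ⟨9 * r + 3, ?_⟩
    rw [show 2 * (m + 1) + 1 = 2 * m + 1 + 2 by ring, pow_add, hr]
    ring

theorem card_eight [Finite K] {m : ℕ} (hn : Nat.card K = 3 ^ (2 * m + 1)) : ∃ k, Nat.card (G1 K e) = 8 * k ∧ ¬ 2 ∣ k := by
  obtain ⟨r, hr⟩ := card_mod (m := m)
  rw [card_G1, hn, hr]
  refine ⟨(8 * r + 3) ^ 3 * (4 * r + 1) * (128 * r ^ 3 + 144 * r ^ 2 + 54 * r + 7), ?_, ?_⟩
  · rw [show 8 * r + 3 - 1 = 2 * (4 * r + 1) by omega]
    ring
  · intro h
    rcases (Nat.Prime.dvd_mul Nat.prime_two).1 h with h | h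
    · rcases (Nat.Prime.dvd_mul Nat.prime_two).1 h with h | h
      · have := Nat.prime_two.dvd_of_dvd_pow h
        omega
      · omega
    · omega

/-- quaternion generators -/
def qi (K : Type*) [Field K] : SL(2, K) := wy K
def qj (K : Type*) [Field K] [CharP K 3] : SL(2, K) := ⟨!![1, 1; 1, -1], by
  have h3 : (3 : K) = 0 := by exact_mod_cast CharP.cast_eq_zero K 3
  rw [Matrix.det_fin_two]; simp; linear_combination -h3⟩

theorem coe_qi (K : Type*) [Field K] : ((qi K : SL(2, K)) : Matrix (Fin 2) (Fin 2) K) = !![0, 1; -1, 0] := rfl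
theorem coe_qj (K : Type*) [Field K] [CharP K 3] : ((qj K : SL(2, K)) : Matrix (Fin 2) (Fin 2) K) = !![1, 1; 1, -1] := rfl

theorem exists_elem8 [Finite K] : ∃ E : Subgroup (G1 K e), Nat.card E = 8 ∧ ∀ z ∈ E, z * z = 1 := by
  have h3 := three0 (K := K) (e := e)
  have hi2 : qi K * qi K = -1 := by
    apply Subtype.ext
    rw [Matrix.SpecialLinearGroup.coe_mul, coe_qi]
    ext i j
    fin_cases i <;> fin_cases j <;> simp [Matrix.mul_apply, Fin.sum_univ_two]
  have hj2 : qj K * qj K = -1 := by
    apply Subtype.ext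
    rw [Matrix.SpecialLinearGroup.coe_mul, coe_qj]
    ext i j
    fin_cases i <;> fin_cases j <;> simp [Matrix.mul_apply, Fin.sum_univ_two] <;> linear_combination h3
  have hij : qi K * qj K = -(qj K * qi K) := by
    apply Subtype.ext
    rw [Matrix.SpecialLinearGroup.coe_neg, Matrix.SpecialLinearGroup.coe_mul, Matrix.SpecialLinearGroup.coe_mul, coe_qi, coe_qj]
    ext i j
    fin_cases i <;> fin_cases j <;> simp [Matrix.mul_apply, Fin.sum_univ_two]
  have hneg : ∀ M : SL(2, K), (rho (-M) : G1 K e) = rho M := by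
    intro M
    rw [← neg_one_mul, map_mul, rho_neg_one, one_mul]
  have ne1 : (rho (qi K) : G1 K e) ≠ 1 := by
    intro h
    rcases rho_ker h with h | h
    · have := congrFun (congrFun (congrArg Subtype.val h) 0) 1
      rw [coe_qi] at this
      simp at this
    · have := congrFun (congrFun (congrArg Subtype.val h) 0) 1
      rw [coe_qi] at this
      simp at this
  have ne2 : (rho (qj K) : G1 K e) ≠ 1 := by
    intro h
    rcases rho_ker h with h | h
    · have := congrFun (congrFun (congrArg Subtype.val h) 0) 1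
      rw [coe_qj] at this
      simp at this
    · have := congrFun (congrFun (congrArg Subtype.val h) 0) 1
      rw [coe_qj] at this
      simp at this
  have ne3 : (rho (qi K * qj K) : G1 K e) ≠ 1 := by
    intro h
    rcases rho_ker h with h | h
    · have := congrFun (congrFun (congrArg Subtype.val h) 0) 1
      rw [Matrix.SpecialLinearGroup.coe_mul, coe_qi, coe_qj] at this
      simp [Matrix.mul_apply, Fin.sum_univ_two] at this
    · have := congrFun (congrFun (congrArg Subtype.val h) 0) 1
      rw [Matrix.SpecialLinearGroup.coe_mul, coe_qi, coe_qj] at this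
      simp [Matrix.mul_apply, Fin.sum_univ_two] at this
  refine elem8 (a := inv) (x := rho (qi K)) (y := rho (qj K)) inv_sq ?_ ?_ (rho_comm _) (rho_comm _) ?_ inv_ne ne1 ne2
    (inv_ne_rho _) (inv_ne_rho _) ?_ ?_
  · rw [← map_mul, hi2, rho_neg_one]
  · rw [← map_mul, hj2, rho_neg_one]
  · change rho (qi K) * rho (qj K) = rho (qj K) * rho (qi K)
    rw [← map_mul, ← map_mul, hij, hneg]
  · intro h
    apply ne3
    rw [map_mul, h, ← map_mul, hj2, rho_neg_one]
  · rw [← map_mul]
    exact inv_ne_rho _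

theorem sylow2 [Finite K] {m : ℕ} (hn : Nat.card K = 3 ^ (2 * m + 1)) (S : Sylow 2 (G1 K e)) :
    Nat.card S = 8 ∧ ∀ x ∈ S, x * x = 1 := by
  obtain ⟨E, hE, hE2⟩ := exists_elem8 (K := K) (e := e)
  obtain ⟨k, hk, hk2⟩ := card_eight (K := K) (e := e) hn
  have hp : IsPGroup 2 E := IsPGroup.of_card (n := 3) (by rw [hE]; norm_num)
  have hidx : E.index = k := by
    have := Subgroup.card_mul_index E
    rw [hE, hk] at this
    exact Nat.eq_of_mul_eq_mul_left (by norm_num) this
  let P : Sylow 2 (G1 K e) := hp.toSylow (by rw [hidx]; exact hk2)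
  have hP : (P : Subgroup (G1 K e)) = E := rfl
  obtain ⟨g, hg⟩ := MulAction.exists_smul_eq (G1 K e) P S
  refine ⟨?_, ?_⟩
  · have e1 := P.card_eq_multiplicity
    have e2 := S.card_eq_multiplicity
    rw [e2, ← e1]
    exact hE
  · intro x hx
    have hx' : x ∈ (S : Subgroup (G1 K e)) := hx
    rw [← hg, Sylow.coe_subgroup_smul, Subgroup.mem_pointwise_smul_iff_inv_smul_mem, hP] at hx'
    have hx2 : g⁻¹ * x * g ∈ E := by
      have : (MulAut.conj g)⁻¹ • x = g⁻¹ * x * g := by
        rw [MulAut.smul_def, MulAut.conj_inv_apply]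
      rwa [this] at hx'
    have h2 := hE2 _ hx2
    have h4 : g⁻¹ * (x * x) * g = 1 := by
      rw [← h2]; group
    have h5 : x * x = g * (g⁻¹ * (x * x) * g) * g⁻¹ := by group
    rw [h5, h4]; group

end H24.ReeSyl2
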