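/-
H24: the small Ree groups: all involutions are conjugate.
-/
import Cfsg.Agent.Lib.H24.ReeSyl2
import Cfsg.Agent.Lib.H24.Isolated
import Cfsg.Agent.Lib.H58.SL2Prod
set_option autoImplicit false
set_option linter.unusedSimpArgs false
set_option linter.unusedVariables false
set_option linter.unusedSectionVars false
namespace H24.ReeInvo

open Cfsg.Lie Matrix H24.ReeBlk H24.ReeAd H24.ReeAl H24.ReeGood H24.ReePts H24.ReeGrp
open H24.ReeAct H24.ReeStr H24.ReeInt H24.ReeUni H24.ReeSub H24.ReeSyl H24.ReeSyl3 H24.ReeCen H24.ReeSyl2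
open scoped MatrixGroups Pointwise

variable {K : Type*} [Field K] {e : ℕ} [RF K e]

local notation "iv" => (H24.ReeCen.inv : G1 K e)

theorem vec100 : H24.ReeAct.vec (some ((1 : K), (0 : K), (0 : K))) = ![1,-1,1,0,1,-1,1] := by
  change AL 1 0 0 *ᵥ eN 6 = _
  ext i
  rw [mulVec_eN]
  fin_cases i <;> simp [AL, al]

theorem vec110 : H24.ReeAct.vec (some ((1 : K), (1 : K), (0 : K))) = ![-1,-1,1,1,-1,-1,1] := by
  have h3 := three0 (K := K) (e := e)
  change AL 1 1 0 *ᵥ eN 6 = _
  ext i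
  rw [mulVec_eN]
  fin_cases i <;> simp [AL, al]
  linear_combination h3

theorem wy_sq : wy K * wy K = -1 := by
  apply Subtype.ext
  change (wy K : Matrix (Fin 2) (Fin 2) K) * (wy K : Matrix (Fin 2) (Fin 2) K) = -1
  unfold wy
  ext i j; fin_cases i <;> fin_cases j <;> simp [Matrix.mul_apply, Fin.sum_univ_succ]

theorem wy_fix : (rho (wy K) : G1 K e) • (some ((1 : K), (0 : K), (0 : K)) : Pt K) = some (1, 0, 0) := by
  refine (ag_unique (c := -1) (neg_ne_zero.2 one_ne_zero) ?_).1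
  rw [ag_rho, vec100 (e := e)]
  ext i
  fin_cases i <;> simp [Bs, BM, wy, Matrix.mulVec, dotProduct, Fin.sum_univ_succ]

theorem inv_wy_fix [Finite K] : (iv * rho (wy K)) • (some ((1 : K), (1 : K), (0 : K)) : Pt K) = some (1, 1, 0) := by
  refine (ag_unique (c := -1) (neg_ne_zero.2 one_ne_zero) ?_).1
  have h1 : ag iv = dg (ph K e) (-1) := by
    have := ag_hT (K := K) (e := e) (-1)
    rw [Units.val_neg, Units.val_one] at this
    exact this
  rw [ag_mul, ag_rho, vec110 (e := e), h1, ← Matrix.mulVec_mulVec]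
  unfold dg
  ext i
  rw [Matrix.mulVec_diagonal]
  fin_cases i <;> simp [Bs, BM, wy, Matrix.mulVec, dotProduct, Fin.sum_univ_succ]

section fin
variable [Finite K]

/-- elements of order three power are of odd order -/
theorem odd_of_mem_U1 {m : ℕ} (hn : Nat.card K = 3 ^ m) {g : G1 K e} (hg : g ∈ U1 K e) : Odd (orderOf g) := by
  have h1 := orderOf_dvd_natCard (⟨g, hg⟩ : U1 K e)
  rw [card_U1, hn, ← pow_mul, Subgroup.orderOf_mk] at h1
  obtain ⟨k, -, hk⟩ := (Nat.dvd_prime_pow Nat.prime_three).1 h1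
  rw [hk]
  exact Odd.pow (by decide)

/-- an involution fixing a point is conjugate to the involution of the torus -/
theorem conj_of_fix {m : ℕ} (hn : Nat.card K = 3 ^ m) {t : G1 K e} (h1 : t * t = 1) (hne : t ≠ 1) {p : Pt K} (hp : t • p = p) :
    ∃ g : G1 K e, g * t * g⁻¹ = iv := by
  obtain ⟨x, hx⟩ := trans_pt (K := K) (e := e) p none
  have hs : x * t * x⁻¹ ∈ MulAction.stabilizer (G1 K e) (none : Pt K) := by
    rw [MulAction.mem_stabilizer_iff, mul_smul, mul_smul, ← hx, inv_smul_smul, hp]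
  set s : MulAction.stabilizer (G1 K e) (none : Pt K) := ⟨x * t * x⁻¹, hs⟩ with hsd
  have hss : s * s = 1 := by
    apply Subtype.ext
    change x * t * x⁻¹ * (x * t * x⁻¹) = 1
    rw [show x * t * x⁻¹ * (x * t * x⁻¹) = x * (t * t) * x⁻¹ by group, h1]
    group
  have hsne : x * t * x⁻¹ ≠ 1 := by
    intro h
    apply hne
    have : t = x⁻¹ * (x * t * x⁻¹) * x := by group
    rw [this, h]; group
  have hc : chi K (e := e) s * chi K (e := e) s = 1 := by rw [← map_mul, hss, map_one]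
  have hc2 : chi K (e := e) s = 1 ∨ chi K (e := e) s = -1 := by
    have h2 := congrArg Units.val hc
    rw [Units.val_mul, Units.val_one] at h2
    rcases mul_self_eq_one_iff.1 h2 with h | h
    · left; exact Units.ext h
    · right; exact Units.ext (by rw [h]; simp)
  rcases hc2 with h | h
  · exfalso
    have hu : x * t * x⁻¹ ∈ U1 K e := ⟨hs, congrArg Units.val h⟩
    have ho := odd_of_mem_U1 hn hu
    have h2 : orderOf (x * t * x⁻¹) ∣ 2 := orderOf_dvd_of_pow_eq_one (by rw [pow_two]; exact congrArg Subtype.val hss)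
    rcases (Nat.dvd_prime Nat.prime_two).1 h2 with h3 | h3
    · exact hsne (orderOf_eq_one_iff.1 h3)
    · rw [h3] at ho
      exact absurd ho (by decide)
  · have hmem : iv * (x * t * x⁻¹) ∈ U1 K e := by
      refine ⟨by rw [mul_smul]; rw [show (x * t * x⁻¹) • (none : Pt K) = none from hs]; exact inv_none, ?_⟩
      rw [ml_mul, show (x * t * x⁻¹) • (none : Pt K) = none from hs]
      have h2 : ml (x * t * x⁻¹) (none : Pt K) = -1 := by
        have := congrArg Units.val h
        rw [Units.val_neg, Units.val_one] at this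
        exact this
      have h3 : ml iv (none : Pt K) = -1 := by
        have := (hT_fix (K := K) (e := e) (-1)).2.2
        rw [Units.val_neg, Units.val_one] at this
        exact this
      rw [h2, h3]; ring
    have ho := odd_of_mem_U1 hn hmem
    obtain ⟨i, hi⟩ : ∃ i : ℤ, (iv * (x * t * x⁻¹)) ^ i * iv * ((iv * (x * t * x⁻¹)) ^ i)⁻¹ = x * t * x⁻¹ := by
      have := H24.Isolated.conj_eq_of_odd (z := iv) (t := x * t * x⁻¹) inv_sq (congrArg Subtype.val hss) ho
      exact ⟨(orderOf (iv * (x * t * x⁻¹)) / 2 : ℕ), by rw [zpow_natCast]; exact this⟩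
    refine ⟨((iv * (x * t * x⁻¹)) ^ i)⁻¹ * x, ?_⟩
    rw [show ((iv * (x * t * x⁻¹)) ^ i)⁻¹ * x * t * (((iv * (x * t * x⁻¹)) ^ i)⁻¹ * x)⁻¹ =
      ((iv * (x * t * x⁻¹)) ^ i)⁻¹ * (x * t * x⁻¹) * ((iv * (x * t * x⁻¹)) ^ i) by group]
    nth_rewrite 2 [← hi]
    group

/-- all involutions are conjugate -/
theorem invo_conj {m : ℕ} (hn : Nat.card K = 3 ^ (2 * m + 1)) {t : G1 K e} (h1 : t * t = 1) (hne : t ≠ 1) :
    ∃ g : G1 K e, g * t * g⁻¹ = iv := by
  haveI : Fact (Nat.Prime 2) := ⟨Nat.prime_two⟩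
  have hp : ∀ {t : G1 K e}, t * t = 1 → ∃ P : Sylow 2 (G1 K e), t ∈ P := by
    intro t ht
    have hz : IsPGroup 2 (Subgroup.zpowers t) := by
      apply IsPGroup.of_card_dvd_pow (n := 1)
      rw [Nat.card_zpowers, pow_one]
      exact orderOf_dvd_of_pow_eq_one (by rw [pow_two, ht])
    obtain ⟨P, hP⟩ := hz.exists_le_sylow
    exact ⟨P, hP (Subgroup.mem_zpowers t)⟩
  obtain ⟨P, hP⟩ := hp h1
  obtain ⟨Q, hQ⟩ := hp (inv_sq (K := K) (e := e))
  obtain ⟨x, hx⟩ := MulAction.exists_smul_eq (G1 K e) P Q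
  have hxt : x * t * x⁻¹ ∈ Q := by
    rw [← hx]
    exact ⟨t, hP, rfl⟩
  have hQ2 := (sylow2 (e := e) hn Q).2
  have hcomm : iv * (x * t * x⁻¹) = x * t * x⁻¹ * iv := by
    have h2 := hQ2 _ (mul_mem hQ hxt)
    have h3 := hQ2 _ hxt
    have h4 : iv * (x * t * x⁻¹) = (iv * (x * t * x⁻¹))⁻¹ := eq_inv_of_mul_eq_one_left h2
    rw [h4, _root_.mul_inv_rev]
    congr 1
    · exact inv_eq_of_mul_eq_one_left h3
    · exact inv_eq_of_mul_eq_one_left inv_sq
  set s := x * t * x⁻¹ with hs
  have hss : s * s = 1 := hQ2 _ hxt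
  have hsne : s ≠ 1 := by
    intro h
    apply hne
    have : t = x⁻¹ * s * x := by rw [hs]; group
    rw [this, h]; group
  have key : ∃ p : Pt K, s • p = p := by
    obtain ⟨M, hM⟩ := cent hcomm
    have h2K : (2 : K) ≠ 0 := by
      intro h
      exact two_ne (K := K) (e := e) (by linear_combination h)
    have hsq : (rho (M * M) : G1 K e) = 1 := by
      rw [map_mul]
      rcases hM with h | h
      · rw [← h, hss]
      · have h2 : iv * s = rho M := by rw [h, ← mul_assoc, inv_sq, one_mul]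
        rw [← h2, hcomm, mul_assoc, ← hcomm, ← mul_assoc iv, inv_sq, one_mul, hss]
    rcases rho_ker hsq with h | h
    · rcases H58.SL2Prod.eq_one_or_neg_one_of_sq h2K h with h' | h'
      · rcases hM with h3 | h3
        · exact absurd (by rw [h3, h', map_one]) hsne
        · exact ⟨none, by rw [h3, h', map_one, mul_one]; exact inv_none⟩
      · rcases hM with h3 | h3
        · exact absurd (by rw [h3, h', rho_neg_one]) hsne
        · exact ⟨none, by rw [h3, h', rho_neg_one, mul_one]; exact inv_none⟩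
    · haveI : Fintype K := Fintype.ofFinite K
      obtain ⟨N, hN⟩ := isConj_iff.1 (H58.SL2Prod.isConj_of_sq h2K (A := wy K) (B := M) wy_sq h)
      rcases hM with h3 | h3
      · refine ⟨(rho N : G1 K e) • (some ((1 : K), (0 : K), (0 : K)) : Pt K), ?_⟩
        rw [h3, ← hN, map_mul, map_mul, map_inv, mul_smul, mul_smul, inv_smul_smul, wy_fix]
      · refine ⟨(rho N : G1 K e) • (some ((1 : K), (1 : K), (0 : K)) : Pt K), ?_⟩
        have h4 : s = rho N * (iv * rho (wy K)) * (rho N)⁻¹ := by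
          rw [h3, ← hN, map_mul, map_mul, map_inv, ← mul_assoc, ← mul_assoc, ← mul_assoc, rho_comm]
        rw [h4, mul_smul, mul_smul, inv_smul_smul, inv_wy_fix]
  obtain ⟨p, hp⟩ := key
  obtain ⟨g, hg⟩ := conj_of_fix hn hss hsne hp
  exact ⟨g * x, by rw [← hg, hs]; group⟩

end fin

end H24.ReeInvo
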