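/-
H24: the small Ree groups: normaliser of a Sylow 2-subgroup.
-/
import Cfsg.Agent.Lib.H24.ReeInvo
import Cfsg.Agent.Lib.H17.QuatPair
set_option autoImplicit false
set_option linter.unusedSimpArgs false
set_option linter.unusedVariables false
set_option linter.unusedSectionVars false
namespace H24.ReeFour

open Cfsg.Lie Matrix H24.ReeBlk H24.ReeAd H24.ReeAl H24.ReeGood H24.ReePts H24.ReeGrp
open H24.ReeAct H24.ReeStr H24.ReeInt H24.ReeUni H24.ReeSub H24.ReeSyl H24.ReeSyl3 H24.ReeCen H24.ReeSyl2 H24.ReeInvo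
open scoped MatrixGroups Pointwise

/-- orbit counting for conjugation -/
theorem orb_card {G : Type*} [Group G] [Finite G] (N : Subgroup G) (a : G) :
    Nat.card N = {x : G | ∃ n ∈ N, n * a * n⁻¹ = x}.ncard * Nat.card ↥(N ⊓ Subgroup.centralizer {a}) := by
  classical
  letI : MulAction N G := MulAction.compHom G (MulAut.conj.comp N.subtype)
  have hact : ∀ (n : N) (x : G), n • x = (n : G) * x * (n : G)⁻¹ := fun n x => rfl
  have h1 := Subgroup.card_mul_index (MulAction.stabilizer N a)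
  rw [MulAction.index_stabilizer] at h1
  have h2 : MulAction.orbit N a = {x : G | ∃ n ∈ N, n * a * n⁻¹ = x} := by
    ext x
    simp only [MulAction.mem_orbit_iff, Set.mem_setOf_eq, hact]
    exact ⟨fun ⟨n, hn⟩ => ⟨n, n.2, hn⟩, fun ⟨n, hn, h⟩ => ⟨⟨n, hn⟩, h⟩⟩
  have h3 : Nat.card (MulAction.stabilizer N a) = Nat.card ↥(N ⊓ Subgroup.centralizer {a}) := by
    refine Nat.card_congr ⟨fun x => ⟨(x : N), (x : N).2, ?_⟩, fun x => ⟨⟨x, x.2.1⟩, ?_⟩, fun x => rfl, fun x => rfl⟩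
    · have := x.2
      rw [MulAction.mem_stabilizer_iff, hact, mul_inv_eq_iff_eq_mul] at this
      exact Subgroup.mem_centralizer_singleton_iff.2 this
    · rw [MulAction.mem_stabilizer_iff, hact, mul_inv_eq_iff_eq_mul]
      exact Subgroup.mem_centralizer_singleton_iff.1 x.2.2
  rw [← h1, h2, h3, mul_comm]

variable {K : Type*} [Field K] {e : ℕ} [RF K e]

local notation "iv" => (H24.ReeCen.inv : G1 K e)

theorem two_ne' {K : Type*} [Field K] {e : ℕ} [RF K e] : (2 : K) ≠ 0 := by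
  intro h
  exact two_ne (K := K) (e := e) (by linear_combination h)

theorem qj_sq {K : Type*} [Field K] {e : ℕ} [RF K e] : qj K * qj K = -1 := by
  have h3 := three0 (K := K) (e := e)
  apply Subtype.ext
  change (qj K : Matrix (Fin 2) (Fin 2) K) * (qj K : Matrix (Fin 2) (Fin 2) K) = -1
  rw [coe_qj]
  ext i j; fin_cases i <;> fin_cases j <;> simp [Matrix.mul_apply, Fin.sum_univ_succ]
  all_goals linear_combination h3

theorem qij : qi K * qj K = -(qj K * qi K) := by
  apply Subtype.ext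
  change (qi K : Matrix (Fin 2) (Fin 2) K) * (qj K : Matrix (Fin 2) (Fin 2) K) = -((qj K : Matrix (Fin 2) (Fin 2) K) * (qi K : Matrix (Fin 2) (Fin 2) K))
  rw [coe_qj, coe_qi]
  ext i j; fin_cases i <;> fin_cases j <;> simp [Matrix.mul_apply, Fin.sum_univ_succ]

theorem qp {K : Type*} [Field K] {e : ℕ} [RF K e] : H17.QuatPair.QP (qi K) (qj K) := ⟨wy_sq, qj_sq (e := e), qij⟩

theorem comm_one {K : Type*} [Field K] {e : ℕ} [RF K e] {M x y : SL(2, K)} (h : H17.QuatPair.QP x y) (hx : M * x = x * M) (hy : M * y = y * M) : M = 1 ∨ M = -1 := by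
  obtain ⟨c, hc⟩ := H17.QuatPair.scalar_of_comm (two_ne' (e := e)) h M.1 (congrArg Subtype.val hx) (congrArg Subtype.val hy)
  have hd := M.2
  rw [hc, Matrix.det_smul, Matrix.det_one, mul_one, Fintype.card_fin, pow_two] at hd
  rcases mul_self_eq_one_iff.1 hd with h1 | h1
  · left; apply Subtype.ext; rw [hc, h1, one_smul]; rfl
  · right; apply Subtype.ext; rw [hc, h1]; ext i j; fin_cases i <;> fin_cases j <;> simp

/-- signs -/
theorem sign_of_comm {M x : SL(2, K)} (h : (rho M : G1 K e) * rho x = rho x * rho M) : M * x = x * M ∨ M * x = -(x * M) := by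
  have h1 : (rho ((x * M)⁻¹ * (M * x)) : G1 K e) = 1 := by
    rw [map_mul, map_inv, map_mul, map_mul, h]; group
  rcases rho_ker h1 with h2 | h2
  · left; rw [inv_mul_eq_one] at h2; exact h2.symm
  · right
    rw [inv_mul_eq_iff_eq_mul] at h2
    rw [h2, mul_neg, mul_one]

theorem mem4 {M : SL(2, K)} (h1 : (rho M : G1 K e) * rho (qi K) = rho (qi K) * rho M)
    (h2 : (rho M : G1 K e) * rho (qj K) = rho (qj K) * rho M) :
    (rho M : G1 K e) = 1 ∨ (rho M : G1 K e) = rho (qi K) ∨ (rho M : G1 K e) = rho (qj K) ∨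
      (rho M : G1 K e) = rho (qi K) * rho (qj K) := by
  have hqp := qp (K := K) (e := e)
  have hfin : ∀ N : SL(2, K), N = 1 ∨ N = -1 → (rho N : G1 K e) = 1 := by
    rintro N (rfl | rfl)
    · exact map_one _
    · exact rho_neg_one
  have hi2 : (rho (qi K) : G1 K e) * rho (qi K) = 1 := by rw [← map_mul, hqp.hx, rho_neg_one]
  have hj2 : (rho (qj K) : G1 K e) * rho (qj K) = 1 := by rw [← map_mul, hqp.hy, rho_neg_one]
  set x := qi K with hx
  set y := qj K with hy
  have hyx : y * x = -(x * y) := by rw [hqp.hxy, neg_neg]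
  rcases sign_of_comm h1 with s1 | s1 <;> rcases sign_of_comm h2 with s2 | s2
  · left; exact hfin M (comm_one (e := e) hqp s1 s2)
  · right; left
    have h3 := hfin (M * x) (comm_one (e := e) hqp (by rw [← mul_assoc, ← s1])
      (by rw [mul_assoc, hqp.hxy, mul_neg, ← mul_assoc, s2, neg_mul, neg_neg, mul_assoc]))
    rw [map_mul] at h3
    rw [eq_inv_of_mul_eq_one_left h3, inv_eq_of_mul_eq_one_left hi2]
  · right; right; left
    have h3 := hfin (M * y) (comm_one (e := e) hqp (by rw [mul_assoc, hyx, mul_neg, ← mul_assoc, s1, neg_mul, neg_neg, mul_assoc])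
      (by rw [← mul_assoc, ← s2]))
    rw [map_mul] at h3
    rw [eq_inv_of_mul_eq_one_left h3, inv_eq_of_mul_eq_one_left hj2]
  · right; right; right
    have h3 := hfin (M * (y * x)) (comm_one (e := e) hqp ?_ ?_)
    · rw [map_mul, map_mul] at h3
      rw [eq_inv_of_mul_eq_one_left h3, _root_.mul_inv_rev, inv_eq_of_mul_eq_one_left hi2, inv_eq_of_mul_eq_one_left hj2]
    · rw [← mul_assoc x M, show x * M = -(M * x) by rw [s1, neg_neg], neg_mul, mul_assoc M x, ← mul_assoc x y x, hqp.hxy,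
        neg_mul, mul_neg, neg_neg, ← mul_assoc M]
      simp only [mul_assoc]
    · rw [← mul_assoc y M, show y * M = -(M * y) by rw [s2, neg_neg], neg_mul, mul_assoc M y, mul_assoc M, mul_assoc y x y,
        hqp.hxy, mul_neg, mul_neg]

section fin
variable [Finite K]

local notation "ii" => (rho (qi K) : G1 K e)
local notation "jj" => (rho (qj K) : G1 K e)

theorem ii_sq : ii * ii = 1 := by rw [← map_mul, (qp (K := K) (e := e)).hx, rho_neg_one]
theorem jj_sq : jj * jj = 1 := by rw [← map_mul, (qp (K := K) (e := e)).hy, rho_neg_one]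
theorem ij_comm : ii * jj = jj * ii := by
  rw [← map_mul, ← map_mul, (qp (K := K) (e := e)).hxy, ← neg_one_mul, map_mul, rho_neg_one, one_mul]

theorem ii_ne : ii ≠ 1 := by
  intro h
  have h2 := two_ne' (K := K) (e := e)
  rcases rho_ker h with h1 | h1
  · exact (H17.QuatPair.one_ne h2 (qp (K := K) (e := e))).1 h1
  · exact (H17.QuatPair.one_ne h2 (qp (K := K) (e := e))).2 h1
theorem jj_ne : jj ≠ 1 := by
  intro h
  have h2 := two_ne' (K := K) (e := e)
  rcases rho_ker h with h1 | h1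
  · exact (H17.QuatPair.one_ne h2 (qp (K := K) (e := e)).symm).1 h1
  · exact (H17.QuatPair.one_ne h2 (qp (K := K) (e := e)).symm).2 h1
theorem ij_ne : ii ≠ jj := by
  intro h
  have h2 : (rho (qi K * qj K) : G1 K e) = 1 := by rw [map_mul, ← h, ii_sq]
  have h3 := (qp (K := K) (e := e)).mulr
  rcases rho_ker h2 with h1 | h1
  · exact (H17.QuatPair.one_ne (two_ne' (e := e)) h3.symm).1 h1
  · exact (H17.QuatPair.one_ne (two_ne' (e := e)) h3.symm).2 h1
theorem ii_ne_mul : ii ≠ ii * jj := fun h => jj_ne (left_eq_mul.1 h)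
theorem jj_ne_mul : jj ≠ ii * jj := fun h => ii_ne (right_eq_mul.1 h)
theorem mul_ne_one' : ii * jj ≠ 1 := by
  intro h
  apply ij_ne (K := K) (e := e)
  rw [eq_inv_of_mul_eq_one_left h, inv_eq_of_mul_eq_one_left jj_sq]

/-- the centraliser of `{a, i, j}` -/
noncomputable def E0 (K : Type*) [Field K] (e : ℕ) [RF K e] [Finite K] : Subgroup (G1 K e) :=
  Subgroup.centralizer {H24.ReeCen.inv, rho (qi K), rho (qj K)}

theorem mem_E0 {x : G1 K e} : x ∈ E0 K e ↔ iv * x = x * iv ∧ ii * x = x * ii ∧ jj * x = x * jj := by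
  unfold E0
  rw [Subgroup.mem_centralizer_iff]
  simp

theorem mem_E0' {x : G1 K e} (hx : x ∈ E0 K e) : ∃ z : G1 K e, (z = 1 ∨ z = ii ∨ z = jj ∨ z = ii * jj) ∧ (x = z ∨ x = iv * z) := by
  obtain ⟨h1, h2, h3⟩ := mem_E0.1 hx
  obtain ⟨M, hM⟩ := cent h1
  rcases hM with rfl | rfl
  · exact ⟨rho M, mem4 h2.symm h3.symm, Or.inl rfl⟩
  · refine ⟨rho M, mem4 ?_ ?_, Or.inr rfl⟩
    · rw [← mul_assoc, ← rho_comm, mul_assoc, mul_assoc] at h2
      exact (mul_left_cancel h2).symm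
    · rw [← mul_assoc, ← rho_comm, mul_assoc, mul_assoc] at h3
      exact (mul_left_cancel h3).symm

theorem sq_E0 {x : G1 K e} (hx : x ∈ E0 K e) : x * x = 1 := by
  have key : ∀ z : G1 K e, (z = 1 ∨ z = ii ∨ z = jj ∨ z = ii * jj) → z * z = 1 ∧ iv * z = z * iv := by
    rintro z (rfl | rfl | rfl | rfl)
    · simp
    · exact ⟨ii_sq, rho_comm _⟩
    · exact ⟨jj_sq, rho_comm _⟩
    · refine ⟨?_, by rw [← map_mul]; exact rho_comm _⟩
      rw [show ii * jj * (ii * jj) = ii * (jj * ii) * jj by group, ← ij_comm,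
        show ii * (ii * jj) * jj = (ii * ii) * (jj * jj) by group, ii_sq, jj_sq, one_mul]
  obtain ⟨z, hz, h | h⟩ := mem_E0' hx
  · rw [h]; exact (key z hz).1
  · rw [h]
    obtain ⟨k1, k2⟩ := key z hz
    rw [show iv * z * (iv * z) = iv * (z * iv) * z by group, ← k2,
      show iv * (iv * z) * z = (iv * iv) * (z * z) by group, inv_sq, k1, one_mul]

/-- the standard Sylow 2-subgroup -/
theorem exists_P {m : ℕ} (hn : Nat.card K = 3 ^ (2 * m + 1)) : ∃ P : Sylow 2 (G1 K e), (P : Subgroup (G1 K e)) = E0 K e := by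
  haveI : Fact (Nat.Prime 2) := ⟨Nat.prime_two⟩
  have h1 : IsPGroup 2 (E0 K e) := by
    intro x
    exact ⟨1, Subtype.ext (by
      change (x : G1 K e) ^ (2 ^ 1) = 1
      rw [pow_one, pow_two]; exact sq_E0 x.2)⟩
  obtain ⟨P, hP⟩ := h1.exists_le_sylow
  refine ⟨P, le_antisymm ?_ hP⟩
  have h2 := (sylow2 (e := e) hn P).2
  have hc : ∀ x ∈ P, ∀ y ∈ P, x * y = y * x := by
    intro x hx y hy
    rw [← inv_eq_of_mul_eq_one_left (h2 _ (mul_mem hx hy)), _root_.mul_inv_rev, inv_eq_of_mul_eq_one_left (h2 _ hx),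
      inv_eq_of_mul_eq_one_left (h2 _ hy)]
  have ha : iv ∈ P := hP (mem_E0.2 ⟨rfl, (rho_comm _).symm, (rho_comm _).symm⟩)
  have hi : ii ∈ P := hP (mem_E0.2 ⟨rho_comm _, rfl, ij_comm.symm⟩)
  have hj : jj ∈ P := hP (mem_E0.2 ⟨rho_comm _, ij_comm, rfl⟩)
  intro x hx
  exact mem_E0.2 ⟨hc _ ha _ hx, hc _ hi _ hx, hc _ hj _ hx⟩

theorem comm_E0 {x y : G1 K e} (hx : x ∈ E0 K e) (hy : y ∈ E0 K e) : x * y = y * x := by
  rw [← inv_eq_of_mul_eq_one_left (sq_E0 (mul_mem hx hy)), _root_.mul_inv_rev, inv_eq_of_mul_eq_one_left (sq_E0 hx),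
      inv_eq_of_mul_eq_one_left (sq_E0 hy)]

theorem iv_mem : iv ∈ E0 K e := mem_E0.2 ⟨rfl, (rho_comm _).symm, (rho_comm _).symm⟩
theorem ii_mem : ii ∈ E0 K e := mem_E0.2 ⟨rho_comm _, rfl, ij_comm.symm⟩
theorem jj_mem : jj ∈ E0 K e := mem_E0.2 ⟨rho_comm _, ij_comm, rfl⟩

theorem card_E0 {m : ℕ} (hn : Nat.card K = 3 ^ (2 * m + 1)) : Nat.card (E0 K e) = 8 := by
  obtain ⟨P, hP⟩ := exists_P (e := e) hn
  rw [← hP]
  exact (sylow2 hn P).1

theorem cent_E0 : Subgroup.centralizer (E0 K e : Set (G1 K e)) = E0 K e := by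
  apply le_antisymm
  · intro x hx
    rw [Subgroup.mem_centralizer_iff] at hx
    exact mem_E0.2 ⟨hx _ iv_mem, hx _ ii_mem, hx _ jj_mem⟩
  · intro x hx
    rw [Subgroup.mem_centralizer_iff]
    intro y hy
    exact comm_E0 hy hx

end fin

end H24.ReeFour
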