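/-
H24: the small Ree groups: normaliser of a Sylow 2-subgroup has order 168.
-/
import Cfsg.Agent.Lib.H24.ReeFour
set_option autoImplicit false
set_option linter.unusedSimpArgs false
set_option linter.unusedVariables false
set_option linter.unusedSectionVars false
namespace H24.ReeFour

open Cfsg.Lie Matrix H24.ReeBlk H24.ReeAd H24.ReeAl H24.ReeGood H24.ReePts H24.ReeGrp
open H24.ReeAct H24.ReeStr H24.ReeInt H24.ReeUni H24.ReeSub H24.ReeSyl H24.ReeSyl3 H24.ReeCen H24.ReeSyl2 H24.ReeInvo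
open scoped MatrixGroups Pointwise

variable {K : Type*} [Field K] {e : ℕ} [RF K e] [Finite K]

local notation "iv" => (H24.ReeCen.inv : G1 K e)
local notation "ii" => (rho (qi K) : G1 K e)
local notation "jj" => (rho (qj K) : G1 K e)

/-- an element of order three of SL(2,K) -/
def wh (K : Type*) [Field K] : SL(2, K) := ⟨!![0, -1; 1, 1], by simp [Matrix.det_fin_two]⟩

theorem wh_i {K : Type*} [Field K] {e : ℕ} [RF K e] : wh K * qi K = qj K * wh K := by
  have h3 := three0 (K := K) (e := e)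
  apply Subtype.ext
  change (wh K : Matrix (Fin 2) (Fin 2) K) * (qi K : Matrix (Fin 2) (Fin 2) K) = (qj K : Matrix (Fin 2) (Fin 2) K) * (wh K : Matrix (Fin 2) (Fin 2) K)
  rw [coe_qj, coe_qi]
  unfold wh
  ext i j; fin_cases i <;> fin_cases j <;> simp [Matrix.mul_apply, Fin.sum_univ_succ]
  all_goals linear_combination h3

theorem wh_j {K : Type*} [Field K] {e : ℕ} [RF K e] : wh K * qj K = qi K * qj K * wh K := by
  have h3 := three0 (K := K) (e := e)
  apply Subtype.ext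
  change (wh K : Matrix (Fin 2) (Fin 2) K) * (qj K : Matrix (Fin 2) (Fin 2) K) =
    (qi K : Matrix (Fin 2) (Fin 2) K) * (qj K : Matrix (Fin 2) (Fin 2) K) * (wh K : Matrix (Fin 2) (Fin 2) K)
  rw [coe_qj, coe_qi]
  unfold wh
  ext i j; fin_cases i <;> fin_cases j <;> simp [Matrix.mul_apply, Fin.sum_univ_succ]
  all_goals linear_combination h3

theorem wh_pow {K : Type*} [Field K] {e : ℕ} [RF K e] : wh K * wh K * wh K = -1 := by
  have h3 := three0 (K := K) (e := e)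
  apply Subtype.ext
  change (wh K : Matrix (Fin 2) (Fin 2) K) * (wh K : Matrix (Fin 2) (Fin 2) K) * (wh K : Matrix (Fin 2) (Fin 2) K) = -1
  unfold wh
  ext i j; fin_cases i <;> fin_cases j <;> simp [Matrix.mul_apply, Fin.sum_univ_succ]

local notation "ww" => (rho (wh K) : G1 K e)

theorem ww_i : ww * ii = jj * ww := by rw [← map_mul, ← map_mul, wh_i (e := e)]
theorem ww_j : ww * jj = ii * jj * ww := by rw [← map_mul, ← map_mul, ← map_mul, wh_j (e := e)]
theorem ww_pow : ww * ww * ww = 1 := by rw [← map_mul, ← map_mul, wh_pow (e := e), rho_neg_one]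
theorem ww_ne : ww ≠ 1 := by
  intro h
  have := ww_i (K := K) (e := e)
  rw [h, one_mul, mul_one] at this
  exact ij_ne this

theorem ww_norm : ww ∈ Subgroup.normalizer (E0 K e : Set (G1 K e)) := by
  apply Subgroup.mem_normalizer_fintype
  intro x hx
  obtain ⟨h1, h2, h3⟩ := mem_E0.1 hx
  have hcj : jj * (ww * x * ww⁻¹) = ww * x * ww⁻¹ * jj := by
    have : ww⁻¹ * jj = ii * ww⁻¹ := by rw [inv_mul_eq_iff_eq_mul, ← mul_assoc, ww_i]; group
    rw [mul_assoc (ww * x), this, ← mul_assoc, ← mul_assoc, ← ww_i, mul_assoc ww, h2]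
    group
  have hck : ii * jj * (ww * x * ww⁻¹) = ww * x * ww⁻¹ * (ii * jj) := by
    have : ww⁻¹ * (ii * jj) = jj * ww⁻¹ := by rw [inv_mul_eq_iff_eq_mul, ← mul_assoc, ww_j]; group
    rw [mul_assoc (ww * x), this, ← mul_assoc, ← mul_assoc, ← ww_j, mul_assoc ww, h3]
    group
  apply mem_E0.2
  refine ⟨?_, ?_, hcj⟩
  · have : ww⁻¹ * iv = iv * ww⁻¹ := by rw [← map_inv]; exact (rho_comm _).symm
    rw [mul_assoc (ww * x), this, ← mul_assoc, ← mul_assoc, rho_comm, mul_assoc ww, h1]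
    group
  · have hi : ii = ii * jj * jj := by rw [mul_assoc, jj_sq, mul_one]
    rw [hi]
    rw [mul_assoc (ii * jj), hcj, ← mul_assoc, hck, mul_assoc]

theorem transE0 {m : ℕ} (hn : Nat.card K = 3 ^ (2 * m + 1)) {t : G1 K e} (ht : t ∈ E0 K e) (hne : t ≠ 1) :
    ∃ n ∈ Subgroup.normalizer (E0 K e : Set (G1 K e)), n * iv * n⁻¹ = t := by
  haveI : Fact (Nat.Prime 2) := ⟨Nat.prime_two⟩
  obtain ⟨P, hP⟩ := exists_P (e := e) hn
  obtain ⟨g, hg⟩ := invo_conj hn (sq_E0 ht) hne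
  have h1 : t ∈ Subgroup.centralizer (P : Set (G1 K e)) := by
    change t ∈ Subgroup.centralizer ((P : Subgroup (G1 K e)) : Set (G1 K e))
    rw [hP, cent_E0]; exact ht
  have h2 : (g⁻¹)⁻¹ * t * g⁻¹ ∈ Subgroup.centralizer (P : Set (G1 K e)) := by
    rw [inv_inv, hg]
    change iv ∈ Subgroup.centralizer ((P : Subgroup (G1 K e)) : Set (G1 K e))
    rw [hP, cent_E0]; exact iv_mem
  obtain ⟨n, hn1, hn2⟩ := P.conj_eq_normalizer_conj_of_mem_centralizer t g⁻¹ h1 h2
  rw [inv_inv, hg] at hn2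
  refine ⟨n, ?_, ?_⟩
  · change n ∈ Subgroup.normalizer ((P : Subgroup (G1 K e)) : Set (G1 K e)) at hn1
    rwa [hP] at hn1
  · rw [hn2]; group

theorem ncard_inv {m : ℕ} (hn : Nat.card K = 3 ^ (2 * m + 1)) :
    {x : G1 K e | ∃ n ∈ Subgroup.normalizer (E0 K e : Set (G1 K e)), n * iv * n⁻¹ = x}.ncard = 7 := by
  have h1 : {x : G1 K e | ∃ n ∈ Subgroup.normalizer (E0 K e : Set (G1 K e)), n * iv * n⁻¹ = x} =
      (E0 K e : Set (G1 K e)) \ {1} := by
    ext x
    simp only [Set.mem_setOf_eq, Set.mem_diff, SetLike.mem_coe, Set.mem_singleton_iff]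
    constructor
    · rintro ⟨n, h, rfl⟩
      refine ⟨(Subgroup.mem_normalizer_iff.1 h _).1 iv_mem, ?_⟩
      intro h2
      apply inv_ne (K := K) (e := e)
      have : iv = n⁻¹ * (n * iv * n⁻¹) * n := by group
      rw [this, h2]; group
    · rintro ⟨h, hne⟩
      exact transE0 hn h hne
  rw [h1, Set.ncard_diff_singleton_of_mem (one_mem _)]
  change Nat.card (E0 K e) - 1 = 7
  rw [card_E0 hn]

theorem conj_mem4 {n : G1 K e} (hn : n ∈ Subgroup.normalizer (E0 K e : Set (G1 K e))) (hc : iv * n = n * iv) {N : SL(2, K)}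
    (hN : (rho N : G1 K e) ∈ E0 K e) (hN1 : (rho N : G1 K e) ≠ 1) :
    n * rho N * n⁻¹ = ii ∨ n * rho N * n⁻¹ = jj ∨ n * rho N * n⁻¹ = ii * jj := by
  have h1 : n * rho N * n⁻¹ ∈ E0 K e := (Subgroup.mem_normalizer_iff.1 hn _).1 hN
  have h2 : ∃ M : SL(2, K), n * rho N * n⁻¹ = rho M := by
    obtain ⟨M, rfl | rfl⟩ := cent hc
    · exact ⟨M * N * M⁻¹, by rw [map_mul, map_mul, map_inv]⟩
    · refine ⟨M * N * M⁻¹, ?_⟩
      have h5 : (rho M * rho N * (rho M)⁻¹ : G1 K e) = rho (M * N * M⁻¹) := by rw [map_mul, map_mul, map_inv]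
      rw [show iv * rho M * rho N * (iv * rho M)⁻¹ = iv * (rho M * rho N * (rho M)⁻¹) * iv⁻¹ by group, h5,
        rho_comm, mul_inv_cancel_right]
  obtain ⟨M, hM⟩ := h2
  rw [hM] at h1 ⊢
  obtain ⟨k1, k2, k3⟩ := mem_E0.1 h1
  rcases mem4 k2.symm k3.symm with h | h
  · exfalso
    apply hN1
    have : (rho N : G1 K e) = n⁻¹ * (n * rho N * n⁻¹) * n := by group
    rw [this, hM, h]; group
  · exact h

theorem card_cent {m : ℕ} (hn : Nat.card K = 3 ^ (2 * m + 1)) :
    Nat.card ↥(Subgroup.normalizer (E0 K e : Set (G1 K e)) ⊓ Subgroup.centralizer {iv}) = 24 := by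
  set C := Subgroup.normalizer (E0 K e : Set (G1 K e)) ⊓ Subgroup.centralizer {iv} with hC
  have hle : E0 K e ≤ C := by
    intro x hx
    exact ⟨Subgroup.le_normalizer hx, Subgroup.mem_centralizer_singleton_iff.2 (comm_E0 hx iv_mem)⟩
  have hmem : ∀ {n : G1 K e}, n ∈ C → n ∈ Subgroup.normalizer (E0 K e : Set (G1 K e)) ∧ iv * n = n * iv := by
    intro n hn
    exact ⟨hn.1, (Subgroup.mem_centralizer_singleton_iff.1 hn.2).symm⟩
  have h1 := orb_card C ii
  have h2 := orb_card (C ⊓ Subgroup.centralizer {ii}) jj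
  have h3 : C ⊓ Subgroup.centralizer {ii} ⊓ Subgroup.centralizer {jj} = E0 K e := by
    apply le_antisymm
    · rintro x ⟨⟨hx1, hx2⟩, hx3⟩
      exact mem_E0.2 ⟨(hmem hx1).2, (Subgroup.mem_centralizer_singleton_iff.1 hx2).symm,
        (Subgroup.mem_centralizer_singleton_iff.1 hx3).symm⟩
    · intro x hx
      exact ⟨⟨hle hx, Subgroup.mem_centralizer_singleton_iff.2 (comm_E0 hx ii_mem)⟩,
        Subgroup.mem_centralizer_singleton_iff.2 (comm_E0 hx jj_mem)⟩
  rw [h3, card_E0 hn] at h2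
  have hA : {x : G1 K e | ∃ n ∈ C, n * ii * n⁻¹ = x}.ncard ≤ 3 := by
    have hsub : {x : G1 K e | ∃ n ∈ C, n * ii * n⁻¹ = x} ⊆ ({ii, jj, ii * jj} : Set (G1 K e)) := by
      rintro x ⟨n, hn, rfl⟩
      exact conj_mem4 (hmem hn).1 (hmem hn).2 ii_mem ii_ne
    refine (Set.ncard_le_ncard hsub (Set.toFinite _)).trans ?_
    exact (Set.ncard_insert_le _ _).trans (Nat.succ_le_succ ((Set.ncard_insert_le _ _).trans (by rw [Set.ncard_singleton])))
  have hB : {x : G1 K e | ∃ n ∈ C ⊓ Subgroup.centralizer {ii}, n * jj * n⁻¹ = x}.ncard ≤ 2 := by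
    have hsub : {x : G1 K e | ∃ n ∈ C ⊓ Subgroup.centralizer {ii}, n * jj * n⁻¹ = x} ⊆ ({jj, ii * jj} : Set (G1 K e)) := by
      rintro x ⟨n, ⟨hn, hn'⟩, rfl⟩
      rcases conj_mem4 (hmem hn).1 (hmem hn).2 jj_mem jj_ne with h | h | h
      · exfalso
        have h4 := Subgroup.mem_centralizer_singleton_iff.1 hn'
        have h5 : n⁻¹ * ii * n = jj := by rw [← h]; group
        rw [mul_assoc, ← h4, inv_mul_cancel_left] at h5
        exact ij_ne h5
      · left; exact h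
      · right; exact h
    exact (Set.ncard_le_ncard hsub (Set.toFinite _)).trans ((Set.ncard_insert_le _ _).trans (by rw [Set.ncard_singleton]))
  have hw : ww ∈ C := ⟨ww_norm, Subgroup.mem_centralizer_singleton_iff.2 (rho_comm _).symm⟩
  have h3d : 3 ∣ Nat.card C := by
    have h4 := orderOf_dvd_natCard (⟨ww, hw⟩ : C)
    rw [Subgroup.orderOf_mk, orderOf_eq_prime (p := 3) (by rw [pow_succ, pow_two]; exact ww_pow) ww_ne] at h4
    exact h4
  have h16 : ¬ 16 ∣ Nat.card C := by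
    intro h
    obtain ⟨k, hk, hk2⟩ := card_eight (K := K) (e := e) hn
    have h5 := h.trans (Subgroup.card_subgroup_dvd_card C)
    rw [hk] at h5
    apply hk2
    exact Nat.dvd_of_mul_dvd_mul_left (by norm_num : 0 < 8) (by simpa using h5)
  set A := {x : G1 K e | ∃ n ∈ C, n * ii * n⁻¹ = x}.ncard
  set B := {x : G1 K e | ∃ n ∈ C ⊓ Subgroup.centralizer {ii}, n * jj * n⁻¹ = x}.ncard
  rw [h2] at h1
  have hpos : 0 < Nat.card C := Nat.card_pos
  rw [h1] at h3d h16 hpos ⊢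
  interval_cases A <;> interval_cases B <;> omega

theorem card_norm {m : ℕ} (hn : Nat.card K = 3 ^ (2 * m + 1)) :
    Nat.card (Subgroup.normalizer (E0 K e : Set (G1 K e))) = 168 := by
  rw [orb_card (Subgroup.normalizer (E0 K e : Set (G1 K e))) iv, ncard_inv hn, card_cent hn]

theorem main {m : ℕ} (hn : Nat.card K = 3 ^ (2 * m + 1)) (S : Sylow 2 (G1 K e)) :
    Subgroup.centralizer ((S : Subgroup (G1 K e)) : Set (G1 K e)) = S ∧
      Nat.card (Subgroup.normalizer ((S : Subgroup (G1 K e)) : Set (G1 K e))) = 168 := by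
  haveI : Fact (Nat.Prime 2) := ⟨Nat.prime_two⟩
  obtain ⟨P, hP⟩ := exists_P (e := e) hn
  obtain ⟨g, hg⟩ := MulAction.exists_smul_eq (G1 K e) S P
  have hmem : ∀ x, x ∈ (S : Subgroup (G1 K e)) ↔ g * x * g⁻¹ ∈ E0 K e := by
    intro x
    rw [← hP, ← hg]
    constructor
    · intro h; exact ⟨x, h, rfl⟩
    · rintro ⟨y, hy, h⟩
      have h2 : g * y * g⁻¹ = g * x * g⁻¹ := h
      have : y = x := mul_left_cancel (mul_right_cancel h2)
      rwa [← this]
  constructor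
  · ext x
    rw [hmem, ← cent_E0, Subgroup.mem_centralizer_iff, Subgroup.mem_centralizer_iff]
    constructor
    · intro h y hy
      have h1 := h (g⁻¹ * y * g) ((hmem _).2 (by
        rw [show g * (g⁻¹ * y * g) * g⁻¹ = y by group]; exact hy))
      calc y * (g * x * g⁻¹) = g * ((g⁻¹ * y * g) * x) * g⁻¹ := by group
        _ = g * (x * (g⁻¹ * y * g)) * g⁻¹ := by rw [h1]
        _ = _ := by group
    · intro h y hy
      have h1 := h _ ((hmem y).1 hy)
      calc y * x = g⁻¹ * ((g * y * g⁻¹) * (g * x * g⁻¹)) * g := by group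
        _ = g⁻¹ * ((g * x * g⁻¹) * (g * y * g⁻¹)) * g := by rw [h1]
        _ = _ := by group
  · rw [← card_norm (e := e) hn]
    refine Nat.card_congr ⟨fun x => ⟨g * x * g⁻¹, ?_⟩, fun x => ⟨g⁻¹ * x * g, ?_⟩, ?_, ?_⟩
    · rw [Subgroup.mem_normalizer_iff]
      intro y
      have h1 := Subgroup.mem_normalizer_iff.1 x.2 (g⁻¹ * y * g)
      change g⁻¹ * y * g ∈ (S : Subgroup (G1 K e)) ↔ _ ∈ (S : Subgroup (G1 K e)) at h1
      rw [hmem, hmem] at h1
      rw [show g * (g⁻¹ * y * g) * g⁻¹ = y by group] at h1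
      change y ∈ E0 K e ↔ g * x * g⁻¹ * y * (g * x * g⁻¹)⁻¹ ∈ E0 K e
      rw [h1, show g * (x * (g⁻¹ * y * g) * (x : G1 K e)⁻¹) * g⁻¹ = g * x * g⁻¹ * y * (g * x * g⁻¹)⁻¹ by group]
    · rw [Subgroup.mem_normalizer_iff]
      intro y
      have h1 := Subgroup.mem_normalizer_iff.1 x.2 (g * y * g⁻¹)
      change g * y * g⁻¹ ∈ E0 K e ↔ _ ∈ E0 K e at h1
      change y ∈ (S : Subgroup (G1 K e)) ↔ g⁻¹ * x * g * y * (g⁻¹ * x * g)⁻¹ ∈ (S : Subgroup (G1 K e))
      rw [hmem, hmem, h1]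
      rw [show g * (g⁻¹ * x * g * y * (g⁻¹ * x * g)⁻¹) * g⁻¹ = x * (g * y * g⁻¹) * (x : G1 K e)⁻¹ by group]
    · intro x
      exact Subtype.ext (by change g⁻¹ * (g * x * g⁻¹) * g = x; group)
    · intro x
      exact Subtype.ext (by change g * (g⁻¹ * x * g) * g⁻¹ = x; group)

end H24.ReeFour
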