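/-
H24: the small Ree groups: the torus of order q - 1.
-/
import Cfsg.Agent.Lib.H24.ReeFour2
import Cfsg.Agent.Lib.H24.FourCent
set_option autoImplicit false
set_option linter.unusedSimpArgs false
set_option linter.unusedVariables false
set_option linter.unusedSectionVars false
namespace H24.ReeTor

open Cfsg.Lie Matrix H24.ReeBlk H24.ReeAd H24.ReeAl H24.ReeGood H24.ReePts H24.ReeGrp
open H24.ReeAct H24.ReeStr H24.ReeInt H24.ReeUni H24.ReeSub H24.ReeSyl H24.ReeSyl3 H24.ReeCen H24.ReeSyl2 H24.ReeInvo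
open H24.ReeFour
open scoped MatrixGroups Pointwise

section gen
variable {G : Type*} [Group G] [Finite G]

theorem orderOf_conj' (g x : G) : orderOf (g * x * g⁻¹) = orderOf x := by
  have := (MulAut.conj g).orderOf_eq x
  rwa [MulAut.conj_apply] at this

theorem exists_pow_prime {g : G} {p : ℕ} (_hp : p.Prime) (h : p ∣ orderOf g) :
    ∃ c : ℕ, orderOf (g ^ c) = p := by
  obtain ⟨c, hc⟩ := h
  have hc0 : c ≠ 0 := by
    rintro rfl
    rw [mul_zero] at hc
    exact (orderOf_pos g).ne' hc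
  exact ⟨c, by rw [orderOf_pow_of_dvd hc0 (hc ▸ dvd_mul_left c p), hc, Nat.mul_div_cancel _ (Nat.pos_of_ne_zero hc0)]⟩

/-- an element of prime order `r` is conjugate into any subgroup of index prime to `r` -/
theorem conj_of_index (H : Subgroup G) {r : ℕ} (hr : r.Prime) (h : ¬ r ∣ H.index) {x : G} {k : ℕ} (hx : orderOf x = r ^ k) :
    ∃ g : G, g * x * g⁻¹ ∈ H := by
  haveI : Fact r.Prime := ⟨hr⟩
  have hQ : IsPGroup r (Subgroup.zpowers x) := by
    apply IsPGroup.of_card (n := k)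
    rw [Nat.card_zpowers, hx]
  obtain ⟨c, hc⟩ := hQ.nonempty_fixed_point_of_prime_not_dvd_card (G ⧸ H) h
  obtain ⟨g, rfl⟩ := QuotientGroup.mk_surjective c
  refine ⟨g⁻¹, ?_⟩
  have h1 := hc ⟨x, Subgroup.mem_zpowers x⟩
  have h2 : (QuotientGroup.mk (x * g) : G ⧸ H) = QuotientGroup.mk g := h1
  have h3 := QuotientGroup.eq.1 h2.symm
  rw [inv_inv, mul_assoc]
  exact h3

theorem centralizer_conj (g x : G) {y : G} : y ∈ Subgroup.centralizer {g * x * g⁻¹} ↔ g⁻¹ * y * g ∈ Subgroup.centralizer {x} := by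
  rw [Subgroup.mem_centralizer_singleton_iff, Subgroup.mem_centralizer_singleton_iff]
  constructor
  · intro h
    calc g⁻¹ * y * g * x = g⁻¹ * (y * (g * x * g⁻¹)) * g := by group
      _ = g⁻¹ * ((g * x * g⁻¹) * y) * g := by rw [h]
      _ = _ := by group
  · intro h
    calc y * (g * x * g⁻¹) = g * ((g⁻¹ * y * g) * x) * g⁻¹ := by group
      _ = g * (x * (g⁻¹ * y * g)) * g⁻¹ := by rw [h]
      _ = _ := by group

theorem card_centralizer_conj (g x : G) : Nat.card (Subgroup.centralizer {g * x * g⁻¹}) = Nat.card (Subgroup.centralizer {x}) := by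
  refine Nat.card_congr ⟨fun y => ⟨g⁻¹ * y * g, (centralizer_conj g x).1 y.2⟩, fun y => ⟨g * y * g⁻¹, ?_⟩, ?_, ?_⟩
  · rw [centralizer_conj]
    rw [show g⁻¹ * (g * (y : G) * g⁻¹) * g = y by group]
    exact y.2
  · intro y; exact Subtype.ext (by change g * (g⁻¹ * (y : G) * g) * g⁻¹ = y; group)
  · intro y; exact Subtype.ext (by change g⁻¹ * (g * (y : G) * g⁻¹) * g = y; group)

end gen

variable {K : Type*} [Field K] {e : ℕ} [RF K e] [Finite K]

local notation "iv" => (H24.ReeCen.inv : G1 K e)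

theorem hT_one : (hT (1 : Kˣ) : G1 K e) = 1 := map_one (hTH (K := K) (e := e))

/-- the torus of order `q - 1` -/
noncomputable def T1 (K : Type*) [Field K] (e : ℕ) [RF K e] [Finite K] : Subgroup (G1 K e) := (hTH (K := K) (e := e)).range

theorem mem_T1 {g : G1 K e} : g ∈ T1 K e ↔ g • (none : Pt K) = none ∧ g • (o0 : Pt K) = o0 := by
  constructor
  · rintro ⟨l, rfl⟩
    exact ⟨(hT_fix l).1, (hT_fix l).2.1⟩
  · rintro ⟨h1, h2⟩
    obtain ⟨l, rfl, -⟩ := exists_hT h1 h2
    exact ⟨l, rfl⟩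

theorem card_T1 : Nat.card (T1 K e) = Nat.card K - 1 := by
  have h : Function.Injective (hTH (K := K) (e := e)) := fun l l' h => hT_inj h
  have := Nat.card_congr (MonoidHom.ofInjective h).toEquiv
  unfold T1
  rw [← this, Nat.card_units]

theorem cyclic_T1 : IsCyclic (T1 K e) := by
  have h : Function.Injective (hTH (K := K) (e := e)) := fun l l' h => hT_inj h
  exact isCyclic_of_surjective (MonoidHom.ofInjective h).toMonoidHom (MonoidHom.ofInjective h).surjective

/-- elements of the torus, not of order at most two, fix exactly two points -/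
theorem T1_fix {u : G1 K e} (hu : u ∈ T1 K e) (hne : u * u ≠ 1) {p : Pt K} (hp : u • p = p) : p = none ∨ p = o0 := by
  obtain ⟨h0, h1⟩ := mem_T1.1 hu
  rcases p with _ | ⟨t, u', v⟩
  · exact Or.inl rfl
  · right
    by_contra hcon
    have hne' : (t, u', v) ≠ ((0 : K), (0 : K), (0 : K)) := fun h => hcon (by rw [h])
    rcases three_pt h0 h1 hne' hp with h | ⟨h, -⟩
    · exact hne (by rw [h, one_mul])
    · exact hne (by rw [h]; exact inv_sq)

theorem none_ne_o0 : (none : Pt K) ≠ o0 := by simp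

/-- elements normalising a suitable subgroup of the torus permute the two points -/
theorem perm_of_conj {g u : G1 K e} (hu : u ∈ T1 K e) (hu2 : g * u * g⁻¹ ∈ T1 K e) (hne : u * u ≠ 1) :
    (g • (none : Pt K) = none ∧ g • (o0 : Pt K) = o0) ∨ (g • (none : Pt K) = o0 ∧ g • (o0 : Pt K) = none) := by
  have hne2 : (g * u * g⁻¹) * (g * u * g⁻¹) ≠ 1 := by
    intro h
    apply hne
    calc u * u = g⁻¹ * ((g * u * g⁻¹) * (g * u * g⁻¹)) * g := by group
      _ = 1 := by rw [h]; group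
  have hp : ∀ p : Pt K, u • p = p → (g * u * g⁻¹) • (g • p) = g • p := by
    intro p h
    rw [mul_smul, mul_smul, inv_smul_smul, h]
  have h0 := T1_fix hu2 hne2 (hp _ (mem_T1.1 hu).1)
  have h1 := T1_fix hu2 hne2 (hp _ (mem_T1.1 hu).2)
  rcases h0 with h0 | h0 <;> rcases h1 with h1 | h1
  · exfalso
    have := MulAction.injective g (h0.trans h1.symm)
    exact none_ne_o0 this
  · exact Or.inl ⟨h0, h1⟩
  · exact Or.inr ⟨h0, h1⟩
  · exfalso
    have := MulAction.injective g (h0.trans h1.symm)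
    exact none_ne_o0 this

/-- elements exchanging the two points invert the torus -/
theorem swap_inv {g : G1 K e} (h0 : g • (none : Pt K) = o0) (h1 : g • (o0 : Pt K) = none) (l : Kˣ) :
    g * hT l * g⁻¹ = (hT l)⁻¹ := by
  have k0 : g⁻¹ • (none : Pt K) = o0 := by rw [inv_smul_eq_iff, h1]
  have k1 : g⁻¹ • (o0 : Pt K) = none := by rw [inv_smul_eq_iff, h0]
  have m0 : (g * hT l * g⁻¹) • (none : Pt K) = none := by rw [mul_smul, mul_smul, k0, (hT_fix l).2.1, h1]
  have m1 : (g * hT l * g⁻¹) • (o0 : Pt K) = o0 := by rw [mul_smul, mul_smul, k1, (hT_fix l).1, h0]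
  obtain ⟨l', hl', hl2⟩ := exists_hT m0 m1
  have h2 : (l' : K) = (l : K)⁻¹ := by
    rw [hl2, ml_mul, ml_mul, k0, (hT_fix l).2.1]
    have h3 : ml (hT l : G1 K e) (o0 : Pt K) = (l : K)⁻¹ := (hT_smul l 0 0 0).2
    rw [h3]
    have h4 := ml_mul g g⁻¹ (none : Pt K)
    rw [mul_inv_cancel, ml_one, k0] at h4
    rw [mul_right_comm, ← h4, one_mul]
  have h5 : l' = l⁻¹ := Units.ext (by rw [h2]; simp)
  rw [hl', h5]
  apply eq_inv_of_mul_eq_one_left
  rw [← hT_mul, inv_mul_cancel, hT_one]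

theorem cent_T1 {u : G1 K e} (hu : u ∈ T1 K e) (hne : u * u ≠ 1) : Subgroup.centralizer {u} = T1 K e := by
  ext g
  rw [Subgroup.mem_centralizer_singleton_iff]
  constructor
  · intro h
    have hc : g * u * g⁻¹ = u := by rw [h]; group
    rcases perm_of_conj (g := g) hu (by rw [hc]; exact hu) hne with h1 | ⟨h1, h2⟩
    · exact mem_T1.2 h1
    · exfalso
      obtain ⟨l, rfl⟩ := hu
      have := swap_inv h1 h2 l
      change g * hT l * g⁻¹ = hT l at hc
      rw [hc] at this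
      apply hne
      change (hT l : G1 K e) * hT l = 1
      nth_rewrite 1 [this]
      exact inv_mul_cancel _
  · intro hg
    obtain ⟨l, rfl⟩ := hu
    obtain ⟨l', rfl⟩ := hg
    change hT l' * hT l = hT l * hT l'
    rw [← hT_mul, ← hT_mul, mul_comm]

/-- the stabiliser of the pair of points -/
def NT (K : Type*) [Field K] (e : ℕ) [RF K e] [Finite K] : Subgroup (G1 K e) where
  carrier := {g | (g • (none : Pt K) = none ∧ g • (o0 : Pt K) = o0) ∨ (g • (none : Pt K) = o0 ∧ g • (o0 : Pt K) = none)}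
  one_mem' := Or.inl ⟨one_smul _ _, one_smul _ _⟩
  mul_mem' := by
    rintro a b (⟨a1, a2⟩ | ⟨a1, a2⟩) (⟨b1, b2⟩ | ⟨b1, b2⟩)
    · exact Or.inl ⟨by rw [mul_smul, b1, a1], by rw [mul_smul, b2, a2]⟩
    · exact Or.inr ⟨by rw [mul_smul, b1, a2], by rw [mul_smul, b2, a1]⟩
    · exact Or.inr ⟨by rw [mul_smul, b1, a1], by rw [mul_smul, b2, a2]⟩
    · exact Or.inl ⟨by rw [mul_smul, b1, a2], by rw [mul_smul, b2, a1]⟩
  inv_mem' := by
    rintro a (⟨a1, a2⟩ | ⟨a1, a2⟩)
    · exact Or.inl ⟨by rw [inv_smul_eq_iff, a1], by rw [inv_smul_eq_iff, a2]⟩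
    · exact Or.inr ⟨by rw [inv_smul_eq_iff, a2], by rw [inv_smul_eq_iff, a1]⟩

theorem mem_NT {g : G1 K e} : g ∈ NT K e ↔
    (g • (none : Pt K) = none ∧ g • (o0 : Pt K) = o0) ∨ (g • (none : Pt K) = o0 ∧ g • (o0 : Pt K) = none) := Iff.rfl

theorem exists_swap' : ∃ g : G1 K e, g • (none : Pt K) = o0 ∧ g • (o0 : Pt K) = none := by
  obtain ⟨n, h1, h2, -⟩ := exists_swap (K := K) (e := e) (t := 1) (u := 0) (v := 0) (by simp)
  exact ⟨n, h1, h2⟩

theorem card_NT : Nat.card (NT K e) = 2 * (Nat.card K - 1) := by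
  obtain ⟨w, w1, w2⟩ := exists_swap' (K := K) (e := e)
  have hw : w ∈ NT K e := Or.inr ⟨w1, w2⟩
  have hle : T1 K e ≤ NT K e := fun x hx => Or.inl (mem_T1.1 hx)
  have h1 : Nat.card (NT K e) = Nat.card (Bool × T1 K e) := by
    apply Nat.card_congr
    symm
    refine Equiv.ofBijective (fun x => if x.1 then ⟨w * x.2, mul_mem hw (hle x.2.2)⟩ else ⟨x.2, hle x.2.2⟩) ⟨?_, ?_⟩
    · rintro ⟨b, x⟩ ⟨b', x'⟩ h
      have hx := (mem_T1.1 x.2)
      have hx' := (mem_T1.1 x'.2)
      cases b <;> cases b' <;> simp at h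
      · exact Prod.ext rfl h
      · exfalso
        have := congrArg (fun g : G1 K e => g • (none : Pt K)) h
        simp only [mul_smul, hx.1, hx'.1, w1] at this
        exact none_ne_o0 this
      · exfalso
        have := congrArg (fun g : G1 K e => g • (none : Pt K)) h
        simp only [mul_smul, hx.1, hx'.1, w1] at this
        exact none_ne_o0 this.symm
      · exact Prod.ext rfl h
    · rintro ⟨g, hg⟩
      rcases hg with hg | ⟨g1, g2⟩
      · exact ⟨⟨false, ⟨g, mem_T1.2 hg⟩⟩, rfl⟩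
      · refine ⟨⟨true, ⟨w⁻¹ * g, mem_T1.2 ⟨?_, ?_⟩⟩⟩, ?_⟩
        · rw [mul_smul, g1, inv_smul_eq_iff, w1]
        · rw [mul_smul, g2, inv_smul_eq_iff, w2]
        · simp
  rw [h1, Nat.card_prod, card_T1]
  simp

/-- normalisers of subgroups of the torus -/
theorem norm_T1 {A : Subgroup (G1 K e)} (hA : A ≤ T1 K e) {u : G1 K e} (hu : u ∈ A) (hne : u * u ≠ 1) :
    Subgroup.normalizer (A : Set (G1 K e)) = NT K e := by
  apply le_antisymm
  · intro g hg
    exact perm_of_conj (hA hu) (hA ((Subgroup.mem_normalizer_iff.1 hg u).1 hu)) hne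
  · intro g hg
    apply Subgroup.mem_normalizer_fintype
    intro x hx
    obtain ⟨l, rfl⟩ := hA hx
    rcases hg with hg | ⟨g1, g2⟩
    · obtain ⟨l', rfl⟩ := mem_T1.2 hg
      change hT l' * hT l * (hT l')⁻¹ ∈ _
      rw [← hT_mul, mul_comm, hT_mul, mul_inv_cancel_right]
      exact hx
    · change g * hT l * g⁻¹ ∈ _
      rw [swap_inv g1 g2]
      exact inv_mem hx

end H24.ReeTor
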