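/-
H24: the small Ree groups: commuting elements of prime order.
-/
import Cfsg.Agent.Lib.H24.ReeTor1
import Cfsg.Agent.Lib.H40.SL2Tori
import Cfsg.Agent.Lib.H43.SLTorus
set_option autoImplicit false
set_option linter.unusedSimpArgs false
set_option linter.unusedVariables false
set_option linter.unusedSectionVars false
namespace H24.ReeTor

open Cfsg.Lie Matrix H24.ReeBlk H24.ReeAd H24.ReeAl H24.ReeGood H24.ReePts H24.ReeGrp
open H24.ReeAct H24.ReeStr H24.ReeInt H24.ReeUni H24.ReeSub H24.ReeSyl H24.ReeSyl3 H24.ReeCen H24.ReeSyl2 H24.ReeInvo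
open H24.ReeFour
open scoped MatrixGroups Pointwise

variable {K : Type*} [Field K] {e : ℕ} [RF K e] [Finite K]

local notation "iv" => (H24.ReeCen.inv : G1 K e)

theorem orderOf_dvd_of_fix {y : G1 K e} {p : Pt K} (h : y • p = p) : orderOf y ∣ Nat.card K ^ 3 * (Nat.card K - 1) := by
  obtain ⟨g, hg⟩ := trans_pt (K := K) (e := e) p none
  have h1 : g * y * g⁻¹ ∈ MulAction.stabilizer (G1 K e) (none : Pt K) := by
    rw [MulAction.mem_stabilizer_iff, mul_smul, mul_smul, ← hg, inv_smul_smul, h]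
  have h2 := orderOf_dvd_natCard (⟨_, h1⟩ : MulAction.stabilizer (G1 K e) (none : Pt K))
  rwa [Subgroup.orderOf_mk, orderOf_conj', card_stab] at h2

/-- a nontrivial 3-element fixes exactly one point -/
theorem fix3 {m : ℕ} (hn : Nat.card K = 3 ^ m) {z : G1 K e} {k : ℕ} (hz : orderOf z = 3 ^ k) (hz1 : z ≠ 1) :
    ∃ p : Pt K, z • p = p ∧ ∀ p' : Pt K, z • p' = p' → p' = p := by
  have hQ : IsPGroup 3 (Subgroup.zpowers z) := by
    apply IsPGroup.of_card (n := k)
    rw [Nat.card_zpowers, hz]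
  obtain ⟨P, hP⟩ := hQ.exists_le_sylow
  obtain ⟨g, hg⟩ := exists_conj hn P
  have h1 := (hg z).1 (hP (Subgroup.mem_zpowers z))
  have hne : g⁻¹ * z * g ≠ 1 := by
    intro h
    apply hz1
    have : z = g * (g⁻¹ * z * g) * g⁻¹ := by group
    rw [this, h]; group
  refine ⟨g • none, ?_, ?_⟩
  · have := h1.1
    rw [mul_smul, mul_smul, inv_smul_eq_iff] at this
    exact this
  · intro p' hp'
    have : (g⁻¹ * z * g) • (g⁻¹ • p') = g⁻¹ • p' := by
      rw [mul_smul, mul_smul, smul_inv_smul, hp']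
    rw [← U1_fix h1 hne this, smul_inv_smul]

theorem comm3 {m : ℕ} (hn : Nat.card K = 3 ^ m) {z y : G1 K e} {k : ℕ} (hz : orderOf z = 3 ^ k) (hz1 : z ≠ 1)
    (h : z * y = y * z) : orderOf y ∣ Nat.card K ^ 3 * (Nat.card K - 1) := by
  obtain ⟨p, hp, hu⟩ := fix3 hn hz hz1
  apply orderOf_dvd_of_fix (p := p)
  apply hu
  rw [← mul_smul, h, mul_smul, hp]

/-- odd primes dividing `q - 1` -/
theorem conj_T1 {m : ℕ} (hn : Nat.card K = 3 ^ m) {r k : ℕ} (hr : r.Prime) (hr2 : r ≠ 2) (hd : r ∣ Nat.card K - 1) {v : G1 K e}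
    (hv : orderOf v = r ^ k) : ∃ g : G1 K e, g * v * g⁻¹ ∈ T1 K e := by
  apply conj_of_index _ hr _ hv
  have h1 := Subgroup.card_mul_index (T1 K e)
  rw [card_T1, card_G1] at h1
  have hq : 1 < Nat.card K := Finite.one_lt_card
  have h2 : (T1 K e).index = Nat.card K ^ 3 * (Nat.card K ^ 3 + 1) := by
    apply Nat.eq_of_mul_eq_mul_left (show 0 < Nat.card K - 1 by omega)
    rw [h1]; ring
  rw [h2]
  intro h
  have hK1 : (Nat.card K) % r = 1 % r := by
    have : (Nat.card K - 1) % r = 0 := Nat.mod_eq_zero_of_dvd hd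
    obtain ⟨c, hc⟩ := hd
    have : Nat.card K = 1 + r * c := by omega
    rw [this, Nat.add_mul_mod_self_left]
  have hmod : Nat.card K ≡ 1 [MOD r] := hK1
  have h3 : Nat.card K ^ 3 * (Nat.card K ^ 3 + 1) ≡ 1 ^ 3 * (1 ^ 3 + 1) [MOD r] :=
    (hmod.pow 3).mul ((hmod.pow 3).add_right 1)
  have h4 : r ∣ 1 ^ 3 * (1 ^ 3 + 1) := (Nat.modEq_zero_iff_dvd.1 ((h3.symm.trans (Nat.modEq_zero_iff_dvd.2 h))))
  norm_num at h4
  exact hr2 ((Nat.prime_dvd_prime_iff_eq hr Nat.prime_two).1 h4)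

theorem sq_ne_of_prime {G : Type*} [Group G] {v : G} {r : ℕ} (hr : r.Prime) (hr2 : r ≠ 2) (hv : orderOf v = r) : v * v ≠ 1 := by
  intro h
  have h1 : orderOf v ∣ 2 := orderOf_dvd_of_pow_eq_one (by rw [pow_two, h])
  rw [hv] at h1
  exact hr2 ((Nat.prime_dvd_prime_iff_eq hr Nat.prime_two).1 h1)

/-- elements commuting with an element of odd prime order dividing `q - 1` -/
theorem cent_h {m : ℕ} (hn : Nat.card K = 3 ^ m) {r : ℕ} (hr : r.Prime) (hr2 : r ≠ 2) (hd : r ∣ Nat.card K - 1) {v : G1 K e}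
    (hv : orderOf v = r) : Nat.card (Subgroup.centralizer {v}) = Nat.card K - 1 ∧
    ∃ g : G1 K e, ∀ y : G1 K e, v * y = y * v → g * y * g⁻¹ ∈ T1 K e := by
  obtain ⟨g, hg⟩ := conj_T1 hn hr hr2 hd (v := v) (k := 1) (by rw [pow_one, hv])
  have h1 := cent_T1 hg (sq_ne_of_prime hr hr2 (by rw [orderOf_conj', hv]))
  refine ⟨?_, g, ?_⟩
  · rw [← card_centralizer_conj g v, h1, card_T1]
  · intro y hy
    rw [← h1, centralizer_conj]
    rw [show g⁻¹ * (g * y * g⁻¹) * g = y by group, Subgroup.mem_centralizer_singleton_iff]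
    exact hy.symm

/-! ### the two-fold cover of centralisers -/

theorem card_double {R : Subgroup SL(2, K)} (hR : (-1 : SL(2, K)) ∈ R) {D : Subgroup (G1 K e)}
    (hD : ∀ g, g ∈ D ↔ ∃ N ∈ R, g = rho N ∨ g = iv * rho N) : Nat.card D = Nat.card R := by
  set f : R →* G1 K e := rho.comp R.subtype with hf
  have hker : Nat.card f.ker = 2 := by
    have h1 : (f.ker : Set R) = {1, ⟨-1, hR⟩} := by
      ext x
      simp only [SetLike.mem_coe, MonoidHom.mem_ker, Set.mem_insert_iff, Set.mem_singleton_iff]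
      constructor
      · intro h
        rcases rho_ker (K := K) (e := e) (M := (x : SL(2, K))) h with h2 | h2
        · exact Or.inl (Subtype.ext h2)
        · exact Or.inr (Subtype.ext h2)
      · rintro (rfl | rfl)
        · exact map_one f
        · exact rho_neg_one
    have h2 : (1 : R) ≠ ⟨-1, hR⟩ := by
      intro h
      have h3 := congrArg Subtype.val h
      exact H58.SL2Prod.neg_one_ne_one (two_ne' (K := K) (e := e)) h3.symm
    have h3 : Nat.card f.ker = (f.ker : Set R).ncard := rfl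
    rw [h3, h1, Set.ncard_pair h2]
  have h1 : Nat.card f.ker * Nat.card f.range = Nat.card R := by
    rw [← Subgroup.card_mul_index f.ker, Subgroup.index_ker]
  have hle : ∀ x ∈ f.range, x ∈ D := by
    rintro _ ⟨x, rfl⟩
    exact (hD _).2 ⟨x, x.2, Or.inl rfl⟩
  have hiv : iv ∈ D := (hD _).2 ⟨1, one_mem _, Or.inr (by rw [map_one, mul_one])⟩
  have h2 : Nat.card D = Nat.card (Bool × f.range) := by
    apply Nat.card_congr
    symm
    refine Equiv.ofBijective (fun x => if x.1 then ⟨iv * x.2, mul_mem hiv (hle _ x.2.2)⟩ else ⟨x.2, hle _ x.2.2⟩) ⟨?_, ?_⟩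
    · rintro ⟨b, ⟨_, ⟨x, rfl⟩⟩⟩ ⟨b', ⟨_, ⟨x', rfl⟩⟩⟩ h
      cases b <;> cases b' <;> simp at h
      · exact Prod.ext rfl (Subtype.ext h)
      · exfalso
        apply inv_ne_rho (K := K) (e := e) ((x : SL(2, K)) * (x' : SL(2, K))⁻¹)
        rw [map_mul, map_inv]
        exact (eq_mul_inv_of_mul_eq h.symm)
      · exfalso
        apply inv_ne_rho (K := K) (e := e) ((x' : SL(2, K)) * (x : SL(2, K))⁻¹)
        rw [map_mul, map_inv]
        exact (eq_mul_inv_of_mul_eq h)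
      · exact Prod.ext rfl (Subtype.ext h)
    · rintro ⟨g, hg⟩
      obtain ⟨N, hN, h | h⟩ := (hD g).1 hg
      · exact ⟨⟨false, ⟨g, ⟨⟨N, hN⟩, h.symm⟩⟩⟩, rfl⟩
      · refine ⟨⟨true, ⟨rho N, ⟨⟨N, hN⟩, rfl⟩⟩⟩, Subtype.ext h.symm⟩
  rw [h2, Nat.card_prod, ← h1, hker]
  simp

theorem card_cent_inv : Nat.card (Subgroup.centralizer {iv}) = Nat.card K * (Nat.card K ^ 2 - 1) := by
  haveI : Fintype K := Fintype.ofFinite K
  rw [card_double (R := ⊤) (Subgroup.mem_top _) (D := Subgroup.centralizer {iv})]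
  · rw [Subgroup.card_top, H40.SL2Tori.card_SL2, Nat.card_eq_fintype_card]
    have hq : 1 < Fintype.card K := Fintype.one_lt_card
    obtain ⟨c, hc⟩ : ∃ c, Fintype.card K = c + 1 := ⟨Fintype.card K - 1, by omega⟩
    rw [hc]
    have : (c + 1) ^ 2 - 1 = c * (c + 2) := by
      have : (c + 1) ^ 2 = c * (c + 2) + 1 := by ring
      omega
    rw [this, Nat.add_sub_cancel]
    ring
  · intro g
    rw [Subgroup.mem_centralizer_singleton_iff]
    constructor
    · intro h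
      obtain ⟨M, hM⟩ := cent h.symm
      exact ⟨M, Subgroup.mem_top _, hM⟩
    · rintro ⟨N, -, rfl | rfl⟩
      · exact (rho_comm _).symm
      · rw [mul_assoc, ← rho_comm]

theorem card_cent_invo {m : ℕ} (hn : Nat.card K = 3 ^ (2 * m + 1)) {t : G1 K e} (h1 : t * t = 1) (hne : t ≠ 1) :
    Nat.card (Subgroup.centralizer {t}) = Nat.card K * (Nat.card K ^ 2 - 1) := by
  obtain ⟨g, hg⟩ := invo_conj hn h1 hne
  rw [← card_centralizer_conj g t, hg, card_cent_inv]

end H24.ReeTor
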