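/-
H24: the small Ree groups: elements of odd prime order dividing q + 1.
-/
import Cfsg.Agent.Lib.H24.ReeTor2
set_option autoImplicit false
set_option linter.unusedSimpArgs false
set_option linter.unusedVariables false
set_option linter.unusedSectionVars false
namespace H24.ReeTor

open Cfsg.Lie Matrix H24.ReeBlk H24.ReeAd H24.ReeAl H24.ReeGood H24.ReePts H24.ReeGrp
open H24.ReeAct H24.ReeStr H24.ReeInt H24.ReeUni H24.ReeSub H24.ReeSyl H24.ReeSyl3 H24.ReeCen H24.ReeSyl2 H24.ReeInvo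
open H24.ReeFour
open scoped MatrixGroups Pointwise

theorem card_inf_conj {G : Type*} [Group G] [Finite G] (g x y : G) :
    Nat.card ↥(Subgroup.centralizer {g * x * g⁻¹} ⊓ Subgroup.centralizer {g * y * g⁻¹}) =
      Nat.card ↥(Subgroup.centralizer {x} ⊓ Subgroup.centralizer {y}) := by
  refine Nat.card_congr ⟨fun z => ⟨g⁻¹ * z * g, (centralizer_conj g x).1 z.2.1, (centralizer_conj g y).1 z.2.2⟩,
    fun z => ⟨g * z * g⁻¹, ?_, ?_⟩, ?_, ?_⟩
  · change g * (z : G) * g⁻¹ ∈ Subgroup.centralizer _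
    rw [centralizer_conj]
    rw [show g⁻¹ * (g * (z : G) * g⁻¹) * g = z by group]
    exact z.2.1
  · change g * (z : G) * g⁻¹ ∈ Subgroup.centralizer _
    rw [centralizer_conj]
    rw [show g⁻¹ * (g * (z : G) * g⁻¹) * g = z by group]
    exact z.2.2
  · intro z; exact Subtype.ext (by change g * (g⁻¹ * (z : G) * g) * g⁻¹ = z; group)
  · intro z; exact Subtype.ext (by change g⁻¹ * (g * (z : G) * g⁻¹) * g = z; group)

variable {K : Type*} [Field K] {e : ℕ} [RF K e] [Finite K]

local notation "iv" => (H24.ReeCen.inv : G1 K e)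

theorem exists_s {K : Type*} {m : ℕ} (hn : Nat.card K = 3 ^ (2 * m + 1)) :
    ∃ r, Nat.card K + 1 = 4 * (2 * r + 1) ∧ Nat.card K = 8 * r + 3 := by
  obtain ⟨r, hr⟩ := card_mod (m := m)
  rw [← hn] at hr
  exact ⟨r, by omega, hr⟩

theorem exists_lift {y : G1 K e} (hy : iv * y = y * iv) (hodd : Odd (orderOf y)) :
    ∃ M : SL(2, K), y = rho M ∧ M ^ orderOf y = 1 := by
  obtain ⟨M, hM⟩ := cent hy
  have hyn := pow_orderOf_eq_one y
  set n := orderOf y with hn
  rcases hM with h | h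
  · have h1 : (rho (M ^ n) : G1 K e) = 1 := by rw [map_pow, ← h, hyn]
    rcases rho_ker h1 with h2 | h2
    · exact ⟨M, h, h2⟩
    · refine ⟨-M, ?_, ?_⟩
      · rw [← neg_one_mul, map_mul, rho_neg_one, one_mul, h]
      · rw [hodd.neg_pow, h2, neg_neg]
  · exfalso
    have h0 : Commute iv (rho M) := rho_comm M
    have h1 : iv ^ n * rho (M ^ n) = 1 := by
      rw [map_pow, ← h0.mul_pow, ← h, hyn]
    have h2 : iv ^ n = iv := by
      obtain ⟨k, hk⟩ := hodd
      rw [hk, pow_succ, pow_mul, pow_two, inv_sq, one_pow, one_mul]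
    rw [h2] at h1
    apply inv_ne_rho (K := K) (e := e) (M ^ n)⁻¹
    rw [map_inv]
    exact eq_inv_of_mul_eq_one_left h1

theorem not_scal {K : Type*} [Field K] {e : ℕ} [RF K e] [Finite K] {M : SL(2, K)} {n : ℕ} (hodd : Odd n) (hM : M ^ n = 1) (hne : M ≠ 1) :
    ¬ H43.GL2Basic.IsScal (M : Matrix (Fin 2) (Fin 2) K) := by
  haveI : Fintype K := Fintype.ofFinite K
  intro h
  rcases (H43.SLTorus.isScal_iff' M).1 h with h1 | h1
  · exact hne h1
  · rw [h1, hodd.neg_one_pow] at hM
    exact H58.SL2Prod.neg_one_ne_one (two_ne' (K := K) (e := e)) hM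

theorem cent_SL {K : Type*} [Field K] {e : ℕ} [RF K e] [Finite K] {M : SL(2, K)} {n : ℕ} (hodd : Odd n) (hM : M ^ n = 1) (hne : M ≠ 1) (hd : n ∣ Nat.card K + 1) :
    Nat.card (Subgroup.centralizer {M}) = Nat.card K + 1 ∧
    ∀ x ∈ Subgroup.centralizer {M}, ∀ y ∈ Subgroup.centralizer {M}, x * y = y * x := by
  haveI : Fintype K := Fintype.ofFinite K
  have hs := not_scal (e := e) hodd hM hne
  constructor
  · rw [H43.GL2Count.sl_card_centralizer_aniso M, Nat.card_eq_fintype_card]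
    apply H43.SLTorus.no_eig _ hs
    obtain ⟨k, hk⟩ := hd
    rw [← Nat.card_eq_fintype_card, hk, pow_mul, hM, one_pow]
  · intro x hx y hy
    rw [Subgroup.mem_centralizer_singleton_iff] at hx hy
    have hx' : (M : Matrix (Fin 2) (Fin 2) K) * (x : Matrix (Fin 2) (Fin 2) K) = x * M := (congrArg Subtype.val hx).symm
    have hy' : (M : Matrix (Fin 2) (Fin 2) K) * (y : Matrix (Fin 2) (Fin 2) K) = y * M := (congrArg Subtype.val hy).symm
    obtain ⟨a, b, hab⟩ := (H43.GL2Basic.commute_iff hs _).1 hx'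
    obtain ⟨c, d, hcd⟩ := (H43.GL2Basic.commute_iff hs _).1 hy'
    apply Subtype.ext
    change (x : Matrix (Fin 2) (Fin 2) K) * (y : Matrix (Fin 2) (Fin 2) K) = y * x
    rw [hab, hcd]
    simp only [add_mul, mul_add, smul_mul_smul_comm, one_mul, mul_one, mul_comm]
    abel

theorem mem_D {M : SL(2, K)} {n : ℕ} (hodd : Odd n) (hM : M ^ n = 1) (g : G1 K e) :
    g ∈ Subgroup.centralizer {iv} ⊓ Subgroup.centralizer {(rho M : G1 K e)} ↔
      ∃ N ∈ Subgroup.centralizer {M}, g = rho N ∨ g = iv * rho N := by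
  rw [Subgroup.mem_inf, Subgroup.mem_centralizer_singleton_iff, Subgroup.mem_centralizer_singleton_iff]
  have key : ∀ N : SL(2, K), (rho N : G1 K e) * rho M = rho M * rho N → N ∈ Subgroup.centralizer {M} := by
    intro N h
    rw [Subgroup.mem_centralizer_singleton_iff]
    rcases sign_of_comm h with h1 | h1
    · exact h1
    · exfalso
      have h2 : N * M * N⁻¹ = -M := by rw [h1, neg_mul, mul_inv_cancel_right]
      have h3 : N * M ^ n * N⁻¹ = -1 := by
        rw [← conj_pow, h2, hodd.neg_pow, hM]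
      rw [hM, mul_one, mul_inv_cancel] at h3
      exact H58.SL2Prod.neg_one_ne_one (two_ne' (K := K) (e := e)) h3.symm
  constructor
  · rintro ⟨h1, h2⟩
    obtain ⟨N, h | h⟩ := cent h1.symm
    · exact ⟨N, key N (by rw [← h]; exact h2), Or.inl h⟩
    · refine ⟨N, key N ?_, Or.inr h⟩
      rw [h, ← mul_assoc (rho M), ← rho_comm M, mul_assoc, mul_assoc] at h2
      exact mul_left_cancel h2
  · rintro ⟨N, hN, rfl | rfl⟩
    · rw [Subgroup.mem_centralizer_singleton_iff] at hN
      exact ⟨(rho_comm N).symm, by rw [← map_mul, hN, map_mul]⟩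
    · rw [Subgroup.mem_centralizer_singleton_iff] at hN
      refine ⟨by rw [mul_assoc, ← rho_comm], ?_⟩
      rw [mul_assoc, ← map_mul, hN, map_mul, ← mul_assoc, rho_comm, mul_assoc]

theorem cent_D {y : G1 K e} (hy : iv * y = y * iv) (hodd : Odd (orderOf y)) (hd : orderOf y ∣ Nat.card K + 1) (hne : y ≠ 1) :
    Nat.card ↥(Subgroup.centralizer {iv} ⊓ Subgroup.centralizer {y}) = Nat.card K + 1 ∧
    ∀ x ∈ Subgroup.centralizer {iv} ⊓ Subgroup.centralizer {y}, ∀ x' ∈ Subgroup.centralizer {iv} ⊓ Subgroup.centralizer {y},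
      x * x' = x' * x := by
  obtain ⟨M, hyM, hM⟩ := exists_lift hy hodd
  have hM1 : M ≠ 1 := by
    rintro rfl
    exact hne (by rw [hyM, map_one])
  obtain ⟨h1, h2⟩ := cent_SL (e := e) hodd hM hM1 hd
  have hmem := mem_D (e := e) hodd hM
  rw [← hyM] at hmem
  refine ⟨?_, ?_⟩
  · rw [card_double (R := Subgroup.centralizer {M}) ?_ hmem, h1]
    rw [Subgroup.mem_centralizer_singleton_iff, neg_one_mul, mul_neg_one]
  · intro x hx x' hx'
    obtain ⟨N, hN, hx1⟩ := (hmem x).1 hx
    obtain ⟨N', hN', hx1'⟩ := (hmem x').1 hx'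
    have hc : (rho N : G1 K e) * rho N' = rho N' * rho N := by rw [← map_mul, h2 N hN N' hN', map_mul]
    have ci : Commute iv (rho N : G1 K e) := rho_comm N
    have ci' : Commute iv (rho N' : G1 K e) := rho_comm N'
    have cc : Commute (rho N : G1 K e) (rho N') := hc
    rcases hx1 with rfl | rfl <;> rcases hx1' with rfl | rfl
    · exact cc
    · exact (ci.symm.mul_right cc).eq
    · exact (ci'.mul_left cc).eq
    · exact (((Commute.refl iv).mul_right ci').mul_left (ci.symm.mul_right cc)).eq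

/-- 2-elements are involutions -/
theorem two_elem_sq {m : ℕ} (hn : Nat.card K = 3 ^ (2 * m + 1)) {x : G1 K e} {k : ℕ} (hx : orderOf x = 2 ^ k) : x * x = 1 := by
  haveI : Fact (Nat.Prime 2) := ⟨Nat.prime_two⟩
  have hQ : IsPGroup 2 (Subgroup.zpowers x) := by
    apply IsPGroup.of_card (n := k)
    rw [Nat.card_zpowers, hx]
  obtain ⟨P, hP⟩ := hQ.exists_le_sylow
  exact (sylow2 hn P).2 x (hP (Subgroup.mem_zpowers x))

/-- a second involution -/
theorem exists_second {m : ℕ} (hn : Nat.card K = 3 ^ (2 * m + 1)) {D : Subgroup (G1 K e)} (hD : Nat.card D = Nat.card K + 1)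
    (hiv : iv ∈ D) : ∃ t ∈ D, t * t = 1 ∧ t ≠ 1 ∧ t ≠ iv := by
  haveI : Fact (Nat.Prime 2) := ⟨Nat.prime_two⟩
  obtain ⟨r, hr, -⟩ := exists_s hn
  obtain ⟨Q, hQ⟩ := Sylow.exists_subgroup_card_pow_prime (G := D) 2 (n := 2) (by
    rw [hD, hr]; exact ⟨2 * r + 1, by norm_num⟩)
  by_contra hcon
  push Not at hcon
  have hsub : (Q.map D.subtype : Set (G1 K e)) ⊆ {1, iv} := by
    rintro _ ⟨x, hx, rfl⟩
    have h1 : (x : G1 K e) * x = 1 := by
      have h2 := orderOf_dvd_natCard (⟨x, hx⟩ : Q)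
      rw [hQ, Subgroup.orderOf_mk, ← Subgroup.orderOf_coe] at h2
      obtain ⟨k, -, hk⟩ := (Nat.dvd_prime_pow Nat.prime_two).1 h2
      exact two_elem_sq hn hk
    by_cases h3 : (x : G1 K e) = 1
    · exact Or.inl h3
    · exact Or.inr (hcon x x.2 h1 h3)
  have h4 := Set.ncard_le_ncard hsub (Set.toFinite _)
  have h5 : (Q.map D.subtype : Set (G1 K e)).ncard = 4 := by
    change Nat.card (Q.map D.subtype) = 4
    rw [Nat.card_congr (Q.equivMapOfInjective D.subtype (Subgroup.subtype_injective D)).symm.toEquiv, hQ]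
    norm_num
  have h6 : ({1, iv} : Set (G1 K e)).ncard ≤ 2 := (Set.ncard_insert_le _ _).trans (by rw [Set.ncard_singleton])
  omega

theorem not_three_dvd {m : ℕ} (hn : Nat.card K = 3 ^ (2 * m + 1)) {y : G1 K e} (hp : (orderOf y).Prime) (h2 : orderOf y ≠ 2)
    (hd : orderOf y ∣ Nat.card K + 1) : ¬ orderOf y ∣ Nat.card K ^ 3 * (Nat.card K - 1) := by
  have hq : 1 < Nat.card K := Finite.one_lt_card
  intro h
  rcases (Nat.Prime.dvd_mul hp).1 h with h3 | h3
  · have h4 := hp.dvd_of_dvd_pow h3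
    have h5 := (Nat.dvd_add_right h4).1 hd
    exact hp.one_lt.ne' (Nat.dvd_one.1 h5)
  · have h5 : orderOf y ∣ (Nat.card K + 1) - (Nat.card K - 1) := Nat.dvd_sub hd h3
    rw [show Nat.card K + 1 - (Nat.card K - 1) = 2 by omega] at h5
    exact h2 ((Nat.prime_dvd_prime_iff_eq hp Nat.prime_two).1 h5)

theorem odd_of_prime_ne {p : ℕ} (hp : p.Prime) (h2 : p ≠ 2) : Odd p := hp.odd_of_ne_two h2

/-- the involution centralises the centraliser of `y` -/
theorem cent_le {m : ℕ} (hn : Nat.card K = 3 ^ (2 * m + 1)) {y : G1 K e} (hy : iv * y = y * iv) (hp : (orderOf y).Prime)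
    (h2 : orderOf y ≠ 2) (hd : orderOf y ∣ Nat.card K + 1) : Subgroup.centralizer {y} ≤ Subgroup.centralizer {iv} := by
  haveI : Fact (Nat.Prime 3) := ⟨Nat.prime_three⟩
  have hodd := odd_of_prime_ne hp h2
  have hy1 : y ≠ 1 := by
    rintro rfl
    rw [orderOf_one] at hp
    exact Nat.not_prime_one hp
  obtain ⟨hDc, hDab⟩ := cent_D hy hodd hd hy1
  set C := Subgroup.centralizer {y} with hC
  set D := Subgroup.centralizer {iv} ⊓ C with hD
  have hivC : iv ∈ C := Subgroup.mem_centralizer_singleton_iff.2 hy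
  have hivD : iv ∈ D := ⟨Subgroup.mem_centralizer_singleton_iff.2 rfl, hivC⟩
  obtain ⟨t, htD, htt, ht1, hti⟩ := exists_second hn hDc hivD
  have hle : D ≤ C := inf_le_right
  have hyt : y * t = t * y := (Subgroup.mem_centralizer_singleton_iff.1 (hle htD)).symm
  have key : ∀ v : G1 K e, v ∈ D → v * v = 1 → v ≠ 1 → Subgroup.centralizer {v} ⊓ C = D := by
    intro v hv hvv hv1
    symm
    apply Subgroup.eq_of_le_of_card_ge
    · intro x hx
      exact ⟨Subgroup.mem_centralizer_singleton_iff.2 (hDab x hx v hv), hx.2⟩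
    · obtain ⟨g, hg⟩ := invo_conj hn hvv hv1
      have hc : iv * (g * y * g⁻¹) = g * y * g⁻¹ * iv := by
        rw [← hg]
        have h3 : v * y = y * v := Subgroup.mem_centralizer_singleton_iff.1 (hle hv)
        calc g * v * g⁻¹ * (g * y * g⁻¹) = g * (v * y) * g⁻¹ := by group
          _ = g * (y * v) * g⁻¹ := by rw [h3]
          _ = _ := by group
      have h4 := (cent_D hc (by rw [orderOf_conj']; exact hodd) (by rw [orderOf_conj']; exact hd) (by
        intro h
        apply hy1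
        have : y = g⁻¹ * (g * y * g⁻¹) * g := by group
        rw [this, h]; group)).1
      rw [← hg, card_inf_conj] at h4
      rw [hDc, h4]
  obtain ⟨r, hr, -⟩ := exists_s hn
  have hmain := H24.FourCent.four_cent (X := C) (a := ⟨iv, hivC⟩) (b := ⟨t, hle htD⟩) (Subtype.ext inv_sq) (Subtype.ext htt)
    (Subtype.ext (hDab iv hivD t htD)) (fun h => inv_ne (congrArg Subtype.val h)) (fun h => ht1 (congrArg Subtype.val h))
    (fun h => hti (congrArg Subtype.val h).symm) (D.subgroupOf C)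
    (fun x hx x' hx' => Subtype.ext (hDab x hx x' hx'))
    (by
      ext x
      rw [Subgroup.mem_centralizer_singleton_iff, Subgroup.mem_subgroupOf]
      constructor
      · intro h; exact ⟨Subgroup.mem_centralizer_singleton_iff.2 (congrArg Subtype.val h), x.2⟩
      · intro h; exact Subtype.ext (Subgroup.mem_centralizer_singleton_iff.1 h.1))
    (by
      ext x
      rw [Subgroup.mem_centralizer_singleton_iff, Subgroup.mem_subgroupOf, ← key t htD htt ht1]
      constructor
      · intro h; exact ⟨Subgroup.mem_centralizer_singleton_iff.2 (congrArg Subtype.val h), x.2⟩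
      · intro h; exact Subtype.ext (Subgroup.mem_centralizer_singleton_iff.1 h.1))
    (by
      have hvv : iv * t * (iv * t) = 1 := by
        rw [show iv * t * (iv * t) = iv * (t * iv) * t by group, ← hDab iv hivD t htD,
          show iv * (iv * t) * t = (iv * iv) * (t * t) by group, inv_sq, htt, one_mul]
      have hv1 : iv * t ≠ 1 := by
        intro h
        apply hti
        rw [eq_inv_of_mul_eq_one_right h, inv_eq_of_mul_eq_one_left inv_sq]
      ext x
      rw [Subgroup.mem_centralizer_singleton_iff, Subgroup.mem_subgroupOf, ← key (iv * t) (mul_mem hivD htD) hvv hv1]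
      constructor
      · intro h; exact ⟨Subgroup.mem_centralizer_singleton_iff.2 (congrArg Subtype.val h), x.2⟩
      · intro h; exact Subtype.ext (Subgroup.mem_centralizer_singleton_iff.1 h.1))
    (s := 2 * r + 1) ⟨r, rfl⟩
    (by rw [Nat.card_congr (Subgroup.subgroupOfEquivOfLe hle).toEquiv, hDc, hr])
    (by
      intro h3
      obtain ⟨z, hz⟩ := exists_prime_orderOf_dvd_card' (G := C) 3 h3
      have hz' : orderOf (z : G1 K e) = 3 ^ 1 := by rw [Subgroup.orderOf_coe, hz]; norm_num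
      have hz1 : (z : G1 K e) ≠ 1 := by
        intro h
        rw [h, orderOf_one] at hz'
        norm_num at hz'
      exact not_three_dvd hn hp h2 hd (comm3 hn hz' hz1 (Subgroup.mem_centralizer_singleton_iff.1 z.2)))
    (by
      intro P x hx
      haveI : Fact (Nat.Prime 2) := ⟨Nat.prime_two⟩
      obtain ⟨k, hk⟩ := IsPGroup.iff_orderOf.1 P.isPGroup' ⟨x, hx⟩
      have hk' : orderOf (x : G1 K e) = 2 ^ k := by
        rw [Subgroup.orderOf_coe, ← hk]
        exact (Subgroup.orderOf_mk x hx).symm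
      exact Subtype.ext (two_elem_sq hn hk'))
  intro x hx
  have hx2 : (⟨x, hx⟩ : C) ∈ D.subgroupOf C := by rw [hmain]; exact Subgroup.mem_top _
  exact hx2.1

/-- exact 2-group criterion -/
theorem exists_odd_prime {m : ℕ} (hn : Nat.card K = 3 ^ (2 * m + 1)) {u : G1 K e} (hu : u * u ≠ 1) :
    ∃ r : ℕ, r.Prime ∧ r ≠ 2 ∧ r ∣ orderOf u := by
  by_contra hcon
  push Not at hcon
  have h1 : ∃ k, orderOf u = 2 ^ k := by
    refine ⟨_, Nat.eq_prime_pow_of_unique_prime_dvd (orderOf_pos u).ne' ?_⟩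
    intro d hd hdu
    by_contra h2
    exact hcon d hd h2 hdu
  obtain ⟨k, hk⟩ := h1
  exact hu (two_elem_sq hn hk)

theorem tor_s0 {m : ℕ} (hn : Nat.card K = 3 ^ (2 * m + 1)) {y : G1 K e} (hy : iv * y = y * iv) (hp : (orderOf y).Prime)
    (h2 : orderOf y ≠ 2) (hd : orderOf y ∣ Nat.card K + 1) :
    Nat.card (Subgroup.centralizer {y}) = Nat.card K + 1 ∧
    (∀ x ∈ Subgroup.centralizer {y}, ∀ x' ∈ Subgroup.centralizer {y}, x * x' = x' * x) ∧
    (∀ u ∈ Subgroup.centralizer {y}, u * u ≠ 1 → Subgroup.centralizer {u} = Subgroup.centralizer {y}) := by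
  have aux : ∀ {y : G1 K e}, iv * y = y * iv → (orderOf y).Prime → orderOf y ≠ 2 → orderOf y ∣ Nat.card K + 1 →
      Nat.card (Subgroup.centralizer {y}) = Nat.card K + 1 ∧
      (∀ x ∈ Subgroup.centralizer {y}, ∀ x' ∈ Subgroup.centralizer {y}, x * x' = x' * x) := by
    intro y hy hp h2 hd
    have hy1 : y ≠ 1 := by
      rintro rfl
      rw [orderOf_one] at hp
      exact Nat.not_prime_one hp
    have h3 := cent_D hy (odd_of_prime_ne hp h2) hd hy1
    rw [inf_eq_right.2 (cent_le hn hy hp h2 hd)] at h3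
    exact h3
  obtain ⟨h3, h4⟩ := aux hy hp h2 hd
  refine ⟨h3, h4, ?_⟩
  intro u hu huu
  obtain ⟨r, hr, hr2, hru⟩ := exists_odd_prime hn huu
  obtain ⟨c, hc⟩ := exists_pow_prime hr hru
  have hyy : y ∈ Subgroup.centralizer {y} := Subgroup.mem_centralizer_singleton_iff.2 rfl
  have hivm : iv ∈ Subgroup.centralizer {y} := Subgroup.mem_centralizer_singleton_iff.2 hy
  have hdc : orderOf (u ^ c) ∣ Nat.card K + 1 := by
    rw [← h3]
    have := orderOf_dvd_natCard (⟨u ^ c, pow_mem hu c⟩ : Subgroup.centralizer {y})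
    rwa [Subgroup.orderOf_mk] at this
  have h5 := aux (y := u ^ c) (h4 iv hivm _ (pow_mem hu c)) (by rw [hc]; exact hr) (by rw [hc]; exact hr2) hdc
  have h6 : Subgroup.centralizer {y} = Subgroup.centralizer {u ^ c} := by
    apply Subgroup.eq_of_le_of_card_ge
    · intro x hx
      exact Subgroup.mem_centralizer_singleton_iff.2 (h4 x hx _ (pow_mem hu c))
    · rw [h5.1, h3]
  apply le_antisymm
  · rw [h6]
    intro x hx
    rw [Subgroup.mem_centralizer_singleton_iff] at hx ⊢
    exact (Commute.pow_right (show Commute x u from hx) c).eq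
  · intro x hx
    exact Subgroup.mem_centralizer_singleton_iff.2 (h4 x hx u hu)

theorem index_cent_inv : (Subgroup.centralizer {iv}).index = Nat.card K ^ 2 * (Nat.card K ^ 2 - Nat.card K + 1) := by
  have h1 := Subgroup.card_mul_index (Subgroup.centralizer {iv})
  rw [card_cent_inv, card_G1] at h1
  have hq : 1 < Nat.card K := Finite.one_lt_card
  obtain ⟨c, hc⟩ : ∃ c, Nat.card K = c + 2 := ⟨Nat.card K - 2, by omega⟩
  rw [hc] at h1 ⊢
  have e1 : (c + 2) ^ 2 - 1 = (c + 1) * (c + 3) := by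
    have : (c + 2) ^ 2 = (c + 1) * (c + 3) + 1 := by ring
    omega
  have e2 : (c + 2) ^ 2 - (c + 2) + 1 = c ^ 2 + 3 * c + 3 := by
    have : (c + 2) ^ 2 = c ^ 2 + 3 * c + 2 + (c + 2) := by ring
    omega
  have e3 : c + 2 - 1 = c + 1 := by omega
  rw [e1, e3] at h1
  rw [e2]
  apply Nat.eq_of_mul_eq_mul_left (show 0 < (c + 2) * ((c + 1) * (c + 3)) by positivity)
  rw [h1]; ring

theorem conj_cent_inv {m : ℕ} (hn : Nat.card K = 3 ^ (2 * m + 1)) {y : G1 K e} (hp : (orderOf y).Prime)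
    (h2 : orderOf y ≠ 2) (hd : orderOf y ∣ Nat.card K + 1) : ∃ g : G1 K e, iv * (g * y * g⁻¹) = g * y * g⁻¹ * iv := by
  have hq : 1 < Nat.card K := Finite.one_lt_card
  obtain ⟨g, hg⟩ := conj_of_index (Subgroup.centralizer {iv}) hp (x := y) (k := 1) (by
    rw [index_cent_inv]
    intro h
    rcases (Nat.Prime.dvd_mul hp).1 h with h3 | h3
    · apply not_three_dvd hn hp h2 hd
      exact dvd_mul_of_dvd_left ((hp.dvd_of_dvd_pow h3).trans (dvd_pow_self _ (by norm_num))) _
    · have h4 : (Nat.card K ^ 2 - Nat.card K + 1) + 3 * Nat.card K = (Nat.card K + 1) * (Nat.card K + 1) := by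
        have : Nat.card K ≤ Nat.card K ^ 2 := by nlinarith
        zify [this]; ring
      have h5 : orderOf y ∣ 3 * Nat.card K := by
        have h6 : orderOf y ∣ (Nat.card K + 1) * (Nat.card K + 1) := dvd_mul_of_dvd_left hd _
        rw [← h4] at h6
        exact (Nat.dvd_add_right h3).1 h6
      rcases (Nat.Prime.dvd_mul hp).1 h5 with h6 | h6
      · have h7 := (Nat.prime_dvd_prime_iff_eq hp Nat.prime_three).1 h6
        rw [h7, hn] at hd
        have h8 : 3 ∣ 3 ^ (2 * m + 1) := dvd_pow_self 3 (by omega)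
        have h9 := (Nat.dvd_add_right h8).1 hd
        norm_num at h9
      · have h9 := (Nat.dvd_add_right h6).1 hd
        exact hp.one_lt.ne' (Nat.dvd_one.1 h9)) (by rw [pow_one])
  exact ⟨g, (Subgroup.mem_centralizer_singleton_iff.1 hg).symm⟩

theorem tor_s {m : ℕ} (hn : Nat.card K = 3 ^ (2 * m + 1)) {y : G1 K e} (hp : (orderOf y).Prime)
    (h2 : orderOf y ≠ 2) (hd : orderOf y ∣ Nat.card K + 1) :
    Nat.card (Subgroup.centralizer {y}) = Nat.card K + 1 ∧
    (∀ x ∈ Subgroup.centralizer {y}, ∀ x' ∈ Subgroup.centralizer {y}, x * x' = x' * x) ∧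
    (∀ u ∈ Subgroup.centralizer {y}, u * u ≠ 1 → Subgroup.centralizer {u} = Subgroup.centralizer {y}) := by
  obtain ⟨g, hg⟩ := conj_cent_inv hn hp h2 hd
  obtain ⟨h3, h4, h5⟩ := tor_s0 hn hg (by rw [orderOf_conj']; exact hp) (by rw [orderOf_conj']; exact h2)
    (by rw [orderOf_conj']; exact hd)
  have hmem : ∀ x, x ∈ Subgroup.centralizer {y} → g * x * g⁻¹ ∈ Subgroup.centralizer {g * y * g⁻¹} := by
    intro x hx
    rw [centralizer_conj, show g⁻¹ * (g * x * g⁻¹) * g = x by group]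
    exact hx
  refine ⟨?_, ?_, ?_⟩
  · rw [← card_centralizer_conj g y, h3]
  · intro x hx x' hx'
    have := h4 _ (hmem x hx) _ (hmem x' hx')
    calc x * x' = g⁻¹ * (g * x * g⁻¹ * (g * x' * g⁻¹)) * g := by group
      _ = g⁻¹ * (g * x' * g⁻¹ * (g * x * g⁻¹)) * g := by rw [this]
      _ = _ := by group
  · intro u hu huu
    have := h5 _ (hmem u hu) (by
      intro h
      apply huu
      calc u * u = g⁻¹ * (g * u * g⁻¹ * (g * u * g⁻¹)) * g := by group
        _ = 1 := by rw [h]; group)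
    ext x
    have e1 : ∀ z : G1 K e, x ∈ Subgroup.centralizer {z} ↔ g * x * g⁻¹ ∈ Subgroup.centralizer {g * z * g⁻¹} := by
      intro z
      rw [centralizer_conj, show g⁻¹ * (g * x * g⁻¹) * g = x by group]
    rw [e1 u, e1 y, this]

end H24.ReeTor
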