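/-
H24: the small Ree groups: the cyclic subgroup of order (q + 1) / 4 and its normaliser.
-/
import Cfsg.Agent.Lib.H24.ReeTor3
import Cfsg.Agent.Lib.H24.HalfTrans
set_option autoImplicit false
set_option linter.unusedSimpArgs false
set_option linter.unusedVariables false
set_option linter.unusedSectionVars false
namespace H24.ReeTor

open Cfsg.Lie Matrix H24.ReeBlk H24.ReeAd H24.ReeAl H24.ReeGood H24.ReePts H24.ReeGrp
open H24.ReeAct H24.ReeStr H24.ReeInt H24.ReeUni H24.ReeSub H24.ReeSyl H24.ReeSyl3 H24.ReeCen H24.ReeSyl2 H24.ReeInvo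
open H24.ReeFour
open scoped MatrixGroups Pointwise

variable {K : Type*} [Field K] {e : ℕ} [RF K e] [Finite K]

local notation "iv" => (H24.ReeCen.inv : G1 K e)

/-- a generator of a nonsplit torus of SL(2,q) together with an inverting element -/
structure NS (K : Type*) [Field K] [Finite K] (c b : SL(2, K)) : Prop where
  ord : orderOf c = Nat.card K + 1
  cj : b * c * b⁻¹ = c⁻¹
  sq : b * b = -1

theorem exists_NS {K : Type*} [Field K] {e : ℕ} [RF K e] [Finite K] : ∃ c b : SL(2, K), NS K c b := by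
  haveI : Fintype K := Fintype.ofFinite K
  obtain ⟨c, b, h1, h2, h3⟩ := H40.SL2Tori.exists_nonsplit (F := K)
  exact ⟨c, b, by rw [h1, Nat.card_eq_fintype_card], h2, h3 (two_ne' (e := e))⟩

/-- the generator of the torus in the Ree group -/
noncomputable def rc (e : ℕ) [RF K e] (c : SL(2, K)) : G1 K e := rho c

variable {c b : SL(2, K)}

theorem NS.odd_card {m : ℕ} (hn : Nat.card K = 3 ^ (2 * m + 1)) : Odd (Nat.card K) := by
  rw [hn]; exact Odd.pow (by decide)

theorem NS.pow_one_iff (h : NS K c b) (k : ℕ) : (rho c : G1 K e) ^ k = 1 ↔ (Nat.card K + 1) ∣ 2 * k := by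
  rw [← map_pow, ← h.ord]
  constructor
  · intro hk
    apply orderOf_dvd_of_pow_eq_one
    rw [mul_comm, pow_mul]
    rcases rho_ker hk with h1 | h1
    · rw [h1, one_pow]
    · rw [h1]; simp
  · intro hk
    have h1 := orderOf_dvd_iff_pow_eq_one.1 hk
    rw [mul_comm, pow_mul, pow_two] at h1
    rcases H58.SL2Prod.eq_one_or_neg_one_of_sq (two_ne' (K := K) (e := e)) h1 with h2 | h2
    · rw [h2, map_one]
    · rw [h2, rho_neg_one]

theorem NS.order_rho {m s : ℕ} (h : NS K c b) (hs : Nat.card K + 1 = 4 * s) : orderOf (rho c : G1 K e) = 2 * s := by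
  apply Nat.dvd_antisymm
  · apply orderOf_dvd_of_pow_eq_one
    rw [h.pow_one_iff, hs]
    exact ⟨1, by ring⟩
  · have h1 := (h.pow_one_iff (e := e) (orderOf (rho c : G1 K e))).1 (pow_orderOf_eq_one _)
    rw [hs, show 4 * s = 2 * (2 * s) by ring] at h1
    exact Nat.dvd_of_mul_dvd_mul_left (by norm_num) h1

/-- the generator of the odd torus -/
noncomputable def al (K : Type*) [Field K] (e : ℕ) [RF K e] (c : SL(2, K)) : G1 K e := rho (c ^ 2)

theorem NS.order_al {s : ℕ} (h : NS K c b) (hs : Nat.card K + 1 = 4 * s) : orderOf (al K e c) = s := by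
  have h1 : al K e c = (rho c : G1 K e) ^ 2 := by rw [← map_pow]; rfl
  rw [h1, orderOf_pow_of_dvd (by norm_num) (by rw [h.order_rho (m := 0) hs]; exact dvd_mul_right 2 s), h.order_rho (m := 0) hs,
    Nat.mul_div_cancel_left _ (by norm_num)]

theorem al_comm : iv * al K e c = al K e c * iv := rho_comm _

theorem NS.tor {m : ℕ} (hn : Nat.card K = 3 ^ (2 * m + 1)) (h : NS K c b) [Fintype K] : H43.SLTorus.Tor (Subgroup.zpowers c) where
  odd := by rw [← Nat.card_eq_fintype_card]; exact NS.odd_card hn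
  cyc := Subgroup.isCyclic_zpowers c
  card := by rw [Nat.card_zpowers, h.ord, Nat.card_eq_fintype_card]

theorem NS.not_scal_sq {m : ℕ} (hm : 1 ≤ m) (hn : Nat.card K = 3 ^ (2 * m + 1)) (h : NS K c b) :
    ¬ H43.GL2Basic.IsScal ((c ^ 2 : SL(2, K)) : Matrix (Fin 2) (Fin 2) K) := by
  haveI : Fintype K := Fintype.ofFinite K
  intro hs
  have h1 : c ^ 4 = 1 := by
    rcases (H43.SLTorus.isScal_iff' (c ^ 2)).1 hs with h2 | h2
    · rw [show 4 = 2 * 2 by norm_num, pow_mul, h2, one_pow]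
    · rw [show 4 = 2 * 2 by norm_num, pow_mul, h2]; simp
  have h2 := orderOf_dvd_of_pow_eq_one h1
  rw [h.ord] at h2
  have h3 := Nat.le_of_dvd (by norm_num) h2
  have h4 : 3 ^ 3 ≤ Nat.card K := by rw [hn]; exact Nat.pow_le_pow_right (by norm_num) (by omega)
  omega

/-- the full torus of order `q + 1` -/
noncomputable def DD (K : Type*) [Field K] (e : ℕ) [RF K e] (c : SL(2, K)) : Subgroup (G1 K e) := Subgroup.centralizer {al K e c}
/-- the cyclic torus of order `(q + 1) / 4` -/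
noncomputable def AA (K : Type*) [Field K] (e : ℕ) [RF K e] (c : SL(2, K)) : Subgroup (G1 K e) := Subgroup.zpowers (al K e c)

theorem NS.card_AA {s : ℕ} (h : NS K c b) (hs : Nat.card K + 1 = 4 * s) : Nat.card (AA K e c) = s := by
  unfold AA
  rw [Nat.card_zpowers, h.order_al hs]

/-- a prime order element in the torus -/
theorem NS.exists_prime {m r : ℕ} (hm : 1 ≤ m) (hn : Nat.card K = 3 ^ (2 * m + 1)) (h : NS K c b)
    (hr : r.Prime) (hr2 : r ≠ 2) (hd : r ∣ Nat.card K + 1) : ∃ y ∈ AA K e c, orderOf y = r ∧ iv * y = y * iv := by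
  obtain ⟨k, hk, -⟩ := exists_s hn
  have hd2 : r ∣ 2 * k + 1 := by
    rw [hk] at hd
    have : Nat.Coprime r 4 := by
      rw [show 4 = 2 ^ 2 by norm_num]
      exact ((Nat.coprime_primes hr Nat.prime_two).2 hr2).pow_right 2
    exact this.dvd_of_dvd_mul_left hd
  obtain ⟨j, hj⟩ := exists_pow_prime hr (g := al K e c) (by rw [h.order_al hk]; exact hd2)
  exact ⟨al K e c ^ j, Subgroup.pow_mem _ (Subgroup.mem_zpowers _) j, hj, (Commute.pow_right (al_comm (K := K) (e := e) (c := c)) j).eq⟩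

theorem exists_prime_s {K : Type*} {m : ℕ} (hm : 1 ≤ m) (hn : Nat.card K = 3 ^ (2 * m + 1)) :
    ∃ r : ℕ, r.Prime ∧ r ≠ 2 ∧ r ∣ Nat.card K + 1 := by
  obtain ⟨k, hk, hk2⟩ := exists_s hn
  have h4 : 3 ^ 3 ≤ Nat.card K := by rw [hn]; exact Nat.pow_le_pow_right (by norm_num) (by omega)
  refine ⟨(2 * k + 1).minFac, Nat.minFac_prime (by omega), ?_, ?_⟩
  · intro h2
    have h3 := Nat.minFac_dvd (2 * k + 1)
    rw [h2] at h3
    omega
  · rw [hk]
    exact (Nat.minFac_dvd _).trans (dvd_mul_left _ _)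

theorem NS.main {m : ℕ} (hm : 1 ≤ m) (hn : Nat.card K = 3 ^ (2 * m + 1)) (h : NS K c b) :
    Nat.card (DD K e c) = Nat.card K + 1 ∧ (∀ x ∈ DD K e c, ∀ x' ∈ DD K e c, x * x' = x' * x) ∧
    (∀ u ∈ DD K e c, u * u ≠ 1 → Subgroup.centralizer {u} = DD K e c) := by
  obtain ⟨r, hr, hr2, hd⟩ := exists_prime_s hm hn
  obtain ⟨y, hy, hyr, hyi⟩ := h.exists_prime (e := e) hm hn hr hr2 hd
  obtain ⟨h1, h2, h3⟩ := tor_s0 hn hyi (by rw [hyr]; exact hr) (by rw [hyr]; exact hr2) (by rw [hyr]; exact hd)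
  have hal : al K e c ∈ Subgroup.centralizer {y} := by
    rw [Subgroup.mem_centralizer_singleton_iff]
    obtain ⟨j, rfl⟩ := hy
    exact (Commute.zpow_right (Commute.refl _) j).eq
  have hal2 : al K e c * al K e c ≠ 1 := by
    intro h0
    have h4 : al K e c ^ 2 = 1 := by rw [pow_two, h0]
    have h5 := orderOf_dvd_of_pow_eq_one h4
    obtain ⟨k, hk, hk2⟩ := exists_s hn
    rw [h.order_al hk] at h5
    have h6 : 3 ^ 3 ≤ Nat.card K := by rw [hn]; exact Nat.pow_le_pow_right (by norm_num) (by omega)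
    have := Nat.le_of_dvd (by norm_num) h5
    omega
  have h4 : DD K e c = Subgroup.centralizer {y} := h3 _ hal hal2
  rw [h4]
  exact ⟨h1, h2, h3⟩

theorem NS.iv_mem (h : NS K c b) : iv ∈ DD K e c := Subgroup.mem_centralizer_singleton_iff.2 al_comm
theorem NS.al_mem : al K e c ∈ DD K e c := Subgroup.mem_centralizer_singleton_iff.2 rfl
theorem NS.AA_le : AA K e c ≤ DD K e c := by
  unfold AA
  rw [Subgroup.zpowers_le]
  exact NS.al_mem

/-- elements of the torus -/
theorem NS.mem_DD {m : ℕ} (hm : 1 ≤ m) (hn : Nat.card K = 3 ^ (2 * m + 1)) (h : NS K c b) {x : G1 K e} (hx : x ∈ DD K e c) :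
    ∃ k : ℕ, x = (rho c : G1 K e) ^ k ∨ x = iv * (rho c : G1 K e) ^ k := by
  haveI : Fintype K := Fintype.ofFinite K
  obtain ⟨k, hk, hk2⟩ := exists_s hn
  have hT := h.tor hn
  have hodd : Odd (2 * k + 1) := ⟨k, rfl⟩
  -- lift
  have hx1 : x * iv = iv * x := (h.main hm hn).2.1 x hx iv h.iv_mem
  have hx2 : x * rho (c ^ 2) = rho (c ^ 2) * x := Subgroup.mem_centralizer_singleton_iff.1 hx
  -- replace c^2 by c^2 * c^(4k+2)...
  have hlift : ∃ M : SL(2, K), (rho M : G1 K e) = rho (c ^ 2) ∧ M ^ (2 * k + 1) = 1 ∧ (M = c ^ 2 ∨ M = -(c ^ 2)) := by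
    have h1 : (c ^ 2) ^ (2 * k + 1) = 1 ∨ (c ^ 2) ^ (2 * k + 1) = -1 := by
      apply H58.SL2Prod.eq_one_or_neg_one_of_sq (two_ne' (K := K) (e := e))
      rw [← pow_two, ← pow_mul, ← pow_mul, show 2 * ((2 * k + 1) * 2) = 4 * (2 * k + 1) by ring, ← hk, ← h.ord, pow_orderOf_eq_one]
    rcases h1 with h1 | h1
    · exact ⟨c ^ 2, rfl, h1, Or.inl rfl⟩
    · refine ⟨-(c ^ 2), ?_, ?_, Or.inr rfl⟩
      · rw [← neg_one_mul, map_mul, rho_neg_one, one_mul]
      · rw [hodd.neg_pow, h1, neg_neg]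
  obtain ⟨M, hM1, hM2, hM3⟩ := hlift
  obtain ⟨N, hN, hxN⟩ := (mem_D (e := e) hodd hM2 x).1 ⟨Subgroup.mem_centralizer_singleton_iff.2 hx1,
    Subgroup.mem_centralizer_singleton_iff.2 (by rw [hM1]; exact hx2)⟩
  have hN2 : N ∈ Subgroup.centralizer {c ^ 2} := by
    rw [Subgroup.mem_centralizer_singleton_iff] at hN ⊢
    rcases hM3 with rfl | rfl
    · exact hN
    · rw [mul_neg, neg_mul] at hN
      exact neg_injective hN
  rw [hT.centralizer (Subgroup.pow_mem _ (Subgroup.mem_zpowers c) 2) (h.not_scal_sq hm hn)] at hN2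
  obtain ⟨j, hj⟩ := (mem_powers_iff_mem_zpowers (x := c) (y := N)).2 hN2
  refine ⟨j, ?_⟩
  rw [← map_pow]
  change c ^ j = N at hj
  rw [hj]
  exact hxN

/-- the elements of odd order of the torus -/
theorem NS.mem_AA {m : ℕ} (hm : 1 ≤ m) (hn : Nat.card K = 3 ^ (2 * m + 1)) (h : NS K c b) {x : G1 K e} (hx : x ∈ DD K e c)
    (ho : Odd (orderOf x)) : x ∈ AA K e c := by
  obtain ⟨k, hk, hk2⟩ := exists_s hn
  have hcomm := (h.main (e := e) hm hn).2.1
  have hrc : (rho c : G1 K e) ∈ DD K e c := by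
    rw [DD, Subgroup.mem_centralizer_singleton_iff]
    unfold al
    rw [← map_mul, ← map_mul, ← pow_succ, ← pow_succ']
  have hxd : orderOf x ∣ 2 * k + 1 := by
    have h1 := orderOf_dvd_natCard (⟨x, hx⟩ : DD K e c)
    rw [Subgroup.orderOf_mk, (h.main hm hn).1, hk] at h1
    have : Nat.Coprime (orderOf x) 4 := by
      rw [show 4 = 2 ^ 2 by norm_num]
      exact (Nat.coprime_two_right.2 ho).pow_right 2
    exact this.dvd_of_dvd_mul_left h1
  have hx1 : x ^ (2 * k + 1) = 1 := orderOf_dvd_iff_pow_eq_one.1 hxd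
  obtain ⟨j, hj | hj⟩ := h.mem_DD hm hn hx
  · rw [hj, ← pow_mul, h.pow_one_iff, hk] at hx1
    have h2 : 2 ∣ j := by
      have h3 : 2 * (2 * k + 1) ∣ j * (2 * k + 1) := by
        obtain ⟨t, ht⟩ := hx1
        exact ⟨t, by nlinarith⟩
      exact Nat.dvd_of_mul_dvd_mul_right (by omega) h3
    obtain ⟨i, rfl⟩ := h2
    rw [hj, pow_mul, ← map_pow]
    exact Subgroup.pow_mem _ (Subgroup.mem_zpowers _) i
  · exfalso
    have h0 : Commute iv ((rho c : G1 K e) ^ j) := Commute.pow_right (show Commute iv (rho c : G1 K e) from rho_comm c) j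
    rw [hj, h0.mul_pow, pow_succ iv, pow_mul iv, pow_two iv, inv_sq, one_pow, one_mul, ← map_pow, ← map_pow] at hx1
    apply inv_ne_rho (K := K) (e := e) ((c ^ j) ^ (2 * k + 1))⁻¹
    rw [map_inv]
    exact eq_inv_of_mul_eq_one_left hx1

end H24.ReeTor
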