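/-
H24: the small Ree groups: the normaliser of the cyclic subgroup of order (q + 1) / 4.
-/
import Cfsg.Agent.Lib.H24.ReeTor4
set_option autoImplicit false
set_option linter.unusedSimpArgs false
set_option linter.unusedVariables false
set_option linter.unusedSectionVars false
namespace H24.ReeTor

open Cfsg.Lie Matrix H24.ReeBlk H24.ReeAd H24.ReeAl H24.ReeGood H24.ReePts H24.ReeGrp
open H24.ReeAct H24.ReeStr H24.ReeInt H24.ReeUni H24.ReeSub H24.ReeSyl H24.ReeSyl3 H24.ReeCen H24.ReeSyl2 H24.ReeInvo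
open H24.ReeFour
open scoped MatrixGroups Pointwise

theorem mem_zpowers_of_cyclic {G : Type*} [Group G] [Finite G] {C : Subgroup G} (hC : IsCyclic C) {x x' : G} (hx : x ∈ C)
    (hx' : x' ∈ C) (h : orderOf x' = orderOf x) : x' ∈ Subgroup.zpowers x := by
  have h1 : (Subgroup.zpowers (⟨x', hx'⟩ : C)) = Subgroup.zpowers (⟨x, hx⟩ : C) := by
    apply H24.HalfTrans.cyclic_subgroup_eq
    rw [Nat.card_zpowers, Nat.card_zpowers, Subgroup.orderOf_mk, Subgroup.orderOf_mk, h]
  have h2 : (⟨x', hx'⟩ : C) ∈ Subgroup.zpowers (⟨x, hx⟩ : C) := by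
    rw [← h1]; exact Subgroup.mem_zpowers _
  obtain ⟨k, hk⟩ := h2
  exact ⟨k, congrArg Subtype.val hk⟩

variable {K : Type*} [Field K] {e : ℕ} [RF K e] [Finite K]

local notation "iv" => (H24.ReeCen.inv : G1 K e)

variable {c b : SL(2, K)}

theorem NS.odd_AA {m : ℕ} (hn : Nat.card K = 3 ^ (2 * m + 1)) (h : NS K c b) {u : G1 K e} (hu : u ∈ AA K e c) :
    Odd (orderOf u) := by
  obtain ⟨k, hk, -⟩ := exists_s hn
  have h1 := orderOf_dvd_natCard (⟨u, hu⟩ : AA K e c)
  rw [Subgroup.orderOf_mk, h.card_AA hk] at h1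
  exact Odd.of_dvd_nat ⟨k, rfl⟩ h1

theorem NS.sq_ne {m : ℕ} (hn : Nat.card K = 3 ^ (2 * m + 1)) (h : NS K c b) {u : G1 K e} (hu : u ∈ AA K e c) (h1 : u ≠ 1) :
    u * u ≠ 1 := fun h2 => h1 (H24.FourCent.eq_one_of_sq (h.odd_AA hn hu) h2)

theorem NS.cent_AA {m : ℕ} (hm : 1 ≤ m) (hn : Nat.card K = 3 ^ (2 * m + 1)) (h : NS K c b) {u : G1 K e} (hu : u ∈ AA K e c)
    (h1 : u ≠ 1) : Subgroup.centralizer {u} = DD K e c := (h.main hm hn).2.2 u (NS.AA_le hu) (h.sq_ne hn hu h1)

theorem NS.conj_DD {m : ℕ} (hm : 1 ≤ m) (hn : Nat.card K = 3 ^ (2 * m + 1)) (h : NS K c b) {u g : G1 K e} (hu : u ∈ AA K e c)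
    (h1 : u ≠ 1) (h2 : g * u * g⁻¹ ∈ AA K e c) {x : G1 K e} (hx : x ∈ DD K e c) : g * x * g⁻¹ ∈ DD K e c := by
  have h3 : g * u * g⁻¹ ≠ 1 := by
    intro h
    apply h1
    have : u = g⁻¹ * (g * u * g⁻¹) * g := by group
    rw [this, h]; group
  rw [← h.cent_AA hm hn h2 h3, centralizer_conj, show g⁻¹ * (g * x * g⁻¹) * g = x by group, h.cent_AA hm hn hu h1]
  exact hx

/-- an element conjugating one nontrivial element of the torus into the torus normalises the torus -/
theorem NS.mem_norm {m : ℕ} (hm : 1 ≤ m) (hn : Nat.card K = 3 ^ (2 * m + 1)) (h : NS K c b) {u g : G1 K e} (hu : u ∈ AA K e c)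
    (h1 : u ≠ 1) (h2 : g * u * g⁻¹ ∈ AA K e c) : g ∈ Subgroup.normalizer (AA K e c : Set (G1 K e)) := by
  apply Subgroup.mem_normalizer_fintype
  intro x hx
  apply h.mem_AA hm hn (h.conj_DD hm hn hu h1 h2 (NS.AA_le hx))
  rw [orderOf_conj']
  exact h.odd_AA hn hx

theorem NS.norm_eq {m : ℕ} (hm : 1 ≤ m) (hn : Nat.card K = 3 ^ (2 * m + 1)) (h : NS K c b) {A : Subgroup (G1 K e)}
    (hA : A ≤ AA K e c) (hne : A ≠ ⊥) :
    Subgroup.normalizer (A : Set (G1 K e)) = Subgroup.normalizer (AA K e c : Set (G1 K e)) := by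
  obtain ⟨⟨u, hu⟩, hu1⟩ := Subgroup.ne_bot_iff_exists_ne_one.1 hne
  have hu1' : u ≠ 1 := fun h => hu1 (Subtype.ext h)
  apply le_antisymm
  · intro g hg
    exact h.mem_norm hm hn (hA hu) hu1' (hA ((Subgroup.mem_normalizer_iff.1 hg u).1 hu))
  · intro g hg
    apply Subgroup.mem_normalizer_fintype
    intro x hx
    have h1 : g * x * g⁻¹ ∈ AA K e c := (Subgroup.mem_normalizer_iff.1 hg x).1 (hA hx)
    have h2 := mem_zpowers_of_cyclic (C := AA K e c) (Subgroup.isCyclic_zpowers _) (hA hx) h1 (orderOf_conj' g x)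
    exact (Subgroup.zpowers_le.2 hx) h2

/-- the elements of square one of the torus -/
theorem NS.sq_one {m : ℕ} (hm : 1 ≤ m) (hn : Nat.card K = 3 ^ (2 * m + 1)) (h : NS K c b) {s : ℕ} (hs : Nat.card K + 1 = 4 * s)
    {x : G1 K e} (hx : x ∈ DD K e c) (hxx : x * x = 1) :
    x = 1 ∨ x = (rho c : G1 K e) ^ s ∨ x = iv ∨ x = iv * (rho c : G1 K e) ^ s := by
  have hspos : 0 < s := by omega
  have key : ∀ j : ℕ, ((rho c : G1 K e) ^ j) * ((rho c : G1 K e) ^ j) = 1 → (rho c : G1 K e) ^ j = 1 ∨ (rho c : G1 K e) ^ j = (rho c : G1 K e) ^ s := by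
    intro j hj
    rw [← pow_add, ← two_mul, h.pow_one_iff, hs, show 2 * (2 * j) = 4 * j by ring] at hj
    obtain ⟨i, rfl⟩ := Nat.dvd_of_mul_dvd_mul_left (by norm_num) hj
    have h2 : ((rho c : G1 K e) ^ s) ^ 2 = 1 := by
      rw [← pow_mul, h.pow_one_iff, hs]
      exact ⟨1, by ring⟩
    rw [pow_mul]
    rcases Nat.even_or_odd' i with ⟨l, rfl | rfl⟩
    · left; rw [pow_mul, h2, one_pow]
    · right; rw [pow_succ, pow_mul, h2, one_pow, one_mul]
  obtain ⟨j, hj | hj⟩ := h.mem_DD hm hn hx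
  · rw [hj] at hxx ⊢
    rcases key j hxx with h1 | h1
    · exact Or.inl h1
    · exact Or.inr (Or.inl h1)
  · have h0 : Commute iv ((rho c : G1 K e) ^ j) := Commute.pow_right (show Commute iv (rho c : G1 K e) from rho_comm c) j
    have h1 : ((rho c : G1 K e) ^ j) * ((rho c : G1 K e) ^ j) = 1 := by
      rw [hj] at hxx
      calc ((rho c : G1 K e) ^ j) * ((rho c : G1 K e) ^ j) = (iv * iv) * (((rho c : G1 K e) ^ j) * ((rho c : G1 K e) ^ j)) := by rw [inv_sq, one_mul]
        _ = iv * (iv * (rho c : G1 K e) ^ j) * ((rho c : G1 K e) ^ j) := by group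
        _ = iv * (((rho c : G1 K e) ^ j) * iv) * ((rho c : G1 K e) ^ j) := by rw [h0.eq]
        _ = (iv * (rho c : G1 K e) ^ j) * (iv * (rho c : G1 K e) ^ j) := by group
        _ = 1 := hxx
    rw [hj]
    rcases key j h1 with h2 | h2
    · right; right; left; rw [h2, mul_one]
    · right; right; right; rw [h2]

theorem NS.t0 {m : ℕ} (h : NS K c b) {s : ℕ} (hs : Nat.card K + 1 = 4 * s) :
    (rho c : G1 K e) ^ s * (rho c : G1 K e) ^ s = 1 ∧ (rho c : G1 K e) ^ s ≠ 1 ∧ (rho c : G1 K e) ^ s ∈ DD K e c := by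
  refine ⟨?_, ?_, ?_⟩
  · rw [← pow_add, h.pow_one_iff, hs]; exact ⟨1, by ring⟩
  · intro h1
    rw [h.pow_one_iff, hs] at h1
    have := Nat.le_of_dvd (by omega) h1
    omega
  · apply Subgroup.pow_mem
    rw [DD, Subgroup.mem_centralizer_singleton_iff]
    unfold al
    rw [← map_mul, ← map_mul, ← pow_succ, ← pow_succ']

theorem NS.ncard_V {m : ℕ} (hm : 1 ≤ m) (hn : Nat.card K = 3 ^ (2 * m + 1)) (h : NS K c b) :
    {x : G1 K e | x ∈ DD K e c ∧ x * x = 1 ∧ x ≠ 1}.ncard = 3 := by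
  obtain ⟨k, hk, -⟩ := exists_s hn
  obtain ⟨t1, t2, t3⟩ := h.t0 (e := e) (m := 0) hk
  set t := (rho c : G1 K e) ^ (2 * k + 1) with ht
  have hit : iv ≠ t := by
    rw [ht, ← map_pow]; exact inv_ne_rho _
  have hcit : iv * t = t * iv := by
    rw [ht]
    exact (Commute.pow_right (show Commute iv (rho c : G1 K e) from rho_comm c) _).eq
  have h1 : {x : G1 K e | x ∈ DD K e c ∧ x * x = 1 ∧ x ≠ 1} = {t, iv, iv * t} := by
    ext x
    simp only [Set.mem_setOf_eq, Set.mem_insert_iff, Set.mem_singleton_iff]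
    constructor
    · rintro ⟨a1, a2, a3⟩
      rcases h.sq_one hm hn hk a1 a2 with h2 | h2 | h2 | h2
      · exact absurd h2 a3
      · exact Or.inl h2
      · exact Or.inr (Or.inl h2)
      · exact Or.inr (Or.inr h2)
    · rintro (rfl | rfl | rfl)
      · exact ⟨t3, t1, t2⟩
      · exact ⟨h.iv_mem, inv_sq, inv_ne⟩
      · refine ⟨mul_mem h.iv_mem t3, ?_, ?_⟩
        · calc iv * t * (iv * t) = iv * (t * iv) * t := by group
            _ = (iv * iv) * (t * t) := by rw [← hcit]; group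
            _ = 1 := by rw [inv_sq, t1, one_mul]
        · intro h2
          apply hit
          rw [eq_inv_of_mul_eq_one_left h2, inv_eq_of_mul_eq_one_left t1]
  classical
  rw [h1, Set.ncard_eq_toFinset_card']
  simp only [Set.toFinset_insert, Set.toFinset_singleton]
  rw [Finset.card_insert_of_notMem, Finset.card_insert_of_notMem, Finset.card_singleton]
  · simp only [Finset.mem_singleton]; exact fun h => t2 (left_eq_mul.1 h)
  · simp only [Finset.mem_insert, Finset.mem_singleton, not_or]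
    exact ⟨fun h => hit h.symm, fun h => inv_ne (right_eq_mul.1 h)⟩

/-- fusion of the involutions of the torus -/
theorem NS.fuse {m : ℕ} (hm : 1 ≤ m) (hn : Nat.card K = 3 ^ (2 * m + 1)) (h : NS K c b) {v : G1 K e} (hv : v ∈ DD K e c)
    (h1 : v * v = 1) (h2 : v ≠ 1) : ∃ n ∈ Subgroup.normalizer (AA K e c : Set (G1 K e)), n * iv * n⁻¹ = v := by
  obtain ⟨r, hr, hr2, hd⟩ := exists_prime_s hm hn
  obtain ⟨y, hyA, hyr, hyi⟩ := h.exists_prime (e := e) hm hn hr hr2 hd
  obtain ⟨g, hg⟩ := invo_conj hn h1 h2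
  have hvy : v * y = y * v := (h.main hm hn).2.1 v hv y (NS.AA_le hyA)
  have hc : iv * (g * y * g⁻¹) = g * y * g⁻¹ * iv := by
    rw [← hg]
    calc g * v * g⁻¹ * (g * y * g⁻¹) = g * (v * y) * g⁻¹ := by group
      _ = g * (y * v) * g⁻¹ := by rw [hvy]
      _ = _ := by group
  have hle : AA K e c ≤ Subgroup.centralizer {iv} := by
    intro x hx
    rw [Subgroup.mem_centralizer_singleton_iff]
    exact (h.main hm hn).2.1 x (NS.AA_le hx) iv h.iv_mem
  have hmem : g * y * g⁻¹ ∈ Subgroup.centralizer {iv} := Subgroup.mem_centralizer_singleton_iff.2 hc.symm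
  obtain ⟨k, hk, hk2⟩ := exists_s hn
  obtain ⟨⟨x, hxc⟩, hx⟩ := conj_of_index (G := Subgroup.centralizer {iv}) ((AA K e c).subgroupOf (Subgroup.centralizer {iv})) hr
    (x := ⟨g * y * g⁻¹, hmem⟩) (k := 1) (by
      have h3 := Subgroup.card_mul_index ((AA K e c).subgroupOf (Subgroup.centralizer {iv}))
      rw [Nat.card_congr (Subgroup.subgroupOfEquivOfLe hle).toEquiv, h.card_AA hk, card_cent_inv] at h3
      have h4 : ((AA K e c).subgroupOf (Subgroup.centralizer {iv})).index = Nat.card K * (Nat.card K - 1) * 4 := by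
        apply Nat.eq_of_mul_eq_mul_left (show 0 < 2 * k + 1 by omega)
        rw [h3, hk2]
        have e1 : (8 * k + 3) ^ 2 - 1 = (8 * k + 2) * (8 * k + 4) := by
          have : (8 * k + 3) ^ 2 = (8 * k + 2) * (8 * k + 4) + 1 := by ring
          omega
        rw [e1, show 8 * k + 3 - 1 = 8 * k + 2 by omega]
        ring
      rw [h4]
      intro h5
      rcases (Nat.Prime.dvd_mul hr).1 h5 with h6 | h6
      · have h7 : orderOf y ∣ Nat.card K ^ 3 * (Nat.card K - 1) := by
          rw [hyr]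
          have : Nat.card K ^ 3 * (Nat.card K - 1) = Nat.card K ^ 2 * (Nat.card K * (Nat.card K - 1)) := by ring
          rw [this]
          exact h6.mul_left _
        exact not_three_dvd hn (by rw [hyr]; exact hr) (by rw [hyr]; exact hr2) (by rw [hyr]; exact hd) h7
      · rw [show 4 = 2 ^ 2 by norm_num] at h6
        exact hr2 ((Nat.prime_dvd_prime_iff_eq hr Nat.prime_two).1 (hr.dvd_of_dvd_pow h6))) (by
      rw [Subgroup.orderOf_mk, orderOf_conj', hyr, pow_one])
  have hx' : x * (g * y * g⁻¹) * x⁻¹ ∈ AA K e c := hx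
  have hy1 : y ≠ 1 := by
    rintro rfl
    rw [orderOf_one] at hyr
    exact hr.one_lt.ne hyr
  have hn2 : x * g ∈ Subgroup.normalizer (AA K e c : Set (G1 K e)) := by
    apply h.mem_norm hm hn hyA hy1
    rw [show x * g * y * (x * g)⁻¹ = x * (g * y * g⁻¹) * x⁻¹ by group]
    exact hx'
  refine ⟨(x * g)⁻¹, inv_mem hn2, ?_⟩
  have h6 : x * iv = iv * x := Subgroup.mem_centralizer_singleton_iff.1 hxc
  have h7 : (x * g) * v * (x * g)⁻¹ = iv := by
    rw [show x * g * v * (x * g)⁻¹ = x * (g * v * g⁻¹) * x⁻¹ by group, hg, h6]; group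
  nth_rewrite 1 [← h7]
  group

theorem NS.b_al (h : NS K c b) : (rho b : G1 K e) * al K e c * (rho b)⁻¹ = (al K e c)⁻¹ := by
  unfold al
  rw [← map_inv, ← map_mul, ← map_mul, ← map_inv, ← conj_pow, h.cj, inv_pow]

/-- the normaliser in the centraliser of the involution -/
theorem NS.card_normC {m : ℕ} (hm : 1 ≤ m) (hn : Nat.card K = 3 ^ (2 * m + 1)) (h : NS K c b) :
    Nat.card ↥(Subgroup.normalizer (AA K e c : Set (G1 K e)) ⊓ Subgroup.centralizer {iv}) = 2 * (Nat.card K + 1) := by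
  haveI : Fintype K := Fintype.ofFinite K
  set N := Subgroup.normalizer (AA K e c : Set (G1 K e)) ⊓ Subgroup.centralizer {iv} with hN
  have halA : al K e c ∈ AA K e c := Subgroup.mem_zpowers _
  have hal1 : al K e c ≠ 1 := by
    intro h1
    obtain ⟨k, hk, hk2⟩ := exists_s hn
    have h2 := h.order_al (e := e) hk
    rw [h1, orderOf_one] at h2
    have h6 : 3 ^ 3 ≤ Nat.card K := by rw [hn]; exact Nat.pow_le_pow_right (by norm_num) (by omega)
    omega
  have h1 : N ⊓ Subgroup.centralizer {al K e c} = DD K e c := by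
    apply le_antisymm
    · intro x hx; exact hx.2
    · intro x hx
      refine ⟨⟨?_, ?_⟩, hx⟩
      · apply h.mem_norm hm hn halA hal1
        have h2 : x * al K e c * x⁻¹ = al K e c := by
          rw [Subgroup.mem_centralizer_singleton_iff.1 hx]; group
        rw [h2]; exact halA
      · exact Subgroup.mem_centralizer_singleton_iff.2 ((h.main hm hn).2.1 x hx iv h.iv_mem)
  have h2 : {x : G1 K e | ∃ n ∈ N, n * al K e c * n⁻¹ = x} = {al K e c, (al K e c)⁻¹} := by
    ext x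
    simp only [Set.mem_setOf_eq, Set.mem_insert_iff, Set.mem_singleton_iff]
    constructor
    · rintro ⟨n, ⟨hn1, hn2⟩, rfl⟩
      have h3 : n * al K e c * n⁻¹ ∈ AA K e c := (Subgroup.mem_normalizer_iff.1 hn1 _).1 halA
      obtain ⟨j, hj⟩ := (mem_powers_iff_mem_zpowers (x := al K e c)).2 h3
      obtain ⟨M, hM⟩ := cent (Subgroup.mem_centralizer_singleton_iff.1 hn2).symm
      have h4 : n * al K e c * n⁻¹ = rho (M * c ^ 2 * M⁻¹) := by
        rw [map_mul, map_mul, map_inv]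
        rcases hM with rfl | rfl
        · rfl
        · have h5 : (rho M * al K e c * (rho M)⁻¹ : G1 K e) = rho (M * c ^ 2 * M⁻¹) := by
            rw [map_mul, map_mul, map_inv]; rfl
          rw [show iv * rho M * al K e c * (iv * rho M)⁻¹ = iv * (rho M * al K e c * (rho M)⁻¹) * iv⁻¹ by group, h5,
            rho_comm, mul_inv_cancel_right, map_mul, map_mul, map_inv]
      change al K e c ^ j = _ at hj
      rw [h4] at hj ⊢
      have h5 : (rho ((c ^ 2) ^ j) : G1 K e) = rho (M * c ^ 2 * M⁻¹) := by rw [← hj, map_pow]; rfl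
      have h6 : M * c ^ 2 * M⁻¹ ∈ Subgroup.zpowers c := by
        have h7 : (rho (((c ^ 2) ^ j)⁻¹ * (M * c ^ 2 * M⁻¹)) : G1 K e) = 1 := by
          rw [map_mul, map_inv, h5, inv_mul_cancel]
        have h8 : (c ^ 2) ^ j ∈ Subgroup.zpowers c := Subgroup.pow_mem _ (Subgroup.pow_mem _ (Subgroup.mem_zpowers c) 2) j
        rcases rho_ker h7 with h9 | h9
        · rw [inv_mul_eq_one] at h9
          rw [← h9]; exact h8
        · rw [inv_mul_eq_iff_eq_mul] at h9
          rw [h9]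
          exact mul_mem h8 ((h.tor hn).neg_one_mem)
      rcases (h.tor hn).conj_eq (Subgroup.pow_mem _ (Subgroup.mem_zpowers c) 2) (h.not_scal_sq hm hn) h6
        (isConj_iff.2 ⟨M, rfl⟩) with h7 | h7
      · left; rw [h7]; rfl
      · right; rw [h7, map_inv]; rfl
    · rintro (rfl | rfl)
      · exact ⟨1, one_mem _, by group⟩
      · refine ⟨rho b, ⟨?_, Subgroup.mem_centralizer_singleton_iff.2 (rho_comm b).symm⟩, h.b_al⟩
        apply h.mem_norm hm hn halA hal1
        rw [h.b_al]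
        exact inv_mem halA
  have h3 := orb_card N (al K e c)
  rw [h1, h2, (h.main hm hn).1, Set.ncard_pair] at h3
  · exact h3
  · intro h4
    apply h.sq_ne hn halA hal1
    nth_rewrite 2 [h4]
    exact mul_inv_cancel _

theorem NS.card_norm {m : ℕ} (hm : 1 ≤ m) (hn : Nat.card K = 3 ^ (2 * m + 1)) (h : NS K c b) :
    Nat.card (Subgroup.normalizer (AA K e c : Set (G1 K e))) = 6 * (Nat.card K + 1) := by
  have h1 := orb_card (Subgroup.normalizer (AA K e c : Set (G1 K e))) iv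
  have h2 : {x : G1 K e | ∃ n ∈ Subgroup.normalizer (AA K e c : Set (G1 K e)), n * iv * n⁻¹ = x} =
      {x : G1 K e | x ∈ DD K e c ∧ x * x = 1 ∧ x ≠ 1} := by
    ext x
    simp only [Set.mem_setOf_eq]
    constructor
    · rintro ⟨n, hn1, rfl⟩
      have halA : al K e c ∈ AA K e c := Subgroup.mem_zpowers _
      have hal1 : al K e c ≠ 1 := by
        intro h1
        obtain ⟨k, hk, hk2⟩ := exists_s hn
        have h2 := h.order_al (e := e) hk
        rw [h1, orderOf_one] at h2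
        have h6 : 3 ^ 3 ≤ Nat.card K := by rw [hn]; exact Nat.pow_le_pow_right (by norm_num) (by omega)
        omega
      refine ⟨h.conj_DD hm hn halA hal1 ((Subgroup.mem_normalizer_iff.1 hn1 _).1 halA) h.iv_mem, ?_, ?_⟩
      · rw [show n * iv * n⁻¹ * (n * iv * n⁻¹) = n * (iv * iv) * n⁻¹ by group, inv_sq]; group
      · intro h3
        apply inv_ne (K := K) (e := e)
        have : iv = n⁻¹ * (n * iv * n⁻¹) * n := by group
        rw [this, h3]; group
    · rintro ⟨a1, a2, a3⟩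
      exact h.fuse hm hn a1 a2 a3
  rw [h1, h2, h.ncard_V hm hn, h.card_normC hm hn]
  ring

end H24.ReeTor
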