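/-
H24: the small Ree groups: elements of prime order dividing q^2 - q + 1.
-/
import Cfsg.Agent.Lib.H24.ReeTor5
import Cfsg.Agent.Lib.H8.FieldCent
import Cfsg.Agent.Lib.H8.TICount
set_option autoImplicit false
set_option linter.unusedSimpArgs false
set_option linter.unusedVariables false
set_option linter.unusedSectionVars false
namespace H24.ReeTor

open Cfsg.Lie Matrix H24.ReeBlk H24.ReeAd H24.ReeAl H24.ReeGood H24.ReePts H24.ReeGrp
open H24.ReeAct H24.ReeStr H24.ReeInt H24.ReeUni H24.ReeSub H24.ReeSyl H24.ReeSyl3 H24.ReeCen H24.ReeSyl2 H24.ReeInvo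
open H24.ReeFour
open scoped MatrixGroups Pointwise

section arith

/-- `q² - q + 1` -/
def MQ (q : ℕ) : ℕ := q ^ 2 - q + 1

theorem MQ_add (q : ℕ) : MQ q + q = q ^ 2 + 1 := by
  have : q ≤ q ^ 2 := Nat.le_self_pow (by norm_num) q
  unfold MQ; omega

theorem MQ_mul (q : ℕ) : (q + 1) * MQ q = q ^ 3 + 1 := by
  have := MQ_add q
  zify at this ⊢
  linear_combination ((q : ℤ) + 1) * this

variable {q p : ℕ}

theorem not_dvd_q (hp : p.Prime) (h : p ∣ MQ q) : ¬ p ∣ q := by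
  intro h1
  have h2 : p ∣ q ^ 2 + 1 := by rw [← MQ_add]; exact dvd_add h h1
  have h3 : p ∣ q ^ 2 := h1.trans (dvd_pow_self q (by norm_num))
  have := (Nat.dvd_add_right h3).1 h2
  exact hp.one_lt.ne' (Nat.dvd_one.1 this)

theorem MQ_odd (q : ℕ) : ¬ 2 ∣ MQ q := by
  intro h
  have h1 := MQ_add q
  rcases Nat.even_or_odd' q with ⟨k, rfl | rfl⟩
  · obtain ⟨j, hj⟩ := h
    have : (2 * k) ^ 2 = 2 * (2 * k ^ 2) := by ring
    omega
  · obtain ⟨j, hj⟩ := h
    have : (2 * k + 1) ^ 2 = 2 * (2 * k ^ 2 + 2 * k) + 1 := by ring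
    omega

theorem ne_two (h : p ∣ MQ q) : p ≠ 2 := by
  rintro rfl; exact MQ_odd q h

theorem ne_three (h3 : 3 ∣ q) (h : p ∣ MQ q) : p ≠ 3 := by
  rintro rfl
  exact not_dvd_q Nat.prime_three h h3

theorem ZMod_facts (hq : 1 ≤ q) (h : p ∣ MQ q) : ((q : ZMod p)) ^ 2 = q - 1 := by
  have h1 := MQ_add q
  have h2 := (ZMod.natCast_eq_zero_iff (MQ q) p).2 h
  have h3 : ((MQ q + q : ℕ) : ZMod p) = ((q ^ 2 + 1 : ℕ) : ZMod p) := by rw [h1]
  push_cast at h3
  rw [h2] at h3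
  linear_combination -h3

theorem not_dvd_add (hq : 1 ≤ q) (h3 : 3 ∣ q) (hp : p.Prime) (h : p ∣ MQ q) : ¬ p ∣ q + 1 := by
  intro h1
  haveI : Fact p.Prime := ⟨hp⟩
  have h2 := ZMod_facts hq h
  have h4 := (ZMod.natCast_eq_zero_iff (q + 1) p).2 h1
  push_cast at h4
  have h5 : ((3 : ℕ) : ZMod p) = 0 := by
    push_cast
    linear_combination h2 + (2 - (q : ZMod p)) * h4
  rw [ZMod.natCast_eq_zero_iff] at h5
  exact ne_three h3 h ((Nat.prime_dvd_prime_iff_eq hp Nat.prime_three).1 h5)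

theorem not_dvd_pow (hq : 1 ≤ q) (h3 : 3 ∣ q) (hp : p.Prime) (h : p ∣ MQ q) :
    ∀ i, 1 ≤ i → i < 6 → ¬ p ∣ q ^ i - 1 := by
  intro i hi1 hi6 hd
  haveI : Fact p.Prime := ⟨hp⟩
  have h2 := ZMod_facts hq h
  have hq0 : (q : ZMod p) ≠ 0 := by
    rw [Ne, ZMod.natCast_eq_zero_iff]; exact not_dvd_q hp h
  have hone : 1 ≤ q ^ i := Nat.one_le_pow _ _ hq
  have h4 := (ZMod.natCast_eq_zero_iff (q ^ i - 1) p).2 hd
  rw [Nat.cast_sub hone] at h4
  push_cast at h4
  have h2p : ((2 : ℕ) : ZMod p) ≠ 0 := by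
    rw [Ne, ZMod.natCast_eq_zero_iff]
    intro h5
    exact ne_two h ((Nat.prime_dvd_prime_iff_eq hp Nat.prime_two).1 h5)
  have hadd : (q : ZMod p) + 1 ≠ 0 := by
    have := not_dvd_add hq h3 hp h
    rw [← ZMod.natCast_eq_zero_iff] at this
    push_cast at this
    exact this
  have hone' : (1 : ZMod p) ≠ 0 := one_ne_zero
  push_cast at h2p
  set a := (q : ZMod p)
  have hi : i = 1 ∨ i = 2 ∨ i = 3 ∨ i = 4 ∨ i = 5 := by omega
  rcases hi with rfl | rfl | rfl | rfl | rfl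
  · -- a = 1 : a^2 = a-1 = 0
    apply hq0
    have : a ^ 2 = 0 := by linear_combination h2 + h4
    exact pow_eq_zero_iff (by norm_num) |>.1 this
  · -- a^2 = 1: a = 2, 3 = 0
    apply hadd
    have e1 : a = 2 := by linear_combination -h2 + h4
    rw [e1] at h4 ⊢
    linear_combination h4
  · -- a^3 = -1
    apply h2p
    linear_combination (a + 1) * h2 - h4
  · -- a^4 = -a
    apply hadd
    linear_combination (a ^ 2 + a) * h2 - h4
  · -- a^5 = -a^2
    apply hq0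
    linear_combination (a ^ 3 + a ^ 2 - 1) * h2 - h4

theorem seven_le (hq : 1 ≤ q) (h3 : 3 ∣ q) (hp : p.Prime) (h : p ∣ MQ q) : 7 ≤ p := by
  have h2 := ne_two h
  have h3' := ne_three h3 h
  have h5 : p ≠ 5 := by
    rintro rfl
    have h2 := ZMod_facts hq h
    generalize (q : ZMod 5) = a at h2
    revert a
    decide
  have h4 : p ≠ 4 := by rintro rfl; norm_num at hp
  have h6 : p ≠ 6 := by rintro rfl; norm_num at hp
  have := hp.two_le
  omega

end arith

variable {K : Type*} [Field K] {e : ℕ} [RF K e] [Finite K]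

local notation "iv" => (H24.ReeCen.inv : G1 K e)

theorem three_dvd {K : Type*} {m : ℕ} (hn : Nat.card K = 3 ^ (2 * m + 1)) : 3 ∣ Nat.card K := by
  rw [hn]; exact dvd_pow_self 3 (by omega)

theorem card_G1' : Nat.card (G1 K e) = Nat.card K ^ 3 * (Nat.card K - 1) * ((Nat.card K + 1) * MQ (Nat.card K)) := by
  rw [card_G1, MQ_mul]

/-- primes dividing the group order -/
theorem prime_cases {m : ℕ} (hn : Nat.card K = 3 ^ (2 * m + 1)) {r : ℕ} (hr : r.Prime) {v : G1 K e} (hv : orderOf v = r) :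
    r = 2 ∨ r = 3 ∨ (r ≠ 2 ∧ r ∣ Nat.card K - 1) ∨ (r ≠ 2 ∧ r ∣ Nat.card K + 1) ∨ r ∣ MQ (Nat.card K) := by
  have h1 := orderOf_dvd_natCard v
  rw [hv, card_G1'] at h1
  by_cases h2 : r = 2
  · exact Or.inl h2
  right
  rcases (Nat.Prime.dvd_mul hr).1 h1 with h | h
  · rcases (Nat.Prime.dvd_mul hr).1 h with h | h
    · left
      rw [hn] at h
      exact (Nat.prime_dvd_prime_iff_eq hr Nat.prime_three).1 (hr.dvd_of_dvd_pow (hr.dvd_of_dvd_pow h))
    · exact Or.inr (Or.inl ⟨h2, h⟩)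
  · rcases (Nat.Prime.dvd_mul hr).1 h with h | h
    · exact Or.inr (Or.inr (Or.inl ⟨h2, h⟩))
    · exact Or.inr (Or.inr (Or.inr h))

theorem prime_of_commute {m : ℕ} (hn : Nat.card K = 3 ^ (2 * m + 1)) {p : ℕ} (hp : p.Prime) (hpq : p ∣ MQ (Nat.card K))
    {x : G1 K e} (hx : orderOf x = p) {r : ℕ} (hr : r.Prime) {v : G1 K e} (hv : orderOf v = r) (hc : x * v = v * x) :
    r ∣ MQ (Nat.card K) := by
  have hq : 1 < Nat.card K := Finite.one_lt_card
  have h3 := three_dvd hn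
  have n1 := not_dvd_q hp hpq
  have n2 := not_dvd_pow hq.le h3 hp hpq 1 le_rfl (by norm_num)
  rw [pow_one] at n2
  have n3 := not_dvd_add hq.le h3 hp hpq
  have n4 := not_dvd_pow hq.le h3 hp hpq 2 (by norm_num) (by norm_num)
  have hxm : x ∈ Subgroup.centralizer {v} := Subgroup.mem_centralizer_singleton_iff.2 hc
  have hxd : p ∣ Nat.card (Subgroup.centralizer {v}) := by
    have := orderOf_dvd_natCard (⟨x, hxm⟩ : Subgroup.centralizer {v})
    rwa [Subgroup.orderOf_mk, hx] at this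
  rcases prime_cases hn hr hv with h | h | ⟨h, h'⟩ | ⟨h, h'⟩ | h
  · exfalso
    subst h
    have hv1 : v ≠ 1 := by
      rintro rfl; rw [orderOf_one] at hv; norm_num at hv
    have hvv : v * v = 1 := by rw [← pow_two, ← hv, pow_orderOf_eq_one]
    rw [card_cent_invo hn hvv hv1] at hxd
    rcases (Nat.Prime.dvd_mul hp).1 hxd with h1 | h1
    · exact n1 h1
    · exact n4 h1
  · exfalso
    subst h
    have hv1 : v ≠ 1 := by
      rintro rfl; rw [orderOf_one] at hv; norm_num at hv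
    have h1 := comm3 hn (k := 1) (z := v) (y := x) (by rw [pow_one]; exact hv) hv1 hc.symm
    rw [hx] at h1
    rcases (Nat.Prime.dvd_mul hp).1 h1 with h1 | h1
    · exact n1 (hp.dvd_of_dvd_pow h1)
    · exact n2 h1
  · exfalso
    rw [(cent_h hn hr h h' hv).1] at hxd
    exact n2 hxd
  · exfalso
    rw [(tor_s hn (y := v) (by rw [hv]; exact hr) (by rw [hv]; exact h) (by rw [hv]; exact h')).1] at hxd
    exact n3 hxd
  · exact h

end H24.ReeTor
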