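/-
H24: the small Ree groups: centralisers of elements of prime order dividing q^2 - q + 1 are cyclic.
-/
import Cfsg.Agent.Lib.H24.ReeTor6
set_option autoImplicit false
set_option linter.unusedSimpArgs false
set_option linter.unusedVariables false
set_option linter.unusedSectionVars false
namespace H24.ReeTor

open Cfsg.Lie Matrix H24.ReeBlk H24.ReeAd H24.ReeAl H24.ReeGood H24.ReePts H24.ReeGrp
open H24.ReeAct H24.ReeStr H24.ReeInt H24.ReeUni H24.ReeSub H24.ReeSyl H24.ReeSyl3 H24.ReeCen H24.ReeSyl2 H24.ReeInvo
open H24.ReeFour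
open scoped MatrixGroups Pointwise

theorem pow_eq_cases {q p d : ℕ} (hq : 1 ≤ q) (h3 : 3 ∣ q) (hp : p.Prime) (h : p ∣ MQ q) (hd : d ≤ 6)
    (hmod : q ^ 7 ≡ q ^ d [MOD p]) : d = 1 := by
  haveI : Fact p.Prime := ⟨hp⟩
  have h2 := ZMod_facts hq h
  have h4 := (ZMod.natCast_eq_natCast_iff _ _ _).2 hmod
  push_cast at h4
  have hq0 : (q : ZMod p) ≠ 0 := by
    rw [Ne, ZMod.natCast_eq_zero_iff]; exact not_dvd_q hp h
  have hadd : (q : ZMod p) + 1 ≠ 0 := by
    have := not_dvd_add hq h3 hp h
    rw [← ZMod.natCast_eq_zero_iff] at this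
    push_cast at this
    exact this
  have h2p : (2 : ZMod p) ≠ 0 := by
    have : ((2 : ℕ) : ZMod p) ≠ 0 := by
      rw [Ne, ZMod.natCast_eq_zero_iff]
      intro h5
      exact ne_two h ((Nat.prime_dvd_prime_iff_eq hp Nat.prime_two).1 h5)
    exact_mod_cast this
  set a := (q : ZMod p)
  have ha3 : a ^ 3 = -1 := by linear_combination (a + 1) * h2
  have ha7 : a ^ 7 = a := by
    calc a ^ 7 = (a ^ 3) ^ 2 * a := by ring
      _ = a := by rw [ha3]; ring
  rw [ha7] at h4
  have ha1 : a ≠ 1 := by
    intro h5
    apply hq0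
    rw [h5] at h2
    rw [h5]
    linear_combination h2
  interval_cases d
  · exact absurd (by rw [h4]; ring) ha1
  · rfl
  · exfalso
    apply ha1
    have : a * (a - 1) = 0 := by linear_combination -h4
    rcases mul_eq_zero.1 this with h5 | h5
    · exact absurd h5 hq0
    · linear_combination h5
  · exfalso; apply hadd; rw [h4, ha3]; ring
  · exfalso
    have : 2 * a = 0 := by
      have : a ^ 4 = a ^ 3 * a := by ring
      rw [this, ha3] at h4
      linear_combination h4
    rcases mul_eq_zero.1 this with h5 | h5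
    · exact h2p h5
    · exact hq0 h5
  · exfalso
    have : a ^ 5 = a ^ 3 * a ^ 2 := by ring
    rw [this, ha3] at h4
    have h6 : a * (a + 1) = 0 := by linear_combination h4
    rcases mul_eq_zero.1 h6 with h5 | h5
    · exact hq0 h5
    · exact hadd h5
  · exfalso
    apply ha1
    have : a ^ 6 = (a ^ 3) ^ 2 := by ring
    rw [this, ha3] at h4
    rw [h4]; ring

variable {K : Type*} [Field K] {e : ℕ} [RF K e] [Finite K]

/-- the linear action -/
noncomputable def act (K : Type*) [Field K] (e : ℕ) [RF K e] [Finite K] : G1 K e →* Module.End K (Fin 7 → K) where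
  toFun g := Matrix.mulVecLin (ag g)
  map_one' := by rw [ag_one, Matrix.mulVecLin_one]; rfl
  map_mul' g h := by rw [ag_mul, Matrix.mulVecLin_mul]; rfl

theorem act_apply (g : G1 K e) (v : Fin 7 → K) : act K e g v = ag g *ᵥ v := rfl

theorem act_inj {g : G1 K e} (h : act K e g = 1) : g = 1 := by
  apply ag_inj
  rw [ag_one]
  apply Matrix.mulVec_injective
  funext v
  rw [Matrix.one_mulVec, ← act_apply, h]
  rfl

variable {p : ℕ} {x : G1 K e}

theorem finrank_ker {m : ℕ} (hn : Nat.card K = 3 ^ (2 * m + 1)) (hp : p.Prime) (hpq : p ∣ MQ (Nat.card K)) (hx : orderOf x = p) :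
    Module.finrank K (LinearMap.ker (act K e x - 1)) = 1 := by
  haveI : Fact p.Prime := ⟨hp⟩
  have hq : 1 < Nat.card K := Finite.one_lt_card
  letI : MulAction (Subgroup.zpowers x) (Fin 7 → K) :=
    { smul := fun g v => act K e (g : G1 K e) v
      one_smul := fun v => by change act K e 1 v = v; rw [map_one]; rfl
      mul_smul := fun g h v => by
        change act K e ((g : G1 K e) * h) v = act K e g (act K e h v)
        rw [map_mul]; rfl }
  have hP : IsPGroup p (Subgroup.zpowers x) := by
    apply IsPGroup.of_card (n := 1)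
    rw [Nat.card_zpowers, hx, pow_one]
  have h1 := hP.card_modEq_card_fixedPoints (Fin 7 → K)
  have h2 : Nat.card (MulAction.fixedPoints (Subgroup.zpowers x) (Fin 7 → K)) = Nat.card (LinearMap.ker (act K e x - 1)) := by
    apply Nat.card_congr
    apply Equiv.subtypeEquivRight
    intro v
    rw [MulAction.mem_fixedPoints, LinearMap.mem_ker, LinearMap.sub_apply, sub_eq_zero]
    constructor
    · intro h; exact h ⟨x, Subgroup.mem_zpowers x⟩
    · intro h
      have hx1 : x ∈ ({ carrier := {g | act K e g v = v}
                        one_mem' := by change act K e 1 v = v; rw [map_one]; rfl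
                        mul_mem' := by
                          intro a b ha hb
                          change act K e (a * b) v = v
                          rw [map_mul]
                          change act K e a (act K e b v) = v
                          rw [show act K e b v = v from hb]; exact ha
                        inv_mem' := by
                          intro a ha
                          change act K e a⁻¹ v = v
                          have h5 : act K e a v = v := ha
                          nth_rewrite 1 [← h5]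
                          change (act K e a⁻¹ * act K e a) v = v
                          rw [← map_mul, inv_mul_cancel, map_one]; rfl } : Subgroup (G1 K e)) := h
      rintro ⟨g, hg⟩
      exact (Subgroup.zpowers_le.2 hx1) hg
  rw [h2, Module.natCard_eq_pow_finrank (K := K) (V := Fin 7 → K), Module.finrank_fin_fun,
    Module.natCard_eq_pow_finrank (K := K) (V := LinearMap.ker (act K e x - 1))] at h1
  apply pow_eq_cases hq.le (three_dvd hn) hp hpq _ h1
  have h3 : Module.finrank K (LinearMap.ker (act K e x - 1)) < 7 := by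
    have h4 : LinearMap.ker (act K e x - 1) ≠ ⊤ := by
      intro h5
      rw [LinearMap.ker_eq_top, sub_eq_zero] at h5
      have := act_inj h5
      rw [this, orderOf_one] at hx
      exact hp.one_lt.ne hx
    have := Submodule.finrank_lt h4
    rwa [Module.finrank_fin_fun] at this
  omega

/-- the six-dimensional invariant subspace -/
noncomputable def WW (x : G1 K e) : Submodule K (Fin 7 → K) := LinearMap.range (act K e x - 1)

theorem finrank_WW {m : ℕ} (hn : Nat.card K = 3 ^ (2 * m + 1)) (hp : p.Prime) (hpq : p ∣ MQ (Nat.card K)) (hx : orderOf x = p) :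
    Module.finrank K (WW x) = 6 := by
  have h1 := LinearMap.finrank_range_add_finrank_ker (act K e x - 1)
  rw [finrank_ker hn hp hpq hx, Module.finrank_fin_fun] at h1
  unfold WW
  omega

theorem act_comm {g : G1 K e} (hg : g ∈ Subgroup.centralizer {x}) : act K e g * (act K e x - 1) = (act K e x - 1) * act K e g := by
  rw [Subgroup.mem_centralizer_singleton_iff] at hg
  rw [mul_sub, sub_mul, ← map_mul, ← map_mul, hg, mul_one, one_mul]

theorem act_WW {g : G1 K e} (hg : g ∈ Subgroup.centralizer {x}) : ∀ w ∈ WW x, act K e g w ∈ WW x := by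
  rintro _ ⟨v, rfl⟩
  refine ⟨act K e g v, ?_⟩
  change ((act K e x - 1) * act K e g) v = (act K e g * (act K e x - 1)) v
  rw [act_comm hg]

/-- the action of the centraliser on the six-dimensional space -/
noncomputable def psi (x : G1 K e) : Subgroup.centralizer {x} →* Module.End K (WW x) where
  toFun g := (act K e (g : G1 K e)).restrict (act_WW g.2)
  map_one' := by
    apply LinearMap.ext
    intro w
    apply Subtype.ext
    change act K e 1 (w : Fin 7 → K) = w
    rw [map_one]; rfl
  map_mul' g h := by
    apply LinearMap.ext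
    intro w
    apply Subtype.ext
    change act K e ((g : G1 K e) * h) (w : Fin 7 → K) = act K e g (act K e h w)
    rw [map_mul]; rfl

theorem psi_apply (g : Subgroup.centralizer {x}) (w : WW x) : ((psi x g w : WW x) : Fin 7 → K) = act K e g (w : Fin 7 → K) := rfl

theorem p_ne {m : ℕ} (hn : Nat.card K = 3 ^ (2 * m + 1)) (hp : p.Prime) (hpq : p ∣ MQ (Nat.card K)) : (p : K) ≠ 0 := by
  haveI : Fintype K := Fintype.ofFinite K
  haveI : Fact (Nat.Prime 3) := ⟨Nat.prime_three⟩
  haveI : CharP K 3 := charP_of_card_eq_prime_pow (f := 2 * m + 1) (by rw [← Nat.card_eq_fintype_card, hn])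
  rw [Ne, CharP.cast_eq_zero_iff K 3]
  intro h
  exact ne_three (three_dvd hn) hpq ((Nat.prime_dvd_prime_iff_eq Nat.prime_three hp).1 h).symm

theorem ker_disj {m : ℕ} (hn : Nat.card K = 3 ^ (2 * m + 1)) (hp : p.Prime) (hpq : p ∣ MQ (Nat.card K)) (hx : orderOf x = p) :
    Disjoint (WW x) (LinearMap.ker (act K e x - 1)) := by
  rw [Submodule.disjoint_def]
  rintro _ ⟨w, rfl⟩ h2
  set v := (act K e x - 1) w with hv
  rw [LinearMap.mem_ker, LinearMap.sub_apply, sub_eq_zero] at h2
  have h3 : (∑ i ∈ Finset.range p, act K e x ^ i) v = 0 := by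
    rw [hv]
    change ((∑ i ∈ Finset.range p, act K e x ^ i) * (act K e x - 1)) w = 0
    rw [geom_sum_mul, ← map_pow, ← hx, pow_orderOf_eq_one, map_one, sub_self]; rfl
  have h4 : ∀ i, (act K e x ^ i) v = v := by
    intro i
    induction i with
    | zero => rfl
    | succ i ih =>
      rw [pow_succ]
      change (act K e x ^ i) (act K e x v) = v
      rw [h2]; exact ih
  rw [LinearMap.sum_apply, Finset.sum_congr rfl (fun i _ => h4 i), Finset.sum_const, Finset.card_range, ← Nat.cast_smul_eq_nsmul K] at h3
  exact (smul_eq_zero.1 h3).resolve_left (p_ne hn hp hpq)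

theorem psi_inj {m : ℕ} (hn : Nat.card K = 3 ^ (2 * m + 1)) (hp : p.Prime) (hpq : p ∣ MQ (Nat.card K)) (hx : orderOf x = p) :
    Function.Injective (psi x) := by
  rw [injective_iff_map_eq_one]
  rintro ⟨g, hg⟩ h1
  have hq : 1 < Nat.card K := Finite.one_lt_card
  have hW : ∀ w ∈ WW x, act K e g w = w := by
    intro w hw
    have := congrArg (fun f : Module.End K (WW x) => ((f ⟨w, hw⟩ : WW x) : Fin 7 → K)) h1
    exact this
  have hpow : g ^ (Nat.card K - 1) = 1 := by
    apply act_inj
    have htop : WW x ⊔ LinearMap.ker (act K e x - 1) = ⊤ := by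
      apply Submodule.eq_top_of_disjoint _ _ _ (ker_disj hn hp hpq hx)
      rw [finrank_WW hn hp hpq hx, finrank_ker hn hp hpq hx, Module.finrank_fin_fun]
    obtain ⟨v0, hv0, hspan⟩ := finrank_eq_one_iff'.1 (finrank_ker hn hp hpq hx)
    have hv0' : (v0 : Fin 7 → K) ≠ 0 := fun h => hv0 (Subtype.ext h)
    have hmem : act K e g (v0 : Fin 7 → K) ∈ LinearMap.ker (act K e x - 1) := by
      rw [LinearMap.mem_ker]
      change ((act K e x - 1) * act K e g) _ = 0
      rw [← act_comm hg]
      change act K e g ((act K e x - 1) (v0 : Fin 7 → K)) = 0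
      rw [LinearMap.mem_ker.1 v0.2, map_zero]
    obtain ⟨c, hc⟩ := hspan ⟨_, hmem⟩
    have hc' : act K e g (v0 : Fin 7 → K) = c • (v0 : Fin 7 → K) := (congrArg Subtype.val hc).symm
    have hc0 : c ≠ 0 := by
      rintro rfl
      rw [zero_smul] at hc'
      apply hv0'
      have : act K e (g⁻¹ * g) (v0 : Fin 7 → K) = 0 := by
        rw [map_mul]
        change act K e g⁻¹ (act K e g (v0 : Fin 7 → K)) = 0
        rw [hc', map_zero]
      rwa [inv_mul_cancel, map_one] at this
    have hcp : ∀ n : ℕ, act K e (g ^ n) (v0 : Fin 7 → K) = c ^ n • (v0 : Fin 7 → K) := by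
      intro n
      induction n with
      | zero => rw [pow_zero, map_one, pow_zero, one_smul]; rfl
      | succ n ih =>
        rw [pow_succ, map_mul]
        change act K e (g ^ n) (act K e g (v0 : Fin 7 → K)) = _
        rw [hc', map_smul, ih, smul_smul, pow_succ, mul_comm]
    have hWp : ∀ n : ℕ, ∀ w ∈ WW x, act K e (g ^ n) w = w := by
      intro n w hw
      induction n with
      | zero => rw [pow_zero, map_one]; rfl
      | succ n ih =>
        rw [pow_succ, map_mul]
        change act K e (g ^ n) (act K e g w) = _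
        rw [hW w hw, ih]
    have hcq : c ^ (Nat.card K - 1) = 1 := by
      haveI : Fintype K := Fintype.ofFinite K
      rw [Nat.card_eq_fintype_card]
      exact FiniteField.pow_card_sub_one_eq_one c hc0
    apply LinearMap.ext
    intro v
    have hv : v ∈ WW x ⊔ LinearMap.ker (act K e x - 1) := by rw [htop]; exact Submodule.mem_top
    obtain ⟨w, hw, u, hu, rfl⟩ := Submodule.mem_sup.1 hv
    obtain ⟨d, hd⟩ := hspan ⟨u, hu⟩
    have hd' : d • (v0 : Fin 7 → K) = u := congrArg Subtype.val hd
    rw [map_add, hWp _ w hw, ← hd', map_smul, hcp, hcq, one_smul]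
    rfl
  by_contra hne
  have hg1 : g ≠ 1 := fun h => hne (Subtype.ext h)
  have ho : orderOf g ≠ 1 := fun h => hg1 (orderOf_eq_one_iff.1 h)
  obtain ⟨r, hr, hrd⟩ := Nat.exists_prime_and_dvd ho
  obtain ⟨c, hc⟩ := exists_pow_prime hr hrd
  have h2 : x * g ^ c = g ^ c * x :=
    (Commute.pow_right (show Commute x g from (Subgroup.mem_centralizer_singleton_iff.1 hg).symm) c).eq
  have h3 := prime_of_commute hn hp hpq hx hr hc h2
  have h4 := not_dvd_pow hq.le (three_dvd hn) hr h3 1 le_rfl (by norm_num)
  rw [pow_one] at h4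
  exact h4 (hrd.trans (orderOf_dvd_of_pow_eq_one hpow))

/-- the six-dimensional matrix representation of the centraliser -/
theorem exists_iota {m : ℕ} (hn : Nat.card K = 3 ^ (2 * m + 1)) (hp : p.Prime) (hpq : p ∣ MQ (Nat.card K)) (hx : orderOf x = p) :
    ∃ (ι : Subgroup.centralizer {x} →* Matrix (Fin 6) (Fin 6) K) (μ : Polynomial K), Function.Injective ι ∧ Irreducible μ ∧
      μ.natDegree = 6 ∧ Polynomial.aeval (ι ⟨x, Subgroup.mem_centralizer_singleton_iff.2 rfl⟩) μ = 0 ∧
      ∃ b : Module.Basis (Fin 6) K (WW x), ∀ g, ι g = LinearMap.toMatrixAlgEquiv b (psi x g) := by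
  haveI : Fintype K := Fintype.ofFinite K
  have hq : 1 < Nat.card K := Finite.one_lt_card
  let b : Module.Basis (Fin 6) K (WW x) := Module.finBasisOfFinrankEq K (WW x) (finrank_WW hn hp hpq hx)
  let ι : Subgroup.centralizer {x} →* Matrix (Fin 6) (Fin 6) K :=
    ((LinearMap.toMatrixAlgEquiv b).toRingEquiv.toMulEquiv.toMonoidHom).comp (psi x)
  have hι : ∀ g, ι g = LinearMap.toMatrixAlgEquiv b (psi x g) := fun g => rfl
  have hinj : Function.Injective ι := (LinearMap.toMatrixAlgEquiv b).injective.comp (psi_inj hn hp hpq hx)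
  obtain ⟨μ, h1, h2, h3⟩ := H8.FieldCent.exists_irreducible (F := K) (n := 6) (M := ι ⟨x, Subgroup.mem_centralizer_singleton_iff.2 rfl⟩) hp
    (p_ne hn hp hpq) (by
      intro h
      rw [← map_one ι] at h
      have := congrArg Subtype.val (hinj h)
      change x = 1 at this
      rw [this, orderOf_one] at hx
      exact hp.one_lt.ne hx)
    (by
      rw [← map_pow]
      have : (⟨x, Subgroup.mem_centralizer_singleton_iff.2 rfl⟩ : Subgroup.centralizer {x}) ^ p = 1 := by
        apply Subtype.ext
        change x ^ p = 1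
        rw [← hx, pow_orderOf_eq_one]
      rw [this, map_one])
    (by
      rw [← Nat.card_eq_fintype_card]
      exact not_dvd_pow hq.le (three_dvd hn) hp hpq)
  exact ⟨ι, μ, hinj, h1, h2, h3, b, hι⟩

theorem isCyclic_cent {m : ℕ} (hn : Nat.card K = 3 ^ (2 * m + 1)) (hp : p.Prime) (hpq : p ∣ MQ (Nat.card K)) (hx : orderOf x = p) :
    IsCyclic (Subgroup.centralizer {x}) := by
  obtain ⟨ι, μ, h0, h1, h2, h3, -⟩ := exists_iota hn hp hpq hx
  refine H8.FieldCent.isCyclic_of_commute (by norm_num) h1 h2 h3 ι h0 ?_
  intro g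
  rw [← map_mul, ← map_mul]
  congr 1
  exact Subtype.ext (Subgroup.mem_centralizer_singleton_iff.1 g.2)

end H24.ReeTor
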