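/-
H24: the small Ree groups: the tori of order dividing q^2 - q + 1.
-/
import Cfsg.Agent.Lib.H24.ReeTor7
import Cfsg.Agent.Lib.H8.SuzTorus2
set_option autoImplicit false
set_option linter.unusedSimpArgs false
set_option linter.unusedVariables false
set_option linter.unusedSectionVars false
namespace H24.ReeTor

open Cfsg.Lie Matrix H24.ReeBlk H24.ReeAd H24.ReeAl H24.ReeGood H24.ReePts H24.ReeGrp
open H24.ReeAct H24.ReeStr H24.ReeInt H24.ReeUni H24.ReeSub H24.ReeSyl H24.ReeSyl3 H24.ReeCen H24.ReeSyl2 H24.ReeInvo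
open H24.ReeFour
open H8.TICount (cl)
open scoped MatrixGroups Pointwise

variable {K : Type*} [Field K] {e : ℕ} [RF K e] [Finite K]

local notation "iv" => (H24.ReeCen.inv : G1 K e)

/-- exceptional tori -/
def Tor (U : Subgroup (G1 K e)) : Prop :=
  ∃ p : ℕ, p.Prime ∧ p ∣ MQ (Nat.card K) ∧ ∃ x : G1 K e, orderOf x = p ∧ U = Subgroup.centralizer {x}

theorem MQ_dvd : MQ (Nat.card K) ∣ Nat.card (G1 K e) := by
  rw [card_G1']; exact dvd_mul_of_dvd_right (dvd_mul_left _ _) _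

theorem exists_Tor {p : ℕ} (hp : p.Prime) (hpq : p ∣ MQ (Nat.card K)) : ∃ U : Subgroup (G1 K e), Tor U ∧ p ∣ Nat.card U := by
  have hfact : Fact p.Prime := ⟨hp⟩
  obtain ⟨x, hx⟩ := exists_prime_orderOf_dvd_card' (G := G1 K e) p (hpq.trans MQ_dvd)
  refine ⟨Subgroup.centralizer {x}, ⟨p, hp, hpq, x, hx, rfl⟩, ?_⟩
  have h1 := orderOf_dvd_natCard (⟨x, Subgroup.mem_centralizer_singleton_iff.2 rfl⟩ : Subgroup.centralizer {x})
  rwa [Subgroup.orderOf_mk, hx] at h1

theorem Tor.isCyclic {m : ℕ} (hn : Nat.card K = 3 ^ (2 * m + 1)) {U : Subgroup (G1 K e)} (hU : Tor U) : IsCyclic U := by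
  obtain ⟨p, hp, hpq, x, hx, rfl⟩ := hU
  exact isCyclic_cent hn hp hpq hx

theorem comm_of_cyclic {G : Type*} [Group G] {U : Subgroup G} (h : IsCyclic U) {a b : G} (ha : a ∈ U) (hb : b ∈ U) : a * b = b * a := by
  obtain ⟨g, hg⟩ := IsCyclic.exists_generator (α := U)
  obtain ⟨i, hi⟩ := Subgroup.mem_zpowers_iff.1 (hg ⟨a, ha⟩)
  obtain ⟨j, hj⟩ := Subgroup.mem_zpowers_iff.1 (hg ⟨b, hb⟩)
  have h1 : (⟨a, ha⟩ : U) * ⟨b, hb⟩ = ⟨b, hb⟩ * ⟨a, ha⟩ := by
    rw [← hi, ← hj, ← _root_.zpow_add, ← _root_.zpow_add, add_comm]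
  exact congrArg Subtype.val h1

theorem Tor.comm {m : ℕ} (hn : Nat.card K = 3 ^ (2 * m + 1)) {U : Subgroup (G1 K e)} (hU : Tor U) {a b : G1 K e}
    (ha : a ∈ U) (hb : b ∈ U) : a * b = b * a := comm_of_cyclic (hU.isCyclic hn) ha hb

theorem Tor.centralizer {m : ℕ} (hn : Nat.card K = 3 ^ (2 * m + 1)) {U : Subgroup (G1 K e)} (hU : Tor U)
    {u : G1 K e} (hu : u ∈ U) (hu1 : u ≠ 1) : Subgroup.centralizer {u} = U := by
  have hU' := hU
  obtain ⟨p, hp, hpq, x, hx, rfl⟩ := hU'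
  have h1 : orderOf u ≠ 1 := fun h => hu1 (orderOf_eq_one_iff.1 h)
  obtain ⟨r, hr, hd⟩ := Nat.exists_prime_and_dvd h1
  obtain ⟨c, hc⟩ := exists_pow_prime hr hd
  have hux := Subgroup.mem_centralizer_singleton_iff.1 hu
  have hcx : x * u ^ c = u ^ c * x := (Commute.pow_left (show Commute u x from hux) c).eq.symm
  have hrq := prime_of_commute hn hp hpq hx hr hc hcx
  have hV : Tor (Subgroup.centralizer {u ^ c}) := ⟨r, hr, hrq, _, hc, rfl⟩
  apply le_antisymm
  · intro h hh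
    rw [Subgroup.mem_centralizer_singleton_iff] at hh
    have h2 : h ∈ Subgroup.centralizer {u ^ c} :=
      Subgroup.mem_centralizer_singleton_iff.2 (Commute.pow_right (show Commute h u from hh) c).eq
    have h3 : x ∈ Subgroup.centralizer {u ^ c} := Subgroup.mem_centralizer_singleton_iff.2 hcx
    exact Subgroup.mem_centralizer_singleton_iff.2 (hV.comm hn h2 h3)
  · intro h hh
    exact Subgroup.mem_centralizer_singleton_iff.2 (hU.comm hn hh hu)

theorem Tor.dvd_of_prime {m : ℕ} (hn : Nat.card K = 3 ^ (2 * m + 1)) {U : Subgroup (G1 K e)} (hU : Tor U)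
    {r : ℕ} (hr : r.Prime) (h : r ∣ Nat.card U) : r ∣ MQ (Nat.card K) := by
  obtain ⟨p, hp, hpq, x, hx, rfl⟩ := hU
  have hfact : Fact r.Prime := ⟨hr⟩
  obtain ⟨v, hv⟩ := exists_prime_orderOf_dvd_card' (G := Subgroup.centralizer {x}) r h
  rw [← Subgroup.orderOf_coe] at hv
  exact prime_of_commute hn hp hpq hx hr hv (Subgroup.mem_centralizer_singleton_iff.1 v.2).symm

theorem sylow_cyclic_M {m : ℕ} (hn : Nat.card K = 3 ^ (2 * m + 1)) {r : ℕ} [hr : Fact r.Prime] (hrq : r ∣ MQ (Nat.card K))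
    (P : Sylow r (G1 K e)) : IsCyclic P := by
  by_cases htriv : Subsingleton P
  · infer_instance
  rw [not_subsingleton_iff_nontrivial] at htriv
  have h1 := P.isPGroup'.center_nontrivial
  have h2 : r ∣ Nat.card (Subgroup.center P) := by
    obtain ⟨k, hk⟩ := IsPGroup.iff_card.1 (P.isPGroup'.to_subgroup (Subgroup.center P))
    have h3 : 1 < Nat.card (Subgroup.center P) := Finite.one_lt_card
    rw [hk] at h3 ⊢
    apply dvd_pow_self
    rintro rfl
    simp at h3
  obtain ⟨z, hz⟩ := exists_prime_orderOf_dvd_card' (G := Subgroup.center P) r h2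
  have hz' : orderOf ((z : P) : G1 K e) = r := by rw [Subgroup.orderOf_coe, Subgroup.orderOf_coe, hz]
  have hle : (P : Subgroup (G1 K e)) ≤ Subgroup.centralizer {((z : P) : G1 K e)} := by
    intro y hy
    rw [Subgroup.mem_centralizer_singleton_iff]
    exact congrArg Subtype.val (Subgroup.mem_center_iff.1 z.2 ⟨y, hy⟩)
  haveI := isCyclic_cent hn hr.out hrq hz'
  exact isCyclic_of_injective (Subgroup.inclusion hle) (Subgroup.inclusion_injective hle)

theorem Tor.exists_sylow {m : ℕ} (hn : Nat.card K = 3 ^ (2 * m + 1)) {U : Subgroup (G1 K e)} (hU : Tor U)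
    {r : ℕ} [hfr : Fact r.Prime] (h : r ∣ Nat.card U) : ∃ P : Sylow r (G1 K e), (P : Subgroup (G1 K e)) ≤ U := by
  have hrq := hU.dvd_of_prime hn hfr.out h
  obtain ⟨v, hv⟩ := exists_prime_orderOf_dvd_card' (G := U) r h
  rw [← Subgroup.orderOf_coe] at hv
  have hz : IsPGroup r (Subgroup.zpowers (v : G1 K e)) := by
    apply IsPGroup.of_card (n := 1)
    rw [Nat.card_zpowers, hv, pow_one]
  obtain ⟨P, hP⟩ := hz.exists_le_sylow
  refine ⟨P, ?_⟩
  have hcy := sylow_cyclic_M hn hrq P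
  have hv1 : (v : G1 K e) ≠ 1 := by
    intro h1
    rw [h1, orderOf_one] at hv
    exact hfr.out.one_lt.ne hv
  rw [← hU.centralizer hn v.2 hv1]
  intro y hy
  rw [Subgroup.mem_centralizer_singleton_iff]
  exact comm_of_cyclic (U := (P : Subgroup (G1 K e))) hcy hy (hP (Subgroup.mem_zpowers _))

theorem Tor.coprime_index {m : ℕ} (hn : Nat.card K = 3 ^ (2 * m + 1)) {U : Subgroup (G1 K e)} (hU : Tor U) :
    Nat.Coprime (Nat.card U) U.index := by
  apply Nat.coprime_of_dvd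
  intro r hr h1 h2
  have hfact : Fact r.Prime := ⟨hr⟩
  obtain ⟨P, hP⟩ := hU.exists_sylow hn h1
  have h3 : U.index ∣ (P : Subgroup (G1 K e)).index := Subgroup.index_dvd_of_le hP
  exact P.not_dvd_index (h2.trans h3)

theorem Tor.exists_card {m : ℕ} (hn : Nat.card K = 3 ^ (2 * m + 1)) {U : Subgroup (G1 K e)} (hU : Tor U) :
    ∃ w, MQ (Nat.card K) = Nat.card U * w ∧ Nat.Coprime (Nat.card U) w := by
  have hq : 1 < Nat.card K := Finite.one_lt_card
  have hcop : Nat.Coprime (Nat.card U) (Nat.card K ^ 3 * (Nat.card K - 1) * (Nat.card K + 1)) := by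
    apply Nat.coprime_of_dvd
    intro r hr h1 h2
    have hrq := hU.dvd_of_prime hn hr h1
    have h5 := not_dvd_pow hq.le (three_dvd hn) hr hrq 1 le_rfl (by norm_num)
    rw [pow_one] at h5
    rcases (Nat.Prime.dvd_mul hr).1 h2 with h3 | h3
    · rcases (Nat.Prime.dvd_mul hr).1 h3 with h4 | h4
      · exact not_dvd_q hr hrq (hr.dvd_of_dvd_pow h4)
      · exact h5 h4
    · exact not_dvd_add hq.le (three_dvd hn) hr hrq h3
  have hdvd : Nat.card U ∣ MQ (Nat.card K) := by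
    have h1 := Subgroup.card_subgroup_dvd_card U
    rw [card_G1', ← mul_assoc] at h1
    exact hcop.dvd_of_dvd_mul_left h1
  obtain ⟨w, hw⟩ := hdvd
  refine ⟨w, hw, ?_⟩
  have h1 := U.card_mul_index
  rw [card_G1', hw] at h1
  have h2 : Nat.card K ^ 3 * (Nat.card K - 1) * ((Nat.card K + 1) * (Nat.card U * w)) =
      Nat.card U * (Nat.card K ^ 3 * (Nat.card K - 1) * (Nat.card K + 1) * w) := by ring
  rw [h2] at h1
  have h3 := Nat.eq_of_mul_eq_mul_left Nat.card_pos h1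
  have h4 := hU.coprime_index hn
  rw [h3] at h4
  exact Nat.Coprime.coprime_mul_left_right h4

theorem Tor.mem_cl {m : ℕ} (hn : Nat.card K = 3 ^ (2 * m + 1)) {U : Subgroup (G1 K e)} (hU : Tor U)
    {r : ℕ} (hr : r.Prime) (h : r ∣ Nat.card U) {g : G1 K e} (hg : r ∣ orderOf g) : g ∈ cl U := by
  have hfact : Fact r.Prime := ⟨hr⟩
  obtain ⟨c, hc⟩ := exists_pow_prime hr hg
  obtain ⟨y, hy⟩ := conj_of_index U hr (x := g ^ c) (k := 1) (by
    intro h1
    have := hU.coprime_index hn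
    exact hr.one_lt.ne' (Nat.eq_one_of_dvd_coprimes this h h1)) (by rw [hc, pow_one])
  have h1 : y * g ^ c * y⁻¹ ≠ 1 := by
    intro h1
    have h2 := orderOf_conj' y (g ^ c)
    rw [h1, orderOf_one, hc] at h2
    exact hr.one_lt.ne h2
  refine ⟨?_, y, ?_⟩
  · rintro rfl
    rw [one_pow, orderOf_one] at hc
    exact hr.one_lt.ne hc
  · rw [← hU.centralizer hn hy h1, Subgroup.mem_centralizer_singleton_iff]
    have h2 : g * g ^ c = g ^ c * g := (Commute.self_pow g c).eq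
    calc y * g * y⁻¹ * (y * g ^ c * y⁻¹) = y * (g * g ^ c) * y⁻¹ := by group
      _ = y * (g ^ c * g) * y⁻¹ := by rw [h2]
      _ = _ := by group

theorem Tor.conj {m : ℕ} (hn : Nat.card K = 3 ^ (2 * m + 1)) {U V : Subgroup (G1 K e)} (hU : Tor U) (hV : Tor V)
    {v y : G1 K e} (hv : v ∈ V) (hv1 : v ≠ 1) (hy : y * v * y⁻¹ ∈ U) : ∀ g, g ∈ V ↔ y * g * y⁻¹ ∈ U := by
  intro g
  have hc1 := hV.centralizer hn hv hv1
  have hc2 := hU.centralizer hn hy (by
    intro h
    apply hv1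
    have : v = y⁻¹ * (y * v * y⁻¹) * y := by group
    rw [this, h]; group)
  rw [← hc1, ← hc2, centralizer_conj, show y⁻¹ * (y * g * y⁻¹) * y = g by group]

theorem card_eq_of_conj {G : Type*} [Group G] {U V : Subgroup G} {y : G} (h : ∀ g, g ∈ V ↔ y * g * y⁻¹ ∈ U) :
    Nat.card U = Nat.card V := by
  symm
  refine Nat.card_congr ⟨fun g => ⟨y * g * y⁻¹, (h g).1 g.2⟩, fun g => ⟨y⁻¹ * g * y, ?_⟩, ?_, ?_⟩
  · rw [h, show y * (y⁻¹ * (g : G) * y) * y⁻¹ = g by group]; exact g.2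
  · intro g; exact Subtype.ext (by change y⁻¹ * (y * (g : G) * y⁻¹) * y = g; group)
  · intro g; exact Subtype.ext (by change y * (y⁻¹ * (g : G) * y) * y⁻¹ = g; group)

theorem Tor.coprime {m : ℕ} (hn : Nat.card K = 3 ^ (2 * m + 1)) {U V : Subgroup (G1 K e)} (hU : Tor U)
    (hV : Tor V) (hne : Nat.card U ≠ Nat.card V) : Nat.Coprime (Nat.card U) (Nat.card V) := by
  apply Nat.coprime_of_dvd
  intro r hr h1 h2
  apply hne
  have hfact : Fact r.Prime := ⟨hr⟩
  obtain ⟨⟨v, hvV⟩, hv⟩ := exists_prime_orderOf_dvd_card' (G := V) r h2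
  rw [← Subgroup.orderOf_coe] at hv
  replace hv : orderOf v = r := hv
  obtain ⟨hv1, y, hy⟩ := hU.mem_cl hn hr h1 (g := v) (by rw [hv])
  exact card_eq_of_conj (hU.conj hn hV hvV hv1 hy)

theorem psi_conj {x : G1 K e} {U : Subgroup (G1 K e)} (hU : U = Subgroup.centralizer {x}) {g : G1 K e}
    (hg : g ∈ Subgroup.normalizer (U : Set (G1 K e))) : ∀ w ∈ WW x, act K e g w ∈ WW (g * x * g⁻¹) := by
  rintro _ ⟨v, rfl⟩
  refine ⟨act K e g v, ?_⟩
  change ((act K e (g * x * g⁻¹) - 1) * act K e g) v = (act K e g * (act K e x - 1)) v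
  rw [sub_mul, mul_sub, ← map_mul, ← map_mul, inv_mul_cancel_right, one_mul, mul_one]

theorem Tor.relIndex_le {m : ℕ} (hn : Nat.card K = 3 ^ (2 * m + 1)) {U : Subgroup (G1 K e)} (hU : Tor U) :
    U.relIndex (Subgroup.normalizer (U : Set (G1 K e))) ≤ 6 := by
  haveI : Fintype K := Fintype.ofFinite K
  have hU' := hU
  obtain ⟨p, hp, hpq, x, hx, rfl⟩ := hU
  have hxU : x ∈ Subgroup.centralizer {x} := Subgroup.mem_centralizer_singleton_iff.2 rfl
  obtain ⟨U, hUdef⟩ : ∃ U : Subgroup (G1 K e), U = Subgroup.centralizer {x} := ⟨_, rfl⟩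
  have hex : ∃ (ι : U →* Matrix (Fin 6) (Fin 6) K) (μ : Polynomial K), Function.Injective ι ∧ Irreducible μ ∧
      μ.natDegree = 6 ∧ Polynomial.aeval (ι ⟨x, by rw [hUdef]; exact hxU⟩) μ = 0 ∧
      ∃ b : Module.Basis (Fin 6) K (WW x), ∀ g : U, ι g = LinearMap.toMatrixAlgEquiv b (psi x ⟨g, by rw [← hUdef]; exact g.2⟩) := by
    subst hUdef
    exact exists_iota hn hp hpq hx
  rw [← hUdef] at hU' hxU ⊢
  obtain ⟨ι, μ, hιinj, hμ, hdeg, hM, b, hι⟩ := hex
  have hmc : ∀ {g : G1 K e}, g ∈ U → g ∈ Subgroup.centralizer {x} := fun h => by rw [← hUdef]; exact h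
  have hmc' : ∀ {g : G1 K e}, g ∈ Subgroup.centralizer {x} → g ∈ U := fun h => by rw [hUdef]; exact h
  have hx1 : x ≠ 1 := by
    rintro rfl
    rw [orderOf_one] at hx
    exact hp.one_lt.ne hx
  have hcard := H8.FieldCent.ncard_roots_le (by norm_num) hμ hdeg hM ι hιinj (by
    intro g
    rw [← map_mul, ← map_mul]
    congr 1
    exact Subtype.ext (Subgroup.mem_centralizer_singleton_iff.1 (hmc g.2)))
  refine le_trans ?_ hcard
  rw [Subgroup.relIndex, Subgroup.index, ← Nat.card_coe_set_eq]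
  have hmem : ∀ g : Subgroup.normalizer (U : Set (G1 K e)), (g : G1 K e) * x * (g : G1 K e)⁻¹ ∈ U := by
    intro g
    exact (Subgroup.mem_normalizer_iff.1 g.2 x).1 hxU
  -- the conjugates act on the same space
  have hWeq : ∀ g : Subgroup.normalizer (U : Set (G1 K e)), WW ((g : G1 K e) * x * (g : G1 K e)⁻¹) = WW x := by
    intro g
    symm
    have hx' : orderOf ((g : G1 K e) * x * (g : G1 K e)⁻¹) = p := by rw [orderOf_conj', hx]
    apply Submodule.eq_of_le_of_finrank_eq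
    · -- x is a power of the conjugate
      have h1 : x ∈ Subgroup.zpowers ((g : G1 K e) * x * (g : G1 K e)⁻¹) :=
        mem_zpowers_of_cyclic (hU'.isCyclic hn) (hmem g) hxU (by rw [orderOf_conj'])
      obtain ⟨k, hk⟩ := (mem_powers_iff_mem_zpowers).2 h1
      change ((g : G1 K e) * x * (g : G1 K e)⁻¹) ^ k = x at hk
      rintro _ ⟨v, rfl⟩
      refine ⟨(∑ i ∈ Finset.range k, act K e ((g : G1 K e) * x * (g : G1 K e)⁻¹) ^ i) v, ?_⟩
      change ((act K e ((g : G1 K e) * x * (g : G1 K e)⁻¹) - 1) * (∑ i ∈ Finset.range k, act K e ((g : G1 K e) * x * (g : G1 K e)⁻¹) ^ i)) v = _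
      rw [mul_geom_sum, ← map_pow, hk]
    · rw [finrank_WW hn hp hpq hx, finrank_WW hn hp hpq hx']
  have hroot : ∀ g : Subgroup.normalizer (U : Set (G1 K e)), Polynomial.aeval (ι ⟨(g : G1 K e) * x * (g : G1 K e)⁻¹, hmem g⟩) μ = 0 := by
    intro g
    -- the operator of g on WW x
    have hgW : ∀ w ∈ WW x, act K e (g : G1 K e) w ∈ WW x := by
      intro w hw
      have := psi_conj hUdef g.2 w hw
      rwa [hWeq g] at this
    set T : Module.End K (WW x) := (act K e (g : G1 K e)).restrict hgW with hT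
    have hcomm : T * psi x ⟨x, hmc hxU⟩ = psi x ⟨(g : G1 K e) * x * (g : G1 K e)⁻¹, hmc (hmem g)⟩ * T := by
      apply LinearMap.ext
      intro w
      apply Subtype.ext
      change act K e (g : G1 K e) (act K e x (w : Fin 7 → K)) = act K e ((g : G1 K e) * x * (g : G1 K e)⁻¹) (act K e (g : G1 K e) (w : Fin 7 → K))
      change (act K e (g : G1 K e) * act K e x) (w : Fin 7 → K) = (act K e ((g : G1 K e) * x * (g : G1 K e)⁻¹) * act K e (g : G1 K e)) (w : Fin 7 → K)
      rw [← map_mul, ← map_mul, inv_mul_cancel_right]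
    have hTinj : Function.Injective T := by
      intro w w' h
      have h1 := congrArg Subtype.val h
      change act K e (g : G1 K e) (w : Fin 7 → K) = act K e (g : G1 K e) (w' : Fin 7 → K) at h1
      have h2 := congrArg (act K e (g : G1 K e)⁻¹) h1
      change (act K e (g : G1 K e)⁻¹ * act K e (g : G1 K e)) (w : Fin 7 → K) = (act K e (g : G1 K e)⁻¹ * act K e (g : G1 K e)) (w' : Fin 7 → K) at h2
      rw [← map_mul, inv_mul_cancel, map_one] at h2
      exact Subtype.ext h2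
    have h4 := H8.SuzTorus.aeval_semiconj (F := K) (g := LinearMap.toMatrixAlgEquiv b T)
      (M := ι ⟨x, hxU⟩) (M' := ι ⟨(g : G1 K e) * x * (g : G1 K e)⁻¹, hmem g⟩) (by
        rw [hι, hι, ← map_mul, ← map_mul, hcomm]) μ
    rw [hM, mul_zero] at h4
    have hTu : IsUnit T := by
      rw [Module.End.isUnit_iff]
      exact ⟨hTinj, LinearMap.injective_iff_surjective.1 hTinj⟩
    obtain ⟨T', hT'⟩ := hTu.exists_right_inv
    have h5 : LinearMap.toMatrixAlgEquiv b T * LinearMap.toMatrixAlgEquiv b T' = 1 := by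
      rw [← map_mul, hT', map_one]
    calc Polynomial.aeval (ι ⟨(g : G1 K e) * x * (g : G1 K e)⁻¹, hmem g⟩) μ =
          Polynomial.aeval (ι ⟨(g : G1 K e) * x * (g : G1 K e)⁻¹, hmem g⟩) μ * (LinearMap.toMatrixAlgEquiv b T * LinearMap.toMatrixAlgEquiv b T') := by
            rw [h5, mul_one]
      _ = 0 := by rw [← mul_assoc, ← h4, zero_mul]
  let f : (Subgroup.normalizer (U : Set (G1 K e)) ⧸ U.subgroupOf (Subgroup.normalizer (U : Set (G1 K e)))) →
      {g : U | Polynomial.aeval (ι g) μ = 0} := fun c =>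
    ⟨⟨(Quotient.out c : Subgroup.normalizer (U : Set (G1 K e))) * x *
      ((Quotient.out c : Subgroup.normalizer (U : Set (G1 K e))) : G1 K e)⁻¹, hmem _⟩, hroot _⟩
  apply Nat.card_le_card_of_injective f
  intro c d hcd
  have h1 : ((Quotient.out c : Subgroup.normalizer (U : Set (G1 K e))) : G1 K e) * x *
      ((Quotient.out c : Subgroup.normalizer (U : Set (G1 K e))) : G1 K e)⁻¹ =
      ((Quotient.out d : Subgroup.normalizer (U : Set (G1 K e))) : G1 K e) * x *
      ((Quotient.out d : Subgroup.normalizer (U : Set (G1 K e))) : G1 K e)⁻¹ :=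
    congrArg (fun y : {g : U | Polynomial.aeval (ι g) μ = 0} => ((y : U) : G1 K e)) hcd
  rw [← Quotient.out_eq c, ← Quotient.out_eq d]
  apply Quotient.sound
  apply QuotientGroup.leftRel_apply.2
  rw [Subgroup.mem_subgroupOf]
  refine hmc' (Subgroup.mem_centralizer_singleton_iff.2 ?_)
  set g : G1 K e := ((Quotient.out c : Subgroup.normalizer (U : Set (G1 K e))) : G1 K e)
  set h : G1 K e := ((Quotient.out d : Subgroup.normalizer (U : Set (G1 K e))) : G1 K e)
  change g⁻¹ * h * x = x * (g⁻¹ * h)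
  calc g⁻¹ * h * x = g⁻¹ * (h * x * h⁻¹) * h := by group
    _ = g⁻¹ * (g * x * g⁻¹) * h := by rw [h1]
    _ = _ := by group

theorem Tor.card_normalizer {m : ℕ} (hn : Nat.card K = 3 ^ (2 * m + 1)) {U : Subgroup (G1 K e)} (hU : Tor U) :
    ∃ n, 1 ≤ n ∧ n ≤ 6 ∧ Nat.card (Subgroup.normalizer (U : Set (G1 K e))) = n * Nat.card U := by
  have hcm : Nat.card U * U.relIndex (Subgroup.normalizer (U : Set (G1 K e))) = Nat.card (Subgroup.normalizer (U : Set (G1 K e))) := by
    rw [Subgroup.relIndex, ← Subgroup.card_mul_index (U.subgroupOf (Subgroup.normalizer (U : Set (G1 K e)))),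
      Nat.card_congr (Subgroup.subgroupOfEquivOfLe (Subgroup.le_normalizer (H := U))).toEquiv]
  refine ⟨U.relIndex (Subgroup.normalizer (U : Set (G1 K e))), ?_, hU.relIndex_le hn, ?_⟩
  · have h2 : 0 < Nat.card (Subgroup.normalizer (U : Set (G1 K e))) := Nat.card_pos
    rcases Nat.eq_zero_or_pos (U.relIndex (Subgroup.normalizer (U : Set (G1 K e)))) with h3 | h3
    · rw [h3, mul_zero] at hcm
      omega
    · exact h3
  · rw [mul_comm, hcm]

/-- an element conjugating one nontrivial element into the torus normalises it -/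
theorem Tor.mem_norm {m : ℕ} (hn : Nat.card K = 3 ^ (2 * m + 1)) {U : Subgroup (G1 K e)} (hU : Tor U) {u g : G1 K e}
    (hu : u ∈ U) (hu1 : u ≠ 1) (h : g * u * g⁻¹ ∈ U) : g ∈ Subgroup.normalizer (U : Set (G1 K e)) := by
  rw [Subgroup.mem_normalizer_iff]
  exact hU.conj hn hU hu hu1 h

theorem Tor.card_cl {m : ℕ} (hn : Nat.card K = 3 ^ (2 * m + 1)) {U : Subgroup (G1 K e)} (hU : Tor U) :
    (cl U).ncard * Nat.card (Subgroup.normalizer (U : Set (G1 K e))) = Nat.card (G1 K e) * (Nat.card U - 1) :=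
  H8.TICount.card_cl U (fun g x hx hx1 h => hU.mem_norm hn hx hx1 h)

theorem Tor.seven_le {m : ℕ} (hn : Nat.card K = 3 ^ (2 * m + 1)) {U : Subgroup (G1 K e)} (hU : Tor U) : 7 ≤ Nat.card U := by
  obtain ⟨p, hp, hpq, x, hx, rfl⟩ := hU
  have hq : 1 < Nat.card K := Finite.one_lt_card
  have h1 := orderOf_dvd_natCard (⟨x, Subgroup.mem_centralizer_singleton_iff.2 rfl⟩ : Subgroup.centralizer {x})
  rw [Subgroup.orderOf_mk, hx] at h1
  exact (H24.ReeTor.seven_le hq.le (three_dvd hn) hp hpq).trans (Nat.le_of_dvd Nat.card_pos h1)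

end H24.ReeTor
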