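/-
H24: the small Ree groups: counting elements of order divisible by 3.
-/
import Cfsg.Agent.Lib.H24.ReeTor8
set_option autoImplicit false
set_option linter.unusedSimpArgs false
set_option linter.unusedVariables false
set_option linter.unusedSectionVars false
namespace H24.ReeCnt

open Cfsg.Lie Matrix H24.ReeBlk H24.ReeAd H24.ReeAl H24.ReeGood H24.ReePts H24.ReeGrp
open H24.ReeAct H24.ReeStr H24.ReeInt H24.ReeUni H24.ReeSub H24.ReeSyl H24.ReeSyl3 H24.ReeCen H24.ReeSyl2 H24.ReeInvo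
open H24.ReeFour H24.ReeTor
open scoped MatrixGroups Pointwise

/-- counting elements conjugate into a TI-set -/
theorem ti_count {G : Type*} [Group G] [Finite G] (N : Subgroup G) (D : Set G) (h1 : ∀ g ∈ N, ∀ x ∈ D, g * x * g⁻¹ ∈ D)
    (h2 : ∀ g : G, ∀ x ∈ D, g * x * g⁻¹ ∈ D → g ∈ N) :
    {x : G | ∃ g : G, g * x * g⁻¹ ∈ D}.ncard * Nat.card N = Nat.card G * D.ncard := by
  classical
  rw [← Nat.card_coe_set_eq, ← Nat.card_coe_set_eq, ← Nat.card_prod, ← Nat.card_prod]
  apply Nat.card_congr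
  choose g0 hg0 using fun y : {x : G | ∃ g : G, g * x * g⁻¹ ∈ D} => y.2
  refine Equiv.ofBijective (fun z : {x : G | ∃ g : G, g * x * g⁻¹ ∈ D} × N =>
    ((z.2 : G) * g0 z.1, (⟨(z.2 : G) * (g0 z.1 * z.1 * (g0 z.1)⁻¹) * (z.2 : G)⁻¹, h1 _ z.2.2 _ (hg0 z.1)⟩ : D))) ⟨?_, ?_⟩
  · rintro ⟨y, n⟩ ⟨y', n'⟩ h
    have h1 : (n : G) * g0 y = n' * g0 y' := congrArg Prod.fst h
    have h2 : (n : G) * (g0 y * y * (g0 y)⁻¹) * (n : G)⁻¹ = n' * (g0 y' * y' * (g0 y')⁻¹) * (n' : G)⁻¹ :=
      congrArg Subtype.val (congrArg Prod.snd h)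
    have h3 : (y : G) = y' := by
      have e1 : (y : G) = ((n : G) * g0 y)⁻¹ * ((n : G) * (g0 y * y * (g0 y)⁻¹) * (n : G)⁻¹) * ((n : G) * g0 y) := by group
      have e2 : (y' : G) = ((n' : G) * g0 y')⁻¹ * ((n' : G) * (g0 y' * y' * (g0 y')⁻¹) * (n' : G)⁻¹) * ((n' : G) * g0 y') := by group
      rw [e1, e2, h1, h2]
    have h4 : y = y' := Subtype.ext h3
    subst h4
    have h5 := mul_right_cancel h1
    have h6 : n = n' := Subtype.ext h5
    rw [h6]
  · rintro ⟨g, ⟨x, hx⟩⟩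
    have hy : ∃ g' : G, g' * (g⁻¹ * x * g) * g'⁻¹ ∈ D := ⟨g, by
      rw [show g * (g⁻¹ * x * g) * g⁻¹ = x by group]; exact hx⟩
    let y : {x : G | ∃ g : G, g * x * g⁻¹ ∈ D} := ⟨g⁻¹ * x * g, hy⟩
    have hn : g * (g0 y)⁻¹ ∈ N := by
      apply h2 _ (g0 y * y * (g0 y)⁻¹) (hg0 y)
      have : g * (g0 y)⁻¹ * (g0 y * y * (g0 y)⁻¹) * (g * (g0 y)⁻¹)⁻¹ = x := by
        change g * (g0 y)⁻¹ * (g0 y * (g⁻¹ * x * g) * (g0 y)⁻¹) * (g * (g0 y)⁻¹)⁻¹ = x
        group
      rw [this]; exact hx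
    refine ⟨(y, ⟨_, hn⟩), ?_⟩
    apply Prod.ext
    · change g * (g0 y)⁻¹ * g0 y = g
      group
    · apply Subtype.ext
      change g * (g0 y)⁻¹ * (g0 y * (g⁻¹ * x * g) * (g0 y)⁻¹) * (g * (g0 y)⁻¹)⁻¹ = x
      group

variable {K : Type*} [Field K] {e : ℕ} [RF K e] [Finite K]

local notation "iv" => (H24.ReeCen.inv : G1 K e)

/-- elements of order `k`, `3 ∣ k` -/
theorem cnt3 {m : ℕ} (hn : Nat.card K = 3 ^ m) {k : ℕ} (h3 : 3 ∣ k) :
    {g : G1 K e | orderOf g = k}.ncard = (Nat.card K ^ 3 + 1) * {g : G1 K e | g • (none : Pt K) = none ∧ orderOf g = k}.ncard := by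
  have key : ∀ x : G1 K e, orderOf x = k → ∃ p : Pt K, x • p = p ∧ ∀ p' : Pt K, x • p' = p' → p' = p := by
    intro x hx
    obtain ⟨c, hc⟩ := exists_pow_prime Nat.prime_three (by rw [hx]; exact h3 : 3 ∣ orderOf x)
    have hx1 : x ^ c ≠ 1 := by
      intro h; rw [h, orderOf_one] at hc; norm_num at hc
    obtain ⟨p, hp, hu⟩ := fix3 hn (k := 1) (by rw [pow_one]; exact hc) hx1
    refine ⟨p, ?_, ?_⟩
    · apply hu
      rw [← mul_smul, ← pow_succ, pow_succ', mul_smul, hp]
    · intro p' hp'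
      apply hu
      have : ∀ n : ℕ, x ^ n • p' = p' := by
        intro n
        induction n with
        | zero => rw [pow_zero, one_smul]
        | succ n ih => rw [pow_succ, mul_smul, hp', ih]
      exact this c
  have h1 := ti_count (MulAction.stabilizer (G1 K e) (none : Pt K)) {g : G1 K e | g • (none : Pt K) = none ∧ orderOf g = k}
    (by
      rintro g hg x ⟨hx1, hx2⟩
      rw [MulAction.mem_stabilizer_iff] at hg
      refine ⟨?_, by rw [orderOf_conj', hx2]⟩
      have hg' : g⁻¹ • (none : Pt K) = none := by rw [inv_smul_eq_iff, hg]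
      rw [mul_smul, mul_smul, hg', hx1, hg])
    (by
      rintro g x ⟨hx1, hx2⟩ ⟨hx3, hx4⟩
      obtain ⟨p, hp, hu⟩ := key x hx2
      rw [MulAction.mem_stabilizer_iff]
      have h5 : x • (g⁻¹ • (none : Pt K)) = g⁻¹ • (none : Pt K) := by
        rw [mul_smul, mul_smul] at hx3
        rw [eq_inv_smul_iff, hx3]
      have h6 := (hu _ h5).trans (hu _ hx1).symm
      rw [inv_smul_eq_iff] at h6
      exact h6.symm)
  have h2 : {x : G1 K e | ∃ g : G1 K e, g * x * g⁻¹ ∈ {g : G1 K e | g • (none : Pt K) = none ∧ orderOf g = k}} =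
      {g : G1 K e | orderOf g = k} := by
    ext x
    simp only [Set.mem_setOf_eq]
    constructor
    · rintro ⟨g, -, h⟩
      rwa [orderOf_conj'] at h
    · intro h
      obtain ⟨p, hp, -⟩ := key x h
      obtain ⟨g, hg⟩ := trans_pt (K := K) (e := e) p none
      refine ⟨g, ?_, by rw [orderOf_conj', h]⟩
      rw [mul_smul, mul_smul, ← hg, inv_smul_smul, hp]
  rw [h2, card_stab, card_G1] at h1
  have hq : 1 < Nat.card K := Finite.one_lt_card
  have hpos : 0 < Nat.card K ^ 3 * (Nat.card K - 1) := Nat.mul_pos (pow_pos (by omega) 3) (by omega)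
  apply Nat.eq_of_mul_eq_mul_right hpos
  rw [h1]; ring

theorem uG_cube (t u v : K) : (uG t u v : G1 K e) ^ 3 = uG 0 0 (-(t ^ 2 * ph K e t)) := by
  have h3 := three0 (K := K) (e := e)
  rw [pow_succ, pow_two, uG_mul, uG_mul]
  congr 1
  · linear_combination t * h3
  · linear_combination (u - t * ph K e t) * h3
  · linear_combination (v - t * u) * h3

theorem order_u0 {u v : K} (h : (u, v) ≠ ((0 : K), (0 : K))) : orderOf (uG 0 u v : G1 K e) = 3 := by
  haveI : Fact (Nat.Prime 3) := ⟨Nat.prime_three⟩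
  rw [orderOf_eq_prime_iff, uG_cube]
  refine ⟨by simp [uG_zero], fun h2 => h ?_⟩
  rw [← uG_zero] at h2
  obtain ⟨-, h5, h6⟩ := uG_inj h2
  rw [h5, h6]

theorem order_ut {t u v : K} (h : t ≠ 0) : orderOf (uG t u v : G1 K e) = 9 := by
  haveI : Fact (Nat.Prime 3) := ⟨Nat.prime_three⟩
  have h1 : orderOf (uG t u v : G1 K e) = 3 ^ (1 + 1) := by
    apply orderOf_eq_prime_pow
    · rw [pow_one, uG_cube, ← uG_zero]
      intro h2
      have h3 := (uG_inj h2).2.2
      have hp : ph K e t ≠ 0 := by simpa using h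
      apply mul_ne_zero (pow_ne_zero 2 h) hp
      linear_combination -h3
    · rw [show 3 ^ (1 + 1) = 3 * 3 by norm_num, pow_mul, uG_cube, uG_cube]
      simp [uG_zero]
  rw [h1]; norm_num

theorem ui_sq (t u v : K) : (uG t u v * iv : G1 K e) ^ 2 = uG 0 (-(u - t * ph K e t)) (t * (u - t * ph K e t)) := by
  have h3 := three0 (K := K) (e := e)
  have h1 : (iv * uG t u v * iv⁻¹ : G1 K e) = uG (-t) u (-v) := by
    have := hT_conj (K := K) (e := e) (-1) t u v
    rw [show (hT (-1) : G1 K e) = iv from rfl] at this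
    rw [this]
    congr 1 <;> simp <;> norm_num
  have h2 : (uG t u v * iv : G1 K e) ^ 2 = uG t u v * (iv * uG t u v * iv⁻¹) := by
    rw [pow_two, inv_eq_of_mul_eq_one_left (inv_sq (K := K) (e := e))]; group
  rw [h2, h1, uG_mul]
  congr 1
  · ring
  · rw [map_neg]; linear_combination u * h3
  · rw [map_neg]; linear_combination (t ^ 2 * ph K e t) * h3

theorem order_ui {t u v : K} (h : u ≠ t * ph K e t) : orderOf (uG t u v * iv : G1 K e) = 6 := by
  set x := (uG t u v * iv : G1 K e) with hx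
  have h2 : orderOf (x ^ 2) = 3 := by
    rw [hx, ui_sq]
    apply order_u0
    intro h3
    rw [Prod.mk.injEq] at h3
    apply h
    linear_combination -h3.1
  have h6 : x ^ 6 = 1 := by
    rw [show 6 = 2 * 3 by norm_num, pow_mul, ← h2, pow_orderOf_eq_one]
  have hd := orderOf_dvd_of_pow_eq_one h6
  have h3 : ¬ orderOf x ∣ 3 := by
    intro h3
    have h4 := orderOf_dvd_iff_pow_eq_one.1 h3
    have h5 : x ∈ MulAction.stabilizer (G1 K e) (none : Pt K) := by
      rw [MulAction.mem_stabilizer_iff, hx, mul_smul, inv_none, (uG_none t u v).1]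
    have h7 : (⟨x, h5⟩ : MulAction.stabilizer (G1 K e) (none : Pt K)) ^ 3 = 1 := Subtype.ext h4
    have h8 := congrArg (chi K (e := e)) h7
    rw [map_pow, map_one] at h8
    have h9 : ((chi K (e := e) ⟨x, h5⟩ : Kˣ) : K) = -1 := by
      change ml x none = -1
      rw [hx, ml_mul, inv_none, (uG_none t u v).2, one_mul]
      have := (hT_fix (K := K) (e := e) (-1)).2.2
      rw [Units.val_neg, Units.val_one] at this
      exact this
    have h10 := congrArg Units.val h8
    rw [Units.val_pow_eq_pow_val, h9, Units.val_one] at h10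
    exact two_ne (K := K) (e := e) (by linear_combination -h10)
  have h4 : ¬ orderOf x ∣ 2 := by
    intro h4
    rw [orderOf_dvd_iff_pow_eq_one.1 h4, orderOf_one] at h2
    norm_num at h2
  have hle := Nat.le_of_dvd (by norm_num) hd
  interval_cases hh : orderOf x <;> omega

theorem ui_sq_one {t v : K} : (uG t (t * ph K e t) v * iv : G1 K e) ^ 2 = 1 := by
  rw [ui_sq, sub_self, neg_zero, mul_zero, uG_zero]

/-- elements of order divisible by three fixing the point at infinity -/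
theorem stab3 {m : ℕ} (hn : Nat.card K = 3 ^ (2 * m + 1)) {x : G1 K e} (hx : x • (none : Pt K) = none) (h3 : 3 ∣ orderOf x) :
    (∃ u v : K, (u, v) ≠ ((0 : K), (0 : K)) ∧ x = uG 0 u v) ∨ (∃ t u v : K, t ≠ 0 ∧ x = uG t u v) ∨
      (∃ t u v : K, u ≠ t * ph K e t ∧ x = uG t u v * iv) := by
  have hq : 1 < Nat.card K := Finite.one_lt_card
  obtain ⟨t, u, v, l, rfl⟩ := exists_uh hx
  have hs : (uG t u v * hT l : G1 K e) ∈ MulAction.stabilizer (G1 K e) (none : Pt K) := hx
  have hchi : chi K (e := e) ⟨_, hs⟩ = l := by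
    apply Units.ext
    change ml (uG t u v * hT l : G1 K e) none = l
    rw [ml_mul, (hT_fix l).1, (hT_fix l).2.2, (uG_none t u v).2, one_mul]
  have hl : l * l = 1 := by
    by_contra hll
    -- an odd prime divisor of the order of l
    have hex : ∃ r : ℕ, r.Prime ∧ r ≠ 2 ∧ r ∣ orderOf l := by
      by_contra hcon
      push Not at hcon
      have h1 : ∃ k, orderOf l = 2 ^ k := by
        refine ⟨_, Nat.eq_prime_pow_of_unique_prime_dvd (orderOf_pos l).ne' ?_⟩
        intro d hd hdu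
        by_contra h2
        exact hcon d hd h2 hdu
      obtain ⟨k, hk⟩ := h1
      have h2 := orderOf_dvd_natCard l
      rw [Nat.card_units, hk] at h2
      obtain ⟨j, hj1, hj2⟩ := exists_s hn
      have h4 : k ≤ 1 := by
        by_contra h5
        have h6 : 2 ^ 2 ∣ 2 ^ k := pow_dvd_pow 2 (by omega)
        have h7 := h6.trans h2
        rw [hj2] at h7
        omega
      apply hll
      have h5 : l ^ 2 = 1 := by
        apply orderOf_dvd_iff_pow_eq_one.1
        rw [hk]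
        exact pow_dvd_pow 2 h4
      rw [← pow_two, h5]
    obtain ⟨r, hr, hr2, hrl⟩ := hex
    have h4 : orderOf l ∣ orderOf (uG t u v * hT l : G1 K e) := by
      have h5 := orderOf_map_dvd (chi K (e := e)) ⟨_, hs⟩
      rwa [hchi, Subgroup.orderOf_mk] at h5
    obtain ⟨c, hc⟩ := exists_pow_prime hr (hrl.trans h4)
    have hrq : r ∣ Nat.card K - 1 := by
      rw [← Nat.card_units]; exact hrl.trans (orderOf_dvd_natCard l)
    obtain ⟨-, g, hg⟩ := cent_h hn hr hr2 hrq hc
    have h5 := hg (uG t u v * hT l) (Commute.self_pow (uG t u v * hT l) c).eq.symm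
    have h6 := orderOf_dvd_natCard (⟨_, h5⟩ : T1 K e)
    rw [Subgroup.orderOf_mk, orderOf_conj', card_T1] at h6
    have h7 := h3.trans h6
    have h8 := three_dvd hn
    omega
  have hl2 : l = 1 ∨ l = -1 := by
    have h2 := congrArg Units.val hl
    rw [Units.val_mul, Units.val_one] at h2
    rcases mul_self_eq_one_iff.1 h2 with h | h
    · left; exact Units.ext h
    · right; exact Units.ext (by rw [h]; simp)
  rcases hl2 with rfl | rfl
  · rw [hT_one, mul_one] at h3 ⊢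
    by_cases ht : t = 0
    · left
      subst ht
      refine ⟨u, v, ?_, rfl⟩
      intro h
      rw [Prod.mk.injEq] at h
      rw [h.1, h.2, uG_zero, orderOf_one] at h3
      norm_num at h3
    · exact Or.inr (Or.inl ⟨t, u, v, ht, rfl⟩)
  · right; right
    refine ⟨t, u, v, ?_, rfl⟩
    intro h
    have h4 : orderOf (uG t u v * hT (-1) : G1 K e) ∣ 2 := by
      apply orderOf_dvd_of_pow_eq_one
      rw [h]; exact ui_sq_one
    have := Nat.le_of_dvd (by norm_num) (h3.trans h4)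
    omega

theorem order3_cases {m : ℕ} (hn : Nat.card K = 3 ^ (2 * m + 1)) {x : G1 K e} (h3 : 3 ∣ orderOf x) :
    orderOf x = 3 ∨ orderOf x = 6 ∨ orderOf x = 9 := by
  obtain ⟨c, hc⟩ := exists_pow_prime Nat.prime_three h3
  have hx1 : x ^ c ≠ 1 := by
    intro h; rw [h, orderOf_one] at hc; norm_num at hc
  obtain ⟨p, hp, hu⟩ := fix3 hn (k := 1) (by rw [pow_one]; exact hc) hx1
  have hxp : x • p = p := by
    apply hu
    rw [← mul_smul, ← pow_succ, pow_succ', mul_smul, hp]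
  obtain ⟨g, hg⟩ := trans_pt (K := K) (e := e) p none
  have h4 : (g * x * g⁻¹) • (none : Pt K) = none := by
    rw [mul_smul, mul_smul, ← hg, inv_smul_smul, hxp]
  have h5 := stab3 hn h4 (by rw [orderOf_conj']; exact h3)
  rw [← orderOf_conj' g x]
  rcases h5 with ⟨u, v, h, h6⟩ | ⟨t, u, v, h, h6⟩ | ⟨t, u, v, h, h6⟩
  · left; rw [h6]; exact order_u0 h
  · right; right; rw [h6]; exact order_ut h
  · right; left; rw [h6]; exact order_ui h

/-- cardinalities in the stabiliser -/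
theorem D3 {m : ℕ} (hn : Nat.card K = 3 ^ (2 * m + 1)) :
    {g : G1 K e | g • (none : Pt K) = none ∧ orderOf g = 3}.ncard = Nat.card K ^ 2 - 1 := by
  have h1 : {g : G1 K e | g • (none : Pt K) = none ∧ orderOf g = 3} =
      (fun p : K × K => (uG 0 p.1 p.2 : G1 K e)) '' {p | p ≠ (0, 0)} := by
    ext x
    simp only [Set.mem_setOf_eq, Set.mem_image]
    constructor
    · rintro ⟨h1, h2⟩
      rcases stab3 hn h1 (by rw [h2]) with ⟨u, v, h, h6⟩ | ⟨t, u, v, h, h6⟩ | ⟨t, u, v, h, h6⟩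
      · exact ⟨(u, v), h, h6.symm⟩
      · rw [h6, order_ut h] at h2; norm_num at h2
      · rw [h6, order_ui h] at h2; norm_num at h2
    · rintro ⟨p, hp, rfl⟩
      exact ⟨(uG_none _ _ _).1, order_u0 hp⟩
  have hinj : Function.Injective (fun p : K × K => (uG 0 p.1 p.2 : G1 K e)) := by
    rintro ⟨u, v⟩ ⟨u', v'⟩ h
    obtain ⟨-, h2, h3⟩ := uG_inj h
    exact Prod.ext h2 h3
  rw [h1, Set.ncard_image_of_injective _ hinj]
  have h2 : {p : K × K | p ≠ (0, 0)} = {((0 : K), (0 : K))}ᶜ := rfl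
  rw [h2, Set.ncard_compl, Set.ncard_singleton, Nat.card_prod, pow_two]

theorem ncard_ne_zero (K : Type*) [Field K] [Finite K] : {t : K | t ≠ 0}.ncard = Nat.card K - 1 := by
  have h2 : {t : K | t ≠ 0} = {(0 : K)}ᶜ := rfl
  rw [h2, Set.ncard_compl, Set.ncard_singleton]

theorem D9 {m : ℕ} (hn : Nat.card K = 3 ^ (2 * m + 1)) :
    {g : G1 K e | g • (none : Pt K) = none ∧ orderOf g = 9}.ncard = Nat.card K ^ 2 * (Nat.card K - 1) := by
  have h1 : {g : G1 K e | g • (none : Pt K) = none ∧ orderOf g = 9} =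
      (fun p : K × (K × K) => (uG p.1 p.2.1 p.2.2 : G1 K e)) '' ({t | t ≠ 0} ×ˢ Set.univ) := by
    ext x
    simp only [Set.mem_setOf_eq, Set.mem_image, Set.mem_prod, Set.mem_univ, and_true]
    constructor
    · rintro ⟨h1, h2⟩
      rcases stab3 hn h1 (by rw [h2]; norm_num) with ⟨u, v, h, h6⟩ | ⟨t, u, v, h, h6⟩ | ⟨t, u, v, h, h6⟩
      · rw [h6, order_u0 h] at h2; norm_num at h2
      · exact ⟨(t, u, v), h, h6.symm⟩
      · rw [h6, order_ui h] at h2; norm_num at h2
    · rintro ⟨p, hp, rfl⟩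
      exact ⟨(uG_none _ _ _).1, order_ut hp⟩
  have hinj : Function.Injective (fun p : K × (K × K) => (uG p.1 p.2.1 p.2.2 : G1 K e)) := by
    rintro ⟨t, u, v⟩ ⟨t', u', v'⟩ h
    obtain ⟨h1, h2, h3⟩ := uG_inj h
    exact Prod.ext h1 (Prod.ext h2 h3)
  rw [h1, Set.ncard_image_of_injective _ hinj, Set.ncard_prod, ncard_ne_zero, Set.ncard_univ, Nat.card_prod]
  ring

theorem D6 {m : ℕ} (hn : Nat.card K = 3 ^ (2 * m + 1)) :
    {g : G1 K e | g • (none : Pt K) = none ∧ orderOf g = 6}.ncard = Nat.card K ^ 2 * (Nat.card K - 1) := by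
  have h1 : {g : G1 K e | g • (none : Pt K) = none ∧ orderOf g = 6} =
      (fun p : K × (K × K) => (uG p.2.1 (p.1 + p.2.1 * ph K e p.2.1) p.2.2 * iv : G1 K e)) '' ({t | t ≠ 0} ×ˢ Set.univ) := by
    ext x
    simp only [Set.mem_setOf_eq, Set.mem_image, Set.mem_prod, Set.mem_univ, and_true]
    constructor
    · rintro ⟨h1, h2⟩
      rcases stab3 hn h1 (by rw [h2]; norm_num) with ⟨u, v, h, h6⟩ | ⟨t, u, v, h, h6⟩ | ⟨t, u, v, h, h6⟩
      · rw [h6, order_u0 h] at h2; norm_num at h2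
      · rw [h6, order_ut h] at h2; norm_num at h2
      · refine ⟨(u - t * ph K e t, t, v), sub_ne_zero.2 h, ?_⟩
        rw [h6]
        simp
    · rintro ⟨p, hp, rfl⟩
      refine ⟨?_, order_ui ?_⟩
      · rw [mul_smul, inv_none, (uG_none _ _ _).1]
      · intro h
        apply hp
        linear_combination h
  have hinj : Function.Injective (fun p : K × (K × K) => (uG p.2.1 (p.1 + p.2.1 * ph K e p.2.1) p.2.2 * iv : G1 K e)) := by
    rintro ⟨w, t, v⟩ ⟨w', t', v'⟩ h
    obtain ⟨h1, h2, h3⟩ := uG_inj (mul_right_cancel h)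
    simp only at h1 h2 h3
    subst h1
    exact Prod.ext (add_right_cancel h2) (Prod.ext rfl h3)
  rw [h1, Set.ncard_image_of_injective _ hinj, Set.ncard_prod, ncard_ne_zero, Set.ncard_univ, Nat.card_prod]
  ring

end H24.ReeCnt
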