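/-
H24: the small Ree groups: counting elements of the tori of order q - 1 and q + 1.
-/
import Cfsg.Agent.Lib.H24.ReeCnt1
set_option autoImplicit false
set_option linter.unusedSimpArgs false
set_option linter.unusedVariables false
set_option linter.unusedSectionVars false
namespace H24.ReeCnt

open Cfsg.Lie Matrix H24.ReeBlk H24.ReeAd H24.ReeAl H24.ReeGood H24.ReePts H24.ReeGrp
open H24.ReeAct H24.ReeStr H24.ReeInt H24.ReeUni H24.ReeSub H24.ReeSyl H24.ReeSyl3 H24.ReeCen H24.ReeSyl2 H24.ReeInvo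
open H24.ReeFour H24.ReeTor
open scoped MatrixGroups Pointwise

theorem two_of_sq {G : Type*} [Group G] {x : G} (h : x * x ≠ 1) : ¬ orderOf x ∣ 2 := by
  intro h1
  apply h
  rw [← pow_two]
  exact orderOf_dvd_iff_pow_eq_one.1 h1

theorem sq_of_two {G : Type*} [Group G] {x : G} (h : ¬ orderOf x ∣ 2) : x * x ≠ 1 := by
  intro h1
  apply h
  exact orderOf_dvd_of_pow_eq_one (by rw [pow_two, h1])

variable {K : Type*} [Field K] {e : ℕ} [RF K e] [Finite K]

local notation "iv" => (H24.ReeCen.inv : G1 K e)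

/-- number of involutions -/
theorem cnt2 {m : ℕ} (hn : Nat.card K = 3 ^ (2 * m + 1)) :
    {g : G1 K e | orderOf g = 2}.ncard = Nat.card K ^ 2 * MQ (Nat.card K) := by
  have h1 := orb_card (⊤ : Subgroup (G1 K e)) iv
  have h2 : {x : G1 K e | ∃ n ∈ (⊤ : Subgroup (G1 K e)), n * iv * n⁻¹ = x} = {g : G1 K e | orderOf g = 2} := by
    have hiv : orderOf iv = 2 := by
      haveI : Fact (Nat.Prime 2) := ⟨Nat.prime_two⟩
      exact orderOf_eq_prime (by rw [pow_two]; exact inv_sq) inv_ne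
    ext x
    simp only [Set.mem_setOf_eq, Subgroup.mem_top, true_and]
    constructor
    · rintro ⟨n, rfl⟩
      rw [orderOf_conj', hiv]
    · intro h
      have hx1 : x ≠ 1 := by rintro rfl; rw [orderOf_one] at h; norm_num at h
      obtain ⟨g, hg⟩ := invo_conj hn (t := x) (by rw [← pow_two, ← h, pow_orderOf_eq_one]) hx1
      exact ⟨g⁻¹, by rw [← hg]; group⟩
  have h3 : (⊤ : Subgroup (G1 K e)) ⊓ Subgroup.centralizer {iv} = Subgroup.centralizer {iv} := top_inf_eq _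
  rw [h2, h3, Subgroup.card_top, ← Subgroup.card_mul_index (Subgroup.centralizer {iv}), index_cent_inv, mul_comm] at h1
  have hpos : 0 < Nat.card (Subgroup.centralizer {iv}) := Nat.card_pos
  have := Nat.eq_of_mul_eq_mul_right hpos h1
  rw [← this]; rfl

/-- elements whose order divides `q - 1` but not `2` -/
theorem conj_T1' {m : ℕ} (hn : Nat.card K = 3 ^ (2 * m + 1)) {x : G1 K e} (h1 : orderOf x ∣ Nat.card K - 1) (h2 : ¬ orderOf x ∣ 2) :
    ∃ g : G1 K e, g * x * g⁻¹ ∈ T1 K e := by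
  obtain ⟨r, hr, hr2, hrx⟩ := exists_odd_prime hn (sq_of_two h2)
  obtain ⟨c, hc⟩ := exists_pow_prime hr hrx
  obtain ⟨-, g, hg⟩ := cent_h hn hr hr2 (hrx.trans h1) hc
  exact ⟨g, hg x (Commute.self_pow x c).eq.symm⟩

theorem cl_T1 {m : ℕ} (hn : Nat.card K = 3 ^ (2 * m + 1)) (P : ℕ → Prop) (hP : ∀ k, P k → k ∣ Nat.card K - 1 ∧ ¬ k ∣ 2) :
    {x : G1 K e | P (orderOf x)}.ncard * (2 * (Nat.card K - 1)) =
      Nat.card (G1 K e) * {x : G1 K e | x ∈ T1 K e ∧ P (orderOf x)}.ncard := by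
  have h1 := ti_count (NT K e) {x : G1 K e | x ∈ T1 K e ∧ P (orderOf x)} (by
      rintro g hg x ⟨hx1, hx2⟩
      refine ⟨?_, by rw [orderOf_conj']; exact hx2⟩
      have h2 := norm_T1 (A := T1 K e) le_rfl hx1 (sq_of_two (hP _ hx2).2)
      rw [← h2] at hg
      exact (Subgroup.mem_normalizer_iff.1 hg x).1 hx1) (by
      rintro g x ⟨hx1, hx2⟩ ⟨hx3, hx4⟩
      exact perm_of_conj hx1 hx3 (sq_of_two (hP _ hx2).2))
  rw [card_NT] at h1
  rw [← h1]
  congr 2
  ext x
  simp only [Set.mem_setOf_eq]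
  constructor
  · intro h
    obtain ⟨g, hg⟩ := conj_T1' hn (hP _ h).1 (hP _ h).2
    exact ⟨g, hg, by rw [orderOf_conj']; exact h⟩
  · rintro ⟨g, -, h⟩
    rwa [orderOf_conj'] at h

theorem ncard_cyclic {G : Type*} [Group G] [Finite G] {C : Subgroup G} (hC : IsCyclic C) {d : ℕ} (hd : d ∣ Nat.card C) :
    {x : G | x ∈ C ∧ orderOf x = d}.ncard = Nat.totient d := by
  classical
  haveI : Fintype C := Fintype.ofFinite C
  have h1 := IsCyclic.card_orderOf_eq_totient (α := C) (d := d) (by rwa [← Nat.card_eq_fintype_card])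
  rw [← h1]
  have h2 : {x : G | x ∈ C ∧ orderOf x = d} = Subtype.val '' {x : C | orderOf x = d} := by
    ext x
    simp only [Set.mem_setOf_eq, Set.mem_image]
    constructor
    · rintro ⟨hx, h⟩
      exact ⟨⟨x, hx⟩, by rw [Subgroup.orderOf_mk]; exact h, rfl⟩
    · rintro ⟨y, hy, rfl⟩
      exact ⟨y.2, by rw [Subgroup.orderOf_coe]; exact hy⟩
  rw [h2, Set.ncard_image_of_injective _ Subtype.val_injective, Set.ncard_eq_toFinset_card']
  congr 1
  ext x
  simp

/-- number of elements of order `i`, `2 < i ∣ q - 1` -/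
theorem cnt_h {m : ℕ} (hn : Nat.card K = 3 ^ (2 * m + 1)) {i : ℕ} (hi : 2 < i) (hd : i ∣ Nat.card K - 1) :
    2 * {x : G1 K e | orderOf x = i}.ncard = Nat.totient i * Nat.card K ^ 3 * (Nat.card K ^ 3 + 1) := by
  have hq : 1 < Nat.card K := Finite.one_lt_card
  have h1 := cl_T1 (K := K) (e := e) hn (fun k => k = i) (by
    rintro k rfl
    exact ⟨hd, fun h => by have := Nat.le_of_dvd (by norm_num) h; omega⟩)
  rw [ncard_cyclic cyclic_T1 (by rw [card_T1]; exact hd), card_G1] at h1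
  have hpos : 0 < Nat.card K - 1 := by omega
  apply Nat.eq_of_mul_eq_mul_right hpos
  calc 2 * {x : G1 K e | orderOf x = i}.ncard * (Nat.card K - 1) = {x : G1 K e | orderOf x = i}.ncard * (2 * (Nat.card K - 1)) := by ring
    _ = _ := h1
    _ = _ := by ring

/-- all elements of order dividing `q - 1` but not `2` -/
theorem cnt_h_all {m : ℕ} (hn : Nat.card K = 3 ^ (2 * m + 1)) :
    2 * {x : G1 K e | orderOf x ∣ Nat.card K - 1 ∧ ¬ orderOf x ∣ 2}.ncard = Nat.card K ^ 3 * (Nat.card K ^ 3 + 1) * (Nat.card K - 3) := by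
  have hq : 1 < Nat.card K := Finite.one_lt_card
  have h1 := cl_T1 (K := K) (e := e) hn (fun k => k ∣ Nat.card K - 1 ∧ ¬ k ∣ 2) (fun k hk => hk)
  have h2 : {x : G1 K e | x ∈ T1 K e ∧ (orderOf x ∣ Nat.card K - 1 ∧ ¬ orderOf x ∣ 2)} = (T1 K e : Set (G1 K e)) \ {1, iv} := by
    ext x
    simp only [Set.mem_setOf_eq, Set.mem_diff, SetLike.mem_coe, Set.mem_insert_iff, Set.mem_singleton_iff, not_or]
    constructor
    · rintro ⟨h, -, h'⟩
      refine ⟨h, ?_, ?_⟩
      · rintro rfl; exact h' (by rw [orderOf_one]; exact one_dvd _)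
      · rintro rfl; exact h' (orderOf_dvd_of_pow_eq_one (by rw [pow_two]; exact inv_sq))
    · rintro ⟨h, h', h''⟩
      refine ⟨h, ?_, ?_⟩
      · rw [← card_T1 (K := K) (e := e)]
        have := orderOf_dvd_natCard (⟨x, h⟩ : T1 K e)
        rwa [Subgroup.orderOf_mk] at this
      · apply two_of_sq
        obtain ⟨l, rfl⟩ := h
        intro h3
        change (hT l : G1 K e) * hT l = 1 at h3
        rw [← hT_mul, ← hT_one (K := K) (e := e)] at h3
        have h4 := congrArg Units.val (hT_inj h3)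
        rw [Units.val_mul, Units.val_one] at h4
        rcases mul_self_eq_one_iff.1 h4 with h5 | h5
        · apply h'
          change (hT l : G1 K e) = 1
          rw [show l = 1 from Units.ext h5, hT_one]
        · apply h''
          change (hT l : G1 K e) = iv
          rw [show l = -1 from Units.ext (by rw [h5]; simp)]; rfl
  have h3 : ({1, iv} : Set (G1 K e)) ⊆ (T1 K e : Set (G1 K e)) := by
    rintro x (rfl | rfl)
    · exact one_mem _
    · exact mem_T1.2 ⟨inv_none, fix_inv 0⟩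
  rw [h2, Set.ncard_diff h3, Set.ncard_pair (Ne.symm inv_ne)] at h1
  have h4 : (T1 K e : Set (G1 K e)).ncard = Nat.card K - 1 := by
    change Nat.card (T1 K e) = _
    exact card_T1
  rw [h4, card_G1] at h1
  have hpos : 0 < Nat.card K - 1 := by omega
  apply Nat.eq_of_mul_eq_mul_right hpos
  calc 2 * {x : G1 K e | orderOf x ∣ Nat.card K - 1 ∧ ¬ orderOf x ∣ 2}.ncard * (Nat.card K - 1) =
      {x : G1 K e | orderOf x ∣ Nat.card K - 1 ∧ ¬ orderOf x ∣ 2}.ncard * (2 * (Nat.card K - 1)) := by ring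
    _ = _ := h1
    _ = _ := by
      have : Nat.card K - 1 - 2 = Nat.card K - 3 := by omega
      rw [this]; ring

variable {c b : SL(2, K)}

/-- index of the odd torus of order `(q+1)/4` -/
theorem index_AA {m : ℕ} (hn : Nat.card K = 3 ^ (2 * m + 1)) (h : NS K c b) {r : ℕ} (hr : r.Prime) (hr2 : r ≠ 2)
    (hd : r ∣ Nat.card K + 1) : ¬ r ∣ (AA K e c).index := by
  obtain ⟨k, hk, hk2⟩ := exists_s hn
  have hq : 1 < Nat.card K := Finite.one_lt_card
  have h1 := Subgroup.card_mul_index (AA K e c)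
  rw [h.card_AA hk, card_G1', hk] at h1
  have h2 : (AA K e c).index = Nat.card K ^ 3 * (Nat.card K - 1) * (4 * MQ (Nat.card K)) := by
    apply Nat.eq_of_mul_eq_mul_left (show 0 < 2 * k + 1 by omega)
    rw [h1]; ring
  rw [h2]
  intro h5
  rcases (Nat.Prime.dvd_mul hr).1 h5 with h6 | h6
  · rcases (Nat.Prime.dvd_mul hr).1 h6 with h7 | h7
    · have h8 := hr.dvd_of_dvd_pow h7
      exact hr.one_lt.ne' (Nat.dvd_one.1 ((Nat.dvd_add_right h8).1 hd))
    · have h8 : r ∣ (Nat.card K + 1) - (Nat.card K - 1) := Nat.dvd_sub hd h7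
      rw [show Nat.card K + 1 - (Nat.card K - 1) = 2 by omega] at h8
      exact hr2 ((Nat.prime_dvd_prime_iff_eq hr Nat.prime_two).1 h8)
  · rcases (Nat.Prime.dvd_mul hr).1 h6 with h7 | h7
    · rw [show 4 = 2 ^ 2 by norm_num] at h7
      exact hr2 ((Nat.prime_dvd_prime_iff_eq hr Nat.prime_two).1 (hr.dvd_of_dvd_pow h7))
    · exact not_dvd_add hq.le (three_dvd hn) hr h7 hd

theorem conj_DD {m : ℕ} (hm : 1 ≤ m) (hn : Nat.card K = 3 ^ (2 * m + 1)) (h : NS K c b) {x : G1 K e} {r : ℕ} (hr : r.Prime) (hr2 : r ≠ 2)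
    (hd : r ∣ Nat.card K + 1) (hrx : r ∣ orderOf x) : ∃ g : G1 K e, g * x * g⁻¹ ∈ DD K e c := by
  obtain ⟨j, hj⟩ := exists_pow_prime hr hrx
  obtain ⟨g, hg⟩ := conj_of_index (AA K e c) hr (index_AA hn h hr hr2 hd) (x := x ^ j) (k := 1) (by rw [hj, pow_one])
  refine ⟨g, ?_⟩
  have hne : g * x ^ j * g⁻¹ ≠ 1 := by
    intro h1
    have h2 := orderOf_conj' g (x ^ j)
    rw [h1, orderOf_one, hj] at h2
    exact hr.one_lt.ne h2
  rw [← h.cent_AA hm hn hg hne, centralizer_conj, show g⁻¹ * (g * x * g⁻¹) * g = x by group,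
    Subgroup.mem_centralizer_singleton_iff]
  exact (Commute.self_pow x j).eq

theorem cl_DD {m : ℕ} (hm : 1 ≤ m) (hn : Nat.card K = 3 ^ (2 * m + 1)) (h : NS K c b) (P : ℕ → Prop)
    (hP : ∀ k, P k → k ∣ Nat.card K + 1 ∧ ¬ k ∣ 2) :
    {x : G1 K e | P (orderOf x)}.ncard * (6 * (Nat.card K + 1)) =
      Nat.card (G1 K e) * {x : G1 K e | x ∈ DD K e c ∧ P (orderOf x)}.ncard := by
  have hnorm : ∀ g ∈ Subgroup.normalizer (AA K e c : Set (G1 K e)), ∀ x ∈ DD K e c, g * x * g⁻¹ ∈ DD K e c := by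
    intro g hg x hx
    have halA : al K e c ∈ AA K e c := Subgroup.mem_zpowers _
    have hal1 : al K e c ≠ 1 := by
      intro h1
      obtain ⟨k, hk, hk2⟩ := exists_s hn
      have h2 := h.order_al (e := e) hk
      rw [h1, orderOf_one] at h2
      have h6 : 3 ^ 3 ≤ Nat.card K := by rw [hn]; exact Nat.pow_le_pow_right (by norm_num) (by omega)
      omega
    exact h.conj_DD hm hn halA hal1 ((Subgroup.mem_normalizer_iff.1 hg _).1 halA) hx
  have h1 := ti_count (Subgroup.normalizer (AA K e c : Set (G1 K e))) {x : G1 K e | x ∈ DD K e c ∧ P (orderOf x)} (by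
      rintro g hg x ⟨hx1, hx2⟩
      exact ⟨hnorm g hg x hx1, by rw [orderOf_conj']; exact hx2⟩) (by
      rintro g x ⟨hx1, hx2⟩ ⟨hx3, hx4⟩
      -- take a power of odd prime order
      obtain ⟨r, hr, hr2, hrx⟩ := exists_odd_prime hn (sq_of_two (hP _ hx2).2)
      obtain ⟨j, hj⟩ := exists_pow_prime hr hrx
      have hodd : Odd (orderOf (x ^ j)) := by rw [hj]; exact hr.odd_of_ne_two hr2
      have hxj : x ^ j ∈ AA K e c := h.mem_AA hm hn (Subgroup.pow_mem _ hx1 j) hodd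
      have hxj1 : x ^ j ≠ 1 := by
        intro h2; rw [h2, orderOf_one] at hj; exact hr.one_lt.ne hj
      apply h.mem_norm hm hn hxj hxj1
      apply h.mem_AA hm hn
      · rw [← conj_pow]; exact Subgroup.pow_mem _ hx3 j
      · rw [orderOf_conj']; exact hodd)
  rw [h.card_norm hm hn] at h1
  rw [← h1]
  congr 2
  ext x
  simp only [Set.mem_setOf_eq]
  constructor
  · intro hx
    obtain ⟨r, hr, hr2, hrx⟩ := exists_odd_prime hn (sq_of_two (hP _ hx).2)
    obtain ⟨g, hg⟩ := conj_DD hm hn h hr hr2 (hrx.trans (hP _ hx).1) hrx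
    exact ⟨g, hg, by rw [orderOf_conj']; exact hx⟩
  · rintro ⟨g, -, h⟩
    rwa [orderOf_conj'] at h

/-- orders of elements of the torus divide `(q+1)/2` -/
theorem order_DD {m : ℕ} (hm : 1 ≤ m) (hn : Nat.card K = 3 ^ (2 * m + 1)) (h : NS K c b) {s : ℕ} (hs : Nat.card K + 1 = 4 * s)
    {x : G1 K e} (hx : x ∈ DD K e c) : orderOf x ∣ 2 * s := by
  apply orderOf_dvd_of_pow_eq_one
  have h1 : (rho c : G1 K e) ^ (2 * s) = 1 := by rw [h.pow_one_iff, hs]; exact ⟨1, by ring⟩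
  obtain ⟨k, hk | hk⟩ := h.mem_DD hm hn hx
  · rw [hk, ← pow_mul, mul_comm k, pow_mul, h1, one_pow]
  · have h0 : Commute iv ((rho c : G1 K e) ^ k) := Commute.pow_right (show Commute iv (rho c : G1 K e) from rho_comm c) k
    rw [hk, h0.mul_pow, pow_mul iv, pow_two iv, inv_sq, one_pow, one_mul, ← pow_mul, mul_comm k, pow_mul, h1, one_pow]

theorem cnt_s_all {m : ℕ} (hm : 1 ≤ m) (hn : Nat.card K = 3 ^ (2 * m + 1)) :
    6 * {x : G1 K e | orderOf x ∣ Nat.card K + 1 ∧ ¬ orderOf x ∣ 2}.ncard =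
      Nat.card K ^ 3 * (Nat.card K - 1) * MQ (Nat.card K) * (Nat.card K - 3) := by
  obtain ⟨c, b, h⟩ := exists_NS (K := K) (e := e)
  have hq : 1 < Nat.card K := Finite.one_lt_card
  have h1 := cl_DD (K := K) (e := e) hm hn h (fun k => k ∣ Nat.card K + 1 ∧ ¬ k ∣ 2) (fun k hk => hk)
  have h2 : {x : G1 K e | x ∈ DD K e c ∧ (orderOf x ∣ Nat.card K + 1 ∧ ¬ orderOf x ∣ 2)} =
      ((DD K e c : Set (G1 K e)) \ {1}) \ {x : G1 K e | x ∈ DD K e c ∧ x * x = 1 ∧ x ≠ 1} := by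
    ext x
    simp only [Set.mem_setOf_eq, Set.mem_diff, SetLike.mem_coe, Set.mem_singleton_iff, not_and, not_not]
    constructor
    · rintro ⟨h, -, h'⟩
      refine ⟨⟨h, ?_⟩, ?_⟩
      · rintro rfl; exact h' (by rw [orderOf_one]; exact one_dvd _)
      · intro _ h3; exact absurd h3 (sq_of_two h')
    · rintro ⟨⟨h3, h'⟩, h''⟩
      refine ⟨h3, ?_, ?_⟩
      · rw [← (h.main (e := e) hm hn).1]
        have := orderOf_dvd_natCard (⟨x, h3⟩ : DD K e c)
        rwa [Subgroup.orderOf_mk] at this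
      · exact two_of_sq (fun h4 => h' (h'' h3 h4))
  have h3 : {x : G1 K e | x ∈ DD K e c ∧ x * x = 1 ∧ x ≠ 1} ⊆ (DD K e c : Set (G1 K e)) \ {1} := by
    rintro x ⟨a1, a2, a3⟩; exact ⟨a1, a3⟩
  rw [h2, Set.ncard_diff h3, h.ncard_V hm hn, Set.ncard_diff_singleton_of_mem (one_mem _)] at h1
  have h4 : (DD K e c : Set (G1 K e)).ncard = Nat.card K + 1 := (h.main hm hn).1
  rw [h4, card_G1'] at h1
  apply Nat.eq_of_mul_eq_mul_right (show 0 < Nat.card K + 1 by omega)
  calc 6 * {x : G1 K e | orderOf x ∣ Nat.card K + 1 ∧ ¬ orderOf x ∣ 2}.ncard * (Nat.card K + 1) =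
      {x : G1 K e | orderOf x ∣ Nat.card K + 1 ∧ ¬ orderOf x ∣ 2}.ncard * (6 * (Nat.card K + 1)) := by ring
    _ = _ := h1
    _ = _ := by
      have : Nat.card K + 1 - 1 - 3 = Nat.card K - 3 := by omega
      rw [this]; ring

/-- number of elements of order `i`, `1 < i ∣ (q+1)/4` -/
theorem cnt_s {m : ℕ} (hm : 1 ≤ m) (hn : Nat.card K = 3 ^ (2 * m + 1)) {s : ℕ} (hs : Nat.card K + 1 = 4 * s) {i : ℕ} (hi : 1 < i)
    (hd : i ∣ s) : 6 * {x : G1 K e | orderOf x = i}.ncard = Nat.totient i * Nat.card K ^ 3 * (Nat.card K - 1) * MQ (Nat.card K) := by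
  obtain ⟨c, b, h⟩ := exists_NS (K := K) (e := e)
  have hq : 1 < Nat.card K := Finite.one_lt_card
  obtain ⟨k, hk, -⟩ := exists_s hn
  have hsk : s = 2 * k + 1 := by omega
  have hodd : Odd i := Odd.of_dvd_nat ⟨k, hsk⟩ hd
  have h1 := cl_DD (K := K) (e := e) hm hn h (fun k => k = i) (by
    rintro k rfl
    refine ⟨by rw [hs]; exact hd.mul_left 4, fun h2 => ?_⟩
    have := Nat.le_of_dvd (by norm_num) h2
    obtain ⟨j, hj⟩ := hodd
    omega)
  have h2 : {x : G1 K e | x ∈ DD K e c ∧ orderOf x = i} = {x : G1 K e | x ∈ AA K e c ∧ orderOf x = i} := by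
    ext x
    simp only [Set.mem_setOf_eq]
    constructor
    · rintro ⟨a1, a2⟩
      exact ⟨h.mem_AA hm hn a1 (by rw [a2]; exact hodd), a2⟩
    · rintro ⟨a1, a2⟩
      exact ⟨NS.AA_le a1, a2⟩
  rw [h2, ncard_cyclic (C := AA K e c) (Subgroup.isCyclic_zpowers _) (by
    change i ∣ Nat.card (AA K e c)
    rw [h.card_AA hs]; exact hd), card_G1'] at h1
  apply Nat.eq_of_mul_eq_mul_right (show 0 < Nat.card K + 1 by omega)
  calc 6 * {x : G1 K e | orderOf x = i}.ncard * (Nat.card K + 1) = {x : G1 K e | orderOf x = i}.ncard * (6 * (Nat.card K + 1)) := by ring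
    _ = _ := h1
    _ = _ := by ring

/-- number of elements of order `2 i`, `1 < i ∣ (q+1)/4` -/
theorem cnt_2s {m : ℕ} (hm : 1 ≤ m) (hn : Nat.card K = 3 ^ (2 * m + 1)) {s : ℕ} (hs : Nat.card K + 1 = 4 * s) {i : ℕ} (hi : 1 < i)
    (hd : i ∣ s) : 2 * {x : G1 K e | orderOf x = 2 * i}.ncard = Nat.totient i * Nat.card K ^ 3 * (Nat.card K - 1) * MQ (Nat.card K) := by
  obtain ⟨c, b, h⟩ := exists_NS (K := K) (e := e)
  have hq : 1 < Nat.card K := Finite.one_lt_card
  obtain ⟨k, hk, -⟩ := exists_s hn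
  have hsk : s = 2 * k + 1 := by omega
  have hodd : Odd i := Odd.of_dvd_nat ⟨k, hsk⟩ hd
  have h1 := cl_DD (K := K) (e := e) hm hn h (fun k => k = 2 * i) (by
    rintro k rfl
    refine ⟨by rw [hs, show 4 * s = 2 * (2 * s) by ring]; exact Nat.mul_dvd_mul_left 2 (hd.mul_left 2), fun h2 => ?_⟩
    have := Nat.le_of_dvd (by norm_num) h2
    omega)
  have hcomm := (h.main (e := e) hm hn).2.1
  have h2 : {x : G1 K e | x ∈ DD K e c ∧ orderOf x = 2 * i} =
      (fun p : G1 K e × G1 K e => p.1 * p.2) '' ({x : G1 K e | x ∈ DD K e c ∧ x * x = 1 ∧ x ≠ 1} ×ˢ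
        {x : G1 K e | x ∈ AA K e c ∧ orderOf x = i}) := by
    ext x
    simp only [Set.mem_setOf_eq, Set.mem_image, Set.mem_prod, Prod.exists]
    constructor
    · rintro ⟨a1, a2⟩
      have hx2 : orderOf (x ^ i) = 2 := by
        rw [orderOf_pow_of_dvd (by omega) (by rw [a2]; exact dvd_mul_left _ _), a2, Nat.mul_div_cancel _ (by omega)]
      have hx3 : orderOf (x ^ 2) = i := by
        rw [orderOf_pow_of_dvd (by omega) (by rw [a2]; exact dvd_mul_right _ _), a2, Nat.mul_div_cancel_left _ (by omega)]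
      obtain ⟨j, hj⟩ := hodd
      refine ⟨x ^ i, x ^ (i + 1), ⟨⟨Subgroup.pow_mem _ a1 i, ?_, ?_⟩, ?_, ?_⟩, ?_⟩
      · rw [← pow_two, ← hx2, pow_orderOf_eq_one]
      · intro h3; rw [h3, orderOf_one] at hx2; norm_num at hx2
      · apply h.mem_AA hm hn (Subgroup.pow_mem _ a1 _)
        rw [show i + 1 = 2 * (j + 1) by omega, pow_mul]
        have : orderOf ((x ^ 2) ^ (j + 1)) ∣ i := by rw [← hx3]; exact orderOf_pow_dvd _
        exact Odd.of_dvd_nat ⟨j, hj⟩ this
      · rw [show i + 1 = 2 * (j + 1) by omega, pow_mul, Nat.Coprime.orderOf_pow, hx3]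
        rw [hx3, hj]
        have h5 : Nat.gcd (2 * j + 1) (j + 1) ∣ 1 := by
          have h6 := Nat.gcd_dvd_left (2 * j + 1) (j + 1)
          have h7 := Nat.gcd_dvd_right (2 * j + 1) (j + 1)
          have h8 := Nat.dvd_sub (h7.mul_left 2) h6
          rwa [show 2 * (j + 1) - (2 * j + 1) = 1 by omega] at h8
        exact Nat.dvd_one.1 h5
      · rw [← pow_add, show i + (i + 1) = orderOf x + 1 by rw [a2]; ring, pow_succ, pow_orderOf_eq_one, one_mul]
    · rintro ⟨v, a, ⟨⟨a1, a2, a3⟩, a4, a5⟩, rfl⟩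
      refine ⟨mul_mem a1 (NS.AA_le a4), ?_⟩
      have hv2 : orderOf v = 2 := by
        haveI : Fact (Nat.Prime 2) := ⟨Nat.prime_two⟩
        exact orderOf_eq_prime (by rw [pow_two]; exact a2) a3
      have hco : Nat.Coprime (orderOf v) (orderOf a) := by rw [hv2, a5]; exact Nat.coprime_two_left.2 hodd
      rw [Commute.orderOf_mul_eq_mul_orderOf_of_coprime (hcomm v a1 a (NS.AA_le a4)) hco, hv2, a5]
  have hinj : Set.InjOn (fun p : G1 K e × G1 K e => p.1 * p.2) ({x : G1 K e | x ∈ DD K e c ∧ x * x = 1 ∧ x ≠ 1} ×ˢ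
        {x : G1 K e | x ∈ AA K e c ∧ orderOf x = i}) := by
    rintro ⟨v, a⟩ ⟨⟨a1, a2, a3⟩, a4, a5⟩ ⟨v', a'⟩ ⟨⟨a1', a2', a3'⟩, a4', a5'⟩ heq
    simp only at heq a1 a2 a3 a4 a5 a1' a2' a3' a4' a5'
    have e1 : v'⁻¹ * v = a' * a⁻¹ := by
      rw [inv_mul_eq_iff_eq_mul, ← mul_assoc, ← heq]; group
    have e2 : a' * a⁻¹ = 1 := by
      apply H24.FourCent.eq_one_of_sq (h.odd_AA hn (mul_mem a4' (inv_mem a4)))
      rw [← e1]
      have hvv : v'⁻¹ = v' := inv_eq_of_mul_eq_one_left a2'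
      rw [hvv, show v' * v * (v' * v) = v' * (v * v') * v by group, hcomm v a1 v' a1',
        show v' * (v' * v) * v = (v' * v') * (v * v) by group, a2, a2', one_mul]
    rw [e2] at e1
    have e3 : a' = a := by rw [mul_inv_eq_one] at e2; exact e2
    have e4 : v = v' := by rw [inv_mul_eq_one] at e1; exact e1.symm
    rw [e3, e4]
  rw [h2, Set.ncard_image_of_injOn hinj, Set.ncard_prod, h.ncard_V hm hn, ncard_cyclic (C := AA K e c) (Subgroup.isCyclic_zpowers _) (by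
    change i ∣ Nat.card (AA K e c)
    rw [h.card_AA hs]; exact hd), card_G1'] at h1
  apply Nat.eq_of_mul_eq_mul_right (show 0 < 3 * (Nat.card K + 1) by omega)
  calc 2 * {x : G1 K e | orderOf x = 2 * i}.ncard * (3 * (Nat.card K + 1)) = {x : G1 K e | orderOf x = 2 * i}.ncard * (6 * (Nat.card K + 1)) := by ring
    _ = _ := h1
    _ = _ := by ring

end H24.ReeCnt
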