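/-
H24: the small Ree groups: the total count and the exceptional tori.
-/
import Cfsg.Agent.Lib.H24.ReeCnt2
import Cfsg.Agent.Lib.H8.TISum
set_option autoImplicit false
set_option linter.unusedSimpArgs false
set_option linter.unusedVariables false
set_option linter.unusedSectionVars false
namespace H24.ReeCnt

open Cfsg.Lie Matrix H24.ReeBlk H24.ReeAd H24.ReeAl H24.ReeGood H24.ReePts H24.ReeGrp
open H24.ReeAct H24.ReeStr H24.ReeInt H24.ReeUni H24.ReeSub H24.ReeSyl H24.ReeSyl3 H24.ReeCen H24.ReeSyl2 H24.ReeInvo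
open H24.ReeFour H24.ReeTor
open H8.TICount (cl)
open scoped MatrixGroups Pointwise

variable {K : Type*} [Field K] {e : ℕ} [RF K e] [Finite K]

local notation "iv" => (H24.ReeCen.inv : G1 K e)

/-- the nontrivial elements of the exceptional tori -/
def MS (K : Type*) [Field K] (e : ℕ) [RF K e] [Finite K] : Set (G1 K e) := {x | ∃ U : Subgroup (G1 K e), Tor U ∧ x ∈ cl U}

theorem order_cases {m : ℕ} (hm : 1 ≤ m) (hn : Nat.card K = 3 ^ (2 * m + 1)) (x : G1 K e) :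
    orderOf x ∣ 2 ∨ (orderOf x = 3 ∨ orderOf x = 6 ∨ orderOf x = 9) ∨ (orderOf x ∣ Nat.card K - 1 ∧ ¬ orderOf x ∣ 2) ∨
      (orderOf x ∣ Nat.card K + 1 ∧ ¬ orderOf x ∣ 2) ∨ x ∈ MS K e := by
  by_cases h2 : orderOf x ∣ 2
  · exact Or.inl h2
  right
  by_cases h3 : 3 ∣ orderOf x
  · exact Or.inl (order3_cases hn h3)
  right
  obtain ⟨r, hr, hr2, hrx⟩ := exists_odd_prime hn (sq_of_two h2)
  obtain ⟨c, hc⟩ := exists_pow_prime hr hrx
  rcases prime_cases hn hr hc with h | h | ⟨-, h⟩ | ⟨-, h⟩ | h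
  · exact absurd h hr2
  · rw [h] at hrx; exact absurd hrx h3
  · left
    obtain ⟨-, g, hg⟩ := cent_h hn hr hr2 h hc
    have h4 := hg x (Commute.self_pow x c).eq.symm
    have h5 := orderOf_dvd_natCard (⟨_, h4⟩ : T1 K e)
    rw [Subgroup.orderOf_mk, orderOf_conj', card_T1] at h5
    exact ⟨h5, h2⟩
  · right; left
    obtain ⟨c, b, hs⟩ := exists_NS (K := K) (e := e)
    obtain ⟨g, hg⟩ := conj_DD hm hn hs hr hr2 h hrx
    have h5 := orderOf_dvd_natCard (⟨_, hg⟩ : DD K e c)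
    rw [Subgroup.orderOf_mk, orderOf_conj', (hs.main (e := e) hm hn).1] at h5
    exact ⟨h5, h2⟩
  · right; right
    obtain ⟨U, hU, hrU⟩ := exists_Tor (K := K) (e := e) hr h
    exact ⟨U, hU, hU.mem_cl hn hr hrU hrx⟩

theorem MS_order {m : ℕ} (hn : Nat.card K = 3 ^ (2 * m + 1)) {x : G1 K e} (hx : x ∈ MS K e) :
    orderOf x ≠ 1 ∧ orderOf x ∣ MQ (Nat.card K) := by
  obtain ⟨U, hU, hx⟩ := hx
  obtain ⟨w, hw, -⟩ := hU.exists_card hn
  exact ⟨fun h => hx.1 (orderOf_eq_one_iff.1 h), (H8.TICount.orderOf_dvd_of_mem_cl hx).trans ⟨w, hw⟩⟩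

theorem MS_not {m : ℕ} (hn : Nat.card K = 3 ^ (2 * m + 1)) {x : G1 K e} (hx : x ∈ MS K e) :
    ¬ 2 ∣ orderOf x ∧ ¬ 3 ∣ orderOf x ∧ ¬ orderOf x ∣ Nat.card K - 1 ∧ ¬ orderOf x ∣ Nat.card K + 1 := by
  have hq : 1 < Nat.card K := Finite.one_lt_card
  obtain ⟨h1, h2⟩ := MS_order hn hx
  obtain ⟨r, hr, hrx⟩ := Nat.exists_prime_and_dvd h1
  have h5 := not_dvd_pow hq.le (three_dvd hn) hr (hrx.trans h2) 1 le_rfl (by norm_num)
  rw [pow_one] at h5
  refine ⟨fun h => MQ_odd _ (h.trans h2), fun h => ?_, fun h => h5 (hrx.trans h), fun h =>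
    not_dvd_add hq.le (three_dvd hn) hr (hrx.trans h2) (hrx.trans h)⟩
  exact not_dvd_q Nat.prime_three (h.trans h2) (three_dvd hn)

theorem total {m : ℕ} (hm : 1 ≤ m) (hn : Nat.card K = 3 ^ (2 * m + 1)) :
    {g : G1 K e | orderOf g = 1}.ncard + {g : G1 K e | orderOf g = 2}.ncard + {g : G1 K e | orderOf g = 3}.ncard +
      {g : G1 K e | orderOf g = 6}.ncard + {g : G1 K e | orderOf g = 9}.ncard +
      {x : G1 K e | orderOf x ∣ Nat.card K - 1 ∧ ¬ orderOf x ∣ 2}.ncard +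
      {x : G1 K e | orderOf x ∣ Nat.card K + 1 ∧ ¬ orderOf x ∣ 2}.ncard + (MS K e).ncard = Nat.card (G1 K e) := by
  have hq : 1 < Nat.card K := Finite.one_lt_card
  have e3 : ∀ k, k ∣ Nat.card K - 1 → ¬ 3 ∣ k := by
    intro k hk h
    have h1 := h.trans hk
    have h2 := Nat.dvd_sub (three_dvd hn) h1
    rw [show Nat.card K - (Nat.card K - 1) = 1 by omega] at h2
    norm_num at h2
  have e3' : ∀ k, k ∣ Nat.card K + 1 → ¬ 3 ∣ k := by
    intro k hk h
    have h1 := h.trans hk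
    have h2 := (Nat.dvd_add_right (three_dvd hn)).1 h1
    norm_num at h2
  have e2 : ∀ k, k ∣ Nat.card K - 1 → k ∣ Nat.card K + 1 → k ∣ 2 := by
    intro k h1 h2
    have h3 := Nat.dvd_sub h2 h1
    rwa [show Nat.card K + 1 - (Nat.card K - 1) = 2 by omega] at h3
  rw [← Set.ncard_univ (G1 K e), ← Set.ncard_union_eq, ← Set.ncard_union_eq, ← Set.ncard_union_eq, ← Set.ncard_union_eq,
    ← Set.ncard_union_eq, ← Set.ncard_union_eq, ← Set.ncard_union_eq]
  · congr 1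
    apply Set.eq_univ_of_forall
    intro x
    rcases order_cases hm hn x with h | (h | h | h) | h | h | h
    · rcases (Nat.dvd_prime Nat.prime_two).1 h with h | h
      · exact Or.inl (Or.inl (Or.inl (Or.inl (Or.inl (Or.inl (Or.inl h))))))
      · exact Or.inl (Or.inl (Or.inl (Or.inl (Or.inl (Or.inl (Or.inr h))))))
    · exact Or.inl (Or.inl (Or.inl (Or.inl (Or.inl (Or.inr h)))))
    · exact Or.inl (Or.inl (Or.inl (Or.inl (Or.inr h))))
    · exact Or.inl (Or.inl (Or.inl (Or.inr h)))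
    · exact Or.inl (Or.inl (Or.inr h))
    · exact Or.inl (Or.inr h)
    · exact Or.inr h
  · rw [Set.disjoint_left]
    rintro x h hx
    obtain ⟨m1, m2, m3, m4⟩ := MS_not hn hx
    have m5 := (MS_order hn hx).1
    rcases h with (((((h | h) | h) | h) | h) | h) | h
    · exact m5 h
    · exact m1 (by rw [show orderOf x = 2 from h])
    · exact m2 (by rw [show orderOf x = 3 from h])
    · exact m2 (by rw [show orderOf x = 6 from h]; norm_num)
    · exact m2 (by rw [show orderOf x = 9 from h]; norm_num)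
    · exact m3 h.1
    · exact m4 h.1
  · rw [Set.disjoint_left]
    rintro x h ⟨hx1, hx2⟩
    rcases h with ((((h | h) | h) | h) | h) | h
    · exact hx2 (by rw [show orderOf x = 1 from h]; norm_num)
    · exact hx2 (by rw [show orderOf x = 2 from h])
    · exact e3' _ hx1 (by rw [show orderOf x = 3 from h])
    · exact e3' _ hx1 (by rw [show orderOf x = 6 from h]; norm_num)
    · exact e3' _ hx1 (by rw [show orderOf x = 9 from h]; norm_num)
    · exact hx2 (e2 _ h.1 hx1)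
  · rw [Set.disjoint_left]
    rintro x h ⟨hx1, hx2⟩
    rcases h with (((h | h) | h) | h) | h
    · exact hx2 (by rw [show orderOf x = 1 from h]; norm_num)
    · exact hx2 (by rw [show orderOf x = 2 from h])
    · exact e3 _ hx1 (by rw [show orderOf x = 3 from h])
    · exact e3 _ hx1 (by rw [show orderOf x = 6 from h]; norm_num)
    · exact e3 _ hx1 (by rw [show orderOf x = 9 from h]; norm_num)
  · rw [Set.disjoint_left]
    rintro x h hx
    rcases h with ((h | h) | h) | h <;> (rw [Set.mem_setOf_eq] at h hx; omega)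
  · rw [Set.disjoint_left]
    rintro x h hx
    rcases h with (h | h) | h <;> (rw [Set.mem_setOf_eq] at h hx; omega)
  · rw [Set.disjoint_left]
    rintro x h hx
    rcases h with h | h <;> (rw [Set.mem_setOf_eq] at h hx; omega)
  · rw [Set.disjoint_left]
    rintro x h hx
    rw [Set.mem_setOf_eq] at h hx; omega

/-- the number of elements in the exceptional tori -/
theorem ncard_MS {m : ℕ} (hm : 1 ≤ m) (hn : Nat.card K = 3 ^ (2 * m + 1)) :
    3 * ((MS K e).ncard : ℤ) = (Nat.card K : ℤ) ^ 4 * ((Nat.card K : ℤ) ^ 2 - 1) * ((Nat.card K : ℤ) - 2) := by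
  have hq : 1 < Nat.card K := Finite.one_lt_card
  have hq27 : 3 ^ 3 ≤ Nat.card K := by rw [hn]; exact Nat.pow_le_pow_right (by norm_num) (by omega)
  have h0 := congrArg (Nat.cast : ℕ → ℤ) (total (K := K) (e := e) hm hn)
  have h1 : {g : G1 K e | orderOf g = 1}.ncard = 1 := by
    have : {g : G1 K e | orderOf g = 1} = {1} := by ext x; simp
    rw [this, Set.ncard_singleton]
  have h5 := congrArg (Nat.cast : ℕ → ℤ) (cnt_h_all (K := K) (e := e) hn)
  have h6 := congrArg (Nat.cast : ℕ → ℤ) (cnt_s_all (K := K) (e := e) hm hn)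
  have hMQ := congrArg (Nat.cast : ℕ → ℤ) (MQ_add (Nat.card K))
  rw [h1, cnt2 hn, cnt3 hn (dvd_refl 3), cnt3 hn (by norm_num : 3 ∣ 6), cnt3 hn (by norm_num : 3 ∣ 9), D3 hn, D6 hn, D9 hn,
    card_G1'] at h0
  obtain ⟨r, hr⟩ := Nat.exists_eq_add_of_le hq27
  have a1 : ((Nat.card K - 1 : ℕ) : ℤ) = (Nat.card K : ℤ) - 1 := by push_cast [Nat.cast_sub hq.le]; ring
  have a3 : ((Nat.card K - 3 : ℕ) : ℤ) = (Nat.card K : ℤ) - 3 := by
    rw [Nat.cast_sub (by omega)]; norm_num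
  have a4 : ((Nat.card K ^ 2 - 1 : ℕ) : ℤ) = (Nat.card K : ℤ) ^ 2 - 1 := by
    rw [Nat.cast_sub (Nat.one_le_pow _ _ (by omega))]; push_cast; ring
  push_cast [a1, a3, a4] at h0 h5 h6 hMQ
  have hMQ' : ((MQ (Nat.card K) : ℕ) : ℤ) = (Nat.card K : ℤ) ^ 2 + 1 - (Nat.card K : ℤ) := by linear_combination hMQ
  rw [hMQ'] at h0 h6
  generalize (Nat.card K : ℤ) = q at *
  linarith

theorem arith_one {q n c M : ℤ} (hq : 27 ≤ q) (hM : M = q ^ 2 - q + 1) (hn1 : 1 ≤ n) (hn6 : n ≤ 6)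
    (hc : c * (n * M) = q ^ 3 * (q ^ 2 - 1) * M * (M - 1)) (hs : 3 * c = q ^ 4 * (q ^ 2 - 1) * (q - 2)) : False := by
  have hMpos : 0 < M := by rw [hM]; nlinarith
  have h1 : (q ^ 4 * (q ^ 2 - 1) * M) * (n * (q - 2)) = (q ^ 4 * (q ^ 2 - 1) * M) * (3 * (q - 1)) := by
    have : M - 1 = q * (q - 1) := by rw [hM]; ring
    rw [this] at hc
    linear_combination 3 * hc - (n * M) * hs
  have h2 : q ^ 4 * (q ^ 2 - 1) * M ≠ 0 := by
    have : 0 < q ^ 4 * (q ^ 2 - 1) * M := by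
      apply mul_pos (mul_pos (by positivity) (by nlinarith)) hMpos
    exact this.ne'
  have h3 := mul_left_cancel₀ h2 h1
  interval_cases n <;> omega

theorem arith_two {q M n1 n2 u1 u2 c1 c2 : ℤ} (hq : 27 ≤ q) (hM : M = q ^ 2 - q + 1) (h11 : 1 ≤ n1) (h14 : n1 ≤ 6)
    (h21 : 1 ≤ n2) (h24 : n2 ≤ 6) (hu : u1 * u2 = M) (hu1 : 7 ≤ u1) (hu2 : 7 ≤ u2)
    (hc1 : c1 * (n1 * u1) = q ^ 3 * (q ^ 2 - 1) * M * (u1 - 1))
    (hc2 : c2 * (n2 * u2) = q ^ 3 * (q ^ 2 - 1) * M * (u2 - 1))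
    (hs : 3 * (c1 + c2) = q ^ 4 * (q ^ 2 - 1) * (q - 2)) : n1 = 6 ∧ n2 = 6 ∧ u1 + u2 = 2 * (q + 1) := by
  have h1 : c1 * n1 = q ^ 3 * (q ^ 2 - 1) * u2 * (u1 - 1) := by
    apply mul_right_cancel₀ (b := u1) (by omega)
    linear_combination hc1 - (q ^ 3 * (q ^ 2 - 1) * (u1 - 1)) * hu
  have h2 : c2 * n2 = q ^ 3 * (q ^ 2 - 1) * u1 * (u2 - 1) := by
    apply mul_right_cancel₀ (b := u2) (by omega)
    linear_combination hc2 - (q ^ 3 * (q ^ 2 - 1) * (u2 - 1)) * hu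
  have h3 : (q ^ 3 * (q ^ 2 - 1)) * (3 * n2 * u2 * (u1 - 1) + 3 * n1 * u1 * (u2 - 1)) =
      (q ^ 3 * (q ^ 2 - 1)) * (n1 * n2 * (q * (q - 2))) := by
    linear_combination n1 * n2 * hs - 3 * n2 * h1 - 3 * n1 * h2
  have h4 : q ^ 3 * (q ^ 2 - 1) ≠ 0 := by
    have : 0 < q ^ 3 * (q ^ 2 - 1) := mul_pos (by positivity) (by nlinarith)
    exact this.ne'
  have h5 := mul_left_cancel₀ h4 h3
  have h6 : 3 * (n1 + n2) * M - 3 * n2 * u2 - 3 * n1 * u1 = n1 * n2 * (M - q - 1) := by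
    have e : q * (q - 2) = M - q - 1 := by rw [hM]; ring
    rw [e] at h5
    linear_combination h5 - 3 * (n1 + n2) * hu
  have h7 : 0 ≤ (u1 - 7) * (u2 - 7) := mul_nonneg (by linarith) (by linarith)
  have h8 : 7 * (u1 + u2) ≤ M + 49 := by nlinarith
  have h9 : 27 * 26 ≤ M := by rw [hM]; nlinarith
  clear h1 h2 h3 h4 h5 hc1 hc2 hs h7 hu hM
  interval_cases n1 <;> interval_cases n2 <;> first | (exfalso; linarith) | skip
  refine ⟨rfl, rfl, ?_⟩
  linarith

theorem arith_ge {g c n u : ℤ} (hg : 0 ≤ g) (hc : 0 ≤ c) (hn4 : n ≤ 6) (hu : 7 ≤ u)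
    (h : c * (n * u) = g * (u - 1)) : g ≤ 7 * c := by
  have h1 : g * (u - 1) ≤ 6 * c * u := by
    rw [← h]
    have : c * n ≤ c * 6 := mul_le_mul_of_nonneg_left hn4 hc
    nlinarith
  have h2 : 6 * (g * u) ≤ 7 * (g * (u - 1)) := by nlinarith
  have h3 : 6 * g * u ≤ 6 * (7 * c) * u := by nlinarith
  have h4 : 6 * g ≤ 6 * (7 * c) := le_of_mul_le_mul_right h3 (by linarith)
  linarith

theorem arith_three {q g M c1 c2 c3 : ℤ} (hq : 27 ≤ q) (hM : M = q ^ 2 - q + 1) (hg : g = q ^ 3 * (q ^ 2 - 1) * M) (h1 : g ≤ 7 * c1)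
    (h2 : g ≤ 7 * c2) (h3 : g ≤ 7 * c3) (hs : 3 * (c1 + c2 + c3) ≤ q ^ 4 * (q ^ 2 - 1) * (q - 2)) : False := by
  have h4 : 9 * g ≤ 7 * (q ^ 4 * (q ^ 2 - 1) * (q - 2)) := by linarith
  rw [hg] at h4
  have h5 : (q ^ 3 * (q ^ 2 - 1)) * (9 * M) ≤ (q ^ 3 * (q ^ 2 - 1)) * (7 * (q * (q - 2))) := by
    have e1 : (q ^ 3 * (q ^ 2 - 1)) * (9 * M) = 9 * (q ^ 3 * (q ^ 2 - 1) * M) := by ring
    have e2 : (q ^ 3 * (q ^ 2 - 1)) * (7 * (q * (q - 2))) = 7 * (q ^ 4 * (q ^ 2 - 1) * (q - 2)) := by ring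
    rw [e1, e2]; exact h4
  have h6 : 0 < q ^ 3 * (q ^ 2 - 1) := mul_pos (by positivity) (by nlinarith)
  have h7 := le_of_mul_le_mul_left h5 h6
  rw [hM] at h7
  nlinarith

theorem card_int {m : ℕ} : ((Nat.card (G1 K e) : ℕ) : ℤ) = (Nat.card K : ℤ) ^ 3 * ((Nat.card K : ℤ) ^ 2 - 1) * ((MQ (Nat.card K) : ℕ) : ℤ) := by
  have hq : 1 < Nat.card K := Finite.one_lt_card
  rw [card_G1']
  have a1 : ((Nat.card K - 1 : ℕ) : ℤ) = (Nat.card K : ℤ) - 1 := by push_cast [Nat.cast_sub hq.le]; ring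
  rw [Nat.cast_mul, Nat.cast_mul, a1]
  push_cast
  ring

theorem Tor.card_int {m : ℕ} (hn : Nat.card K = 3 ^ (2 * m + 1)) {U : Subgroup (G1 K e)} (hU : Tor U) :
    ∃ n : ℤ, 1 ≤ n ∧ n ≤ 6 ∧ ((Nat.card (Subgroup.normalizer (U : Set (G1 K e))) : ℕ) : ℤ) = n * (Nat.card U : ℤ) ∧
      (((cl U).ncard : ℕ) : ℤ) * (n * (Nat.card U : ℤ)) =
        (Nat.card K : ℤ) ^ 3 * ((Nat.card K : ℤ) ^ 2 - 1) * ((MQ (Nat.card K) : ℕ) : ℤ) * ((Nat.card U : ℤ) - 1) := by
  obtain ⟨n, hn1, hn4, hnn⟩ := hU.card_normalizer hn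
  refine ⟨n, by exact_mod_cast hn1, by exact_mod_cast hn4, by exact_mod_cast hnn, ?_⟩
  have h1 := congrArg (Nat.cast : ℕ → ℤ) (hU.card_cl hn)
  have h2 : 1 ≤ Nat.card U := Nat.card_pos
  rw [hnn, Nat.cast_mul, Nat.cast_mul, Nat.cast_mul, Nat.cast_sub h2, ReeCnt.card_int (m := m), Nat.cast_one] at h1
  exact h1

theorem cl_disjoint {G : Type*} [Group G] {U V : Subgroup G} (h : Nat.Coprime (Nat.card U) (Nat.card V)) : Disjoint (cl U) (cl V) := by
  rw [Set.disjoint_left]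
  intro x hi' hj'
  have h1 := H8.TICount.orderOf_dvd_of_mem_cl hi'
  have h2 := H8.TICount.orderOf_dvd_of_mem_cl hj'
  exact hi'.1 (orderOf_eq_one_iff.1 (Nat.eq_one_of_dvd_coprimes h h1 h2))

theorem exists_two_tori {m : ℕ} (hm : 1 ≤ m) (hn : Nat.card K = 3 ^ (2 * m + 1)) :
    ∃ U V : Subgroup (G1 K e), Tor U ∧ Tor V ∧
      Nat.card (Subgroup.normalizer (U : Set (G1 K e))) = 6 * Nat.card U ∧
      Nat.card (Subgroup.normalizer (V : Set (G1 K e))) = 6 * Nat.card V ∧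
      Nat.card U * Nat.card V = MQ (Nat.card K) ∧ Nat.card U + Nat.card V = 2 * (Nat.card K + 1) := by
  have hq : 1 < Nat.card K := Finite.one_lt_card
  have hq27' : 3 ^ 3 ≤ Nat.card K := by rw [hn]; exact Nat.pow_le_pow_right (by norm_num) (by omega)
  have hq27 : (27 : ℤ) ≤ (Nat.card K : ℤ) := by exact_mod_cast hq27'
  have hMZ : ((MQ (Nat.card K) : ℕ) : ℤ) = (Nat.card K : ℤ) ^ 2 - (Nat.card K : ℤ) + 1 := by
    have := congrArg (Nat.cast : ℕ → ℤ) (MQ_add (Nat.card K))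
    push_cast at this
    linear_combination this
  have hN1 : MQ (Nat.card K) ≠ 1 := by
    intro h
    rw [h] at hMZ
    push_cast at hMZ
    nlinarith
  have hMS := ncard_MS (K := K) (e := e) hm hn
  obtain ⟨p1, hp1, hd1⟩ := Nat.exists_prime_and_dvd hN1
  obtain ⟨U1, hU1, hpU1⟩ := exists_Tor (K := K) (e := e) hp1 hd1
  obtain ⟨w1, hw1, hcop1⟩ := hU1.exists_card hn
  obtain ⟨n1, h11, h14, hN1', hcl1⟩ := Tor.card_int hn hU1
  have hclsub : ∀ {U : Subgroup (G1 K e)}, Tor U → cl U ⊆ MS K e := fun {U} hU x hx => ⟨U, hU, hx⟩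
  by_cases hw11 : w1 = 1
  · -- one class only
    exfalso
    rw [hw11, mul_one] at hw1
    have hsum : cl U1 = MS K e := by
      apply Set.Subset.antisymm (hclsub hU1)
      intro x hx
      obtain ⟨h1, h2⟩ := MS_order hn hx
      obtain ⟨r, hr, hrx⟩ := Nat.exists_prime_and_dvd h1
      exact hU1.mem_cl hn hr (hw1 ▸ hrx.trans h2) hrx
    rw [← hsum] at hMS
    rw [← hw1] at hcl1
    exact arith_one hq27 hMZ h11 h14 hcl1 hMS
  · obtain ⟨p2, hp2, hd2⟩ := Nat.exists_prime_and_dvd hw11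
    have hd2' : p2 ∣ MQ (Nat.card K) := by
      rw [hw1]; exact dvd_mul_of_dvd_right hd2 _
    obtain ⟨U2, hU2, hpU2⟩ := exists_Tor (K := K) (e := e) hp2 hd2'
    obtain ⟨w2, hw2, hcop2⟩ := hU2.exists_card hn
    obtain ⟨n2, h21, h24, hN2', hcl2⟩ := Tor.card_int hn hU2
    have hp2U1 : ¬ p2 ∣ Nat.card U1 := by
      intro h
      exact hp2.one_lt.ne' (Nat.eq_one_of_dvd_coprimes hcop1 h hd2)
    have hne12 : Nat.card U1 ≠ Nat.card U2 := fun h => hp2U1 (h ▸ hpU2)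
    have hc12 := hU1.coprime hn hU2 hne12
    have hdvd2 : Nat.card U2 ∣ w1 := by
      apply hc12.symm.dvd_of_dvd_mul_left
      rw [← hw1, hw2]
      exact dvd_mul_right _ _
    obtain ⟨w3, hw3⟩ := hdvd2
    by_cases hw31 : w3 = 1
    · -- two classes
      rw [hw31, mul_one] at hw3
      rw [hw3] at hw1
      have hsum : cl U1 ∪ cl U2 = MS K e := by
        apply Set.Subset.antisymm (Set.union_subset (hclsub hU1) (hclsub hU2))
        intro x hx
        obtain ⟨h1, h2⟩ := MS_order hn hx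
        obtain ⟨r, hr, hrx⟩ := Nat.exists_prime_and_dvd h1
        have hrq := hrx.trans h2
        rw [hw1] at hrq
        rcases (Nat.Prime.dvd_mul hr).1 hrq with h | h
        · exact Or.inl (hU1.mem_cl hn hr h hrx)
        · exact Or.inr (hU2.mem_cl hn hr h hrx)
      rw [← hsum, Set.ncard_union_eq (cl_disjoint hc12)] at hMS
      push_cast at hMS
      have hu : ((Nat.card U1 : ℕ) : ℤ) * ((Nat.card U2 : ℕ) : ℤ) = ((MQ (Nat.card K) : ℕ) : ℤ) := by
        have := congrArg (Nat.cast : ℕ → ℤ) hw1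
        push_cast at this ⊢
        linarith
      obtain ⟨e1, e2, e3⟩ := arith_two hq27 hMZ h11 h14 h21 h24 hu (by exact_mod_cast hU1.seven_le hn)
        (by exact_mod_cast hU2.seven_le hn) hcl1 hcl2 hMS
      refine ⟨U1, U2, hU1, hU2, ?_, ?_, hw1.symm, ?_⟩
      · rw [e1] at hN1'
        exact_mod_cast hN1'
      · rw [e2] at hN2'
        exact_mod_cast hN2'
      · exact_mod_cast e3
    · -- three classes
      exfalso
      obtain ⟨p3, hp3, hd3⟩ := Nat.exists_prime_and_dvd hw31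
      have hd3' : p3 ∣ MQ (Nat.card K) := by
        rw [hw1, hw3]; exact dvd_mul_of_dvd_right (dvd_mul_of_dvd_right hd3 _) _
      obtain ⟨U3, hU3, hpU3⟩ := exists_Tor (K := K) (e := e) hp3 hd3'
      obtain ⟨n3, h31, h34, hN3', hcl3⟩ := Tor.card_int hn hU3
      have hp3U1 : ¬ p3 ∣ Nat.card U1 := by
        intro h
        exact hp3.one_lt.ne' (Nat.eq_one_of_dvd_coprimes hcop1 h (by rw [hw3]; exact dvd_mul_of_dvd_right hd3 _))
      have hp3U2 : ¬ p3 ∣ Nat.card U2 := by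
        intro h
        have h5 : w2 = Nat.card U1 * w3 := by
          have h6 : Nat.card U2 * w2 = Nat.card U2 * (Nat.card U1 * w3) := by
            rw [← hw2, hw1, hw3]; ring
          exact Nat.eq_of_mul_eq_mul_left Nat.card_pos h6
        exact hp3.one_lt.ne' (Nat.eq_one_of_dvd_coprimes hcop2 h (by rw [h5]; exact dvd_mul_of_dvd_right hd3 _))
      have hc13 := hU1.coprime hn hU3 (fun h => hp3U1 (h ▸ hpU3))
      have hc23 := hU2.coprime hn hU3 (fun h => hp3U2 (h ▸ hpU3))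
      have hsum : cl U1 ∪ cl U2 ∪ cl U3 ⊆ MS K e :=
        Set.union_subset (Set.union_subset (hclsub hU1) (hclsub hU2)) (hclsub hU3)
      have h1 := Set.ncard_le_ncard hsum
      rw [Set.ncard_union_eq (Set.disjoint_union_left.2 ⟨cl_disjoint hc13, cl_disjoint hc23⟩),
        Set.ncard_union_eq (cl_disjoint hc12)] at h1
      have h2 : 3 * ((((cl U1).ncard : ℕ) : ℤ) + (((cl U2).ncard : ℕ) : ℤ) + (((cl U3).ncard : ℕ) : ℤ)) ≤
          (Nat.card K : ℤ) ^ 4 * ((Nat.card K : ℤ) ^ 2 - 1) * ((Nat.card K : ℤ) - 2) := by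
        rw [← hMS]
        have h5 := Nat.cast_le (α := ℤ).2 h1
        push_cast at h5 ⊢
        linarith
      have hg := ReeCnt.card_int (K := K) (e := e) (m := m)
      have hg0 : (0 : ℤ) ≤ ((Nat.card (G1 K e) : ℕ) : ℤ) := by positivity
      rw [← hg] at hcl1 hcl2 hcl3
      exact arith_three hq27 hMZ hg (arith_ge hg0 (by positivity) h14 (by exact_mod_cast hU1.seven_le hn) hcl1)
        (arith_ge hg0 (by positivity) h24 (by exact_mod_cast hU2.seven_le hn) hcl2)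
        (arith_ge hg0 (by positivity) h34 (by exact_mod_cast hU3.seven_le hn) hcl3) h2

/-- the exceptional tori: `U` of order `q + 1 + 3 ^ (m + 1)` and `V` of order `q + 1 - 3 ^ (m + 1)` -/
theorem tori {m : ℕ} (hm : 1 ≤ m) (hn : Nat.card K = 3 ^ (2 * m + 1)) :
    ∃ U V : Subgroup (G1 K e), Tor U ∧ Tor V ∧
      Nat.card (Subgroup.normalizer (U : Set (G1 K e))) = 6 * Nat.card U ∧
      Nat.card (Subgroup.normalizer (V : Set (G1 K e))) = 6 * Nat.card V ∧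
      Nat.card U = Nat.card K + 3 ^ (m + 1) + 1 ∧ Nat.card V = Nat.card K - 3 ^ (m + 1) + 1 := by
  obtain ⟨U, V, hU, hV, hnU, hnV, hmul, hadd⟩ := exists_two_tori (K := K) (e := e) hm hn
  have hle : 3 ^ (m + 1) ≤ Nat.card K := by rw [hn]; exact Nat.pow_le_pow_right (by norm_num) (by omega)
  have key : ∀ u v : ℕ, u * v = MQ (Nat.card K) → u + v = 2 * (Nat.card K + 1) → v ≤ u →
      u = Nat.card K + 3 ^ (m + 1) + 1 ∧ v = Nat.card K - 3 ^ (m + 1) + 1 := by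
    intro u v h1 h2 h3
    obtain ⟨d, rfl⟩ := Nat.exists_eq_add_of_le h3
    have h4 : d ^ 2 = (2 * 3 ^ (m + 1)) ^ 2 := by
      have e1 : d ^ 2 + 4 * ((v + d) * v) = ((v + d) + v) ^ 2 := by ring
      rw [h1, h2] at e1
      have e2 : (2 * 3 ^ (m + 1)) ^ 2 = 12 * Nat.card K := by
        rw [mul_pow, ← pow_mul, hn]
        have : (m + 1) * 2 = 1 + (2 * m + 1) := by ring
        rw [this, pow_add]; norm_num; ring
      rw [e2]
      have e3 := MQ_add (Nat.card K)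
      have e4 : (2 * (Nat.card K + 1)) ^ 2 = 4 * (Nat.card K ^ 2 + 1) + 8 * Nat.card K := by ring
      omega
    have h5 : d = 2 * 3 ^ (m + 1) := Nat.pow_left_injective (n := 2) (by norm_num) h4
    omega
  rcases le_total (Nat.card V) (Nat.card U) with h | h
  · obtain ⟨e1, e2⟩ := key _ _ hmul hadd h
    exact ⟨U, V, hU, hV, hnU, hnV, e1, e2⟩
  · obtain ⟨e1, e2⟩ := key _ _ (by rw [mul_comm]; exact hmul) (by rw [add_comm]; exact hadd) h
    exact ⟨V, U, hV, hU, hnV, hnU, e1, e2⟩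

end H24.ReeCnt
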