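/-
H24: the small Ree groups: uniform description of the four classes of tori.
-/
import Cfsg.Agent.Lib.H24.ReeCnt3
set_option autoImplicit false
set_option linter.unusedSimpArgs false
set_option linter.unusedVariables false
set_option linter.unusedSectionVars false
namespace H24.ReeDat

open Cfsg.Lie Matrix H24.ReeBlk H24.ReeAd H24.ReeAl H24.ReeGood H24.ReePts H24.ReeGrp
open H24.ReeAct H24.ReeStr H24.ReeInt H24.ReeUni H24.ReeSub H24.ReeSyl H24.ReeSyl3 H24.ReeCen H24.ReeSyl2 H24.ReeInvo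
open H24.ReeFour H24.ReeTor H24.ReeCnt
open H8.TICount (cl)
open scoped MatrixGroups Pointwise

/-- torus data: `A` cyclic of odd order, `C` the centraliser of every nontrivial element of `A` -/
structure TDat {G : Type*} [Group G] (A C : Subgroup G) (n : ℕ) : Prop where
  cyc : IsCyclic A
  le : A ≤ C
  ne : A ≠ ⊥
  odd : Odd (Nat.card A)
  comm : ∀ x ∈ C, ∀ y ∈ C, x * y = y * x
  cent : ∀ u ∈ A, u ≠ 1 → Subgroup.centralizer {u} = C
  mem : ∀ x ∈ C, Odd (orderOf x) → x ∈ A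
  norm : ∀ A₀ : Subgroup G, A₀ ≤ A → A₀ ≠ ⊥ → Subgroup.normalizer (A₀ : Set G) = Subgroup.normalizer (A : Set G)
  cardN : Nat.card (Subgroup.normalizer (A : Set G)) = n
  conj : ∀ r : ℕ, r.Prime → r ∣ Nat.card A → ∀ x : G, r ∣ orderOf x → ∃ g : G, g * x * g⁻¹ ∈ C

section general
variable {G : Type*} [Group G] [Finite G] {A C : Subgroup G} {n : ℕ}

theorem order_dvd {G : Type*} [Group G] {A : Subgroup G} {x : G} (hx : x ∈ A) : orderOf x ∣ Nat.card A := by
  have h1 := orderOf_dvd_natCard (⟨x, hx⟩ : A)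
  rwa [Subgroup.orderOf_mk] at h1

theorem TDat.odd_order (h : TDat A C n) {x : G} (hx : x ∈ A) : Odd (orderOf x) := Odd.of_dvd_nat h.odd (order_dvd hx)

theorem TDat.conj_odd (h : TDat A C n) {r : ℕ} (hr : r.Prime) (hd : r ∣ Nat.card A) {x : G} (hx : r ∣ orderOf x)
    (ho : Odd (orderOf x)) : ∃ g : G, g * x * g⁻¹ ∈ A := by
  obtain ⟨g, hg⟩ := h.conj r hr hd x hx
  exact ⟨g, h.mem _ hg (by rw [orderOf_conj']; exact ho)⟩

theorem TDat.conj_dvd (h : TDat A C n) {x : G} (hx : orderOf x ∣ Nat.card A) : ∃ g : G, g * x * g⁻¹ ∈ A := by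
  by_cases h1 : orderOf x = 1
  · refine ⟨1, ?_⟩
    rw [orderOf_eq_one_iff.1 h1]; simp
  · obtain ⟨r, hr, hrx⟩ := Nat.exists_prime_and_dvd h1
    exact h.conj_odd hr (hrx.trans hx) hrx (Odd.of_dvd_nat h.odd hx)

/-- cyclic groups of equal order inside a cyclic group are equal -/
theorem eq_of_card_eq {G : Type*} [Group G] [Finite G] {A B₁ B₂ : Subgroup G} (hA : IsCyclic A) (h1 : B₁ ≤ A) (h2 : B₂ ≤ A)
    (hB1 : IsCyclic B₁) (h : Nat.card B₁ = Nat.card B₂) : B₁ = B₂ := by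
  obtain ⟨⟨b, hb⟩, hgen⟩ := hB1.exists_generator
  have hb1 : B₁ = Subgroup.zpowers b := by
    apply le_antisymm
    · intro x hx
      obtain ⟨k, hk⟩ := Subgroup.mem_zpowers_iff.1 (hgen ⟨x, hx⟩)
      exact Subgroup.mem_zpowers_iff.2 ⟨k, congrArg Subtype.val hk⟩
    · rw [Subgroup.zpowers_le]; exact hb
  have h3 : B₁.subgroupOf A = B₂.subgroupOf A := by
    apply H24.HalfTrans.cyclic_subgroup_eq
    rw [Nat.card_congr (Subgroup.subgroupOfEquivOfLe h1).toEquiv, Nat.card_congr (Subgroup.subgroupOfEquivOfLe h2).toEquiv, h]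
  ext x
  constructor
  · intro hx
    have : (⟨x, h1 hx⟩ : A) ∈ B₁.subgroupOf A := hx
    rw [h3] at this
    exact this
  · intro hx
    have : (⟨x, h2 hx⟩ : A) ∈ B₂.subgroupOf A := hx
    rw [← h3] at this
    exact this

theorem map_conj_mem {G : Type*} [Group G] {A : Subgroup G} {g x : G} : x ∈ A.map (MulAut.conj g).toMonoidHom ↔ g⁻¹ * x * g ∈ A := by
  constructor
  · rintro ⟨a, ha, rfl⟩
    have : g⁻¹ * ((MulAut.conj g).toMonoidHom a) * g = a := by
      change g⁻¹ * (g * a * g⁻¹) * g = a; group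
    rw [this]; exact ha
  · intro h
    exact ⟨_, h, by change g * (g⁻¹ * x * g) * g⁻¹ = x; group⟩

theorem card_map_conj {G : Type*} [Group G] (A : Subgroup G) (g : G) : Nat.card (A.map (MulAut.conj g).toMonoidHom) = Nat.card A :=
  Subgroup.card_map_of_injective (MulAut.conj g).injective

theorem cyclic_map_conj {G : Type*} [Group G] {A : Subgroup G} (g : G) (h : IsCyclic A) :
    IsCyclic (A.map (MulAut.conj g).toMonoidHom) :=
  isCyclic_of_surjective ((MulAut.conj g).toMonoidHom.subgroupMap A) (MonoidHom.subgroupMap_surjective _ _)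

theorem TDat.exists_conj_le (h : TDat A C n) {B : Subgroup G} (hB : IsCyclic B) (hd : Nat.card B ∣ Nat.card A) :
    ∃ g : G, B.map (MulAut.conj g).toMonoidHom ≤ A := by
  obtain ⟨⟨b, hb⟩, hgen⟩ := hB.exists_generator
  have hb1 : B = Subgroup.zpowers b := by
    apply le_antisymm
    · intro x hx
      obtain ⟨k, hk⟩ := Subgroup.mem_zpowers_iff.1 (hgen ⟨x, hx⟩)
      exact Subgroup.mem_zpowers_iff.2 ⟨k, congrArg Subtype.val hk⟩
    · rw [Subgroup.zpowers_le]; exact hb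
  obtain ⟨g, hg⟩ := h.conj_dvd (x := b) ((order_dvd hb).trans hd)
  refine ⟨g, ?_⟩
  rw [hb1]
  rintro _ ⟨y, hy, rfl⟩
  obtain ⟨k, rfl⟩ := Subgroup.mem_zpowers_iff.1 hy
  have : (MulAut.conj g).toMonoidHom (b ^ k) = (g * b * g⁻¹) ^ k := by
    rw [map_zpow]; rfl
  rw [this]
  exact Subgroup.zpow_mem _ hg k

theorem TDat.cyc_conj (h : TDat A C n) {B₁ B₂ : Subgroup G} (hB1 : IsCyclic B₁) (hB2 : IsCyclic B₂)
    (hd : Nat.card B₁ ∣ Nat.card A) (he : Nat.card B₁ = Nat.card B₂) : ∃ g : G, B₂ = B₁.map (MulAut.conj g).toMonoidHom := by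
  obtain ⟨g1, hg1⟩ := h.exists_conj_le hB1 hd
  obtain ⟨g2, hg2⟩ := h.exists_conj_le hB2 (he ▸ hd)
  have h3 := eq_of_card_eq h.cyc hg1 hg2 (cyclic_map_conj g1 hB1) (by rw [card_map_conj, card_map_conj, he])
  refine ⟨g2⁻¹ * g1, ?_⟩
  ext x
  rw [map_conj_mem]
  have h4 : x ∈ B₂ ↔ g2 * x * g2⁻¹ ∈ B₂.map (MulAut.conj g2).toMonoidHom := by
    rw [map_conj_mem, show g2⁻¹ * (g2 * x * g2⁻¹) * g2 = x by group]
  rw [h4, ← h3, map_conj_mem]
  rw [show g1⁻¹ * (g2 * x * g2⁻¹) * g1 = (g2⁻¹ * g1)⁻¹ * x * (g2⁻¹ * g1) by group]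

/-- if a conjugate of `H` is `A`, centralisers of nontrivial subgroups -/
theorem TDat.cent_sub (h : TDat A C n) {B : Subgroup G} {g : G} (hB : B.map (MulAut.conj g).toMonoidHom ≤ A) (hne : B ≠ ⊥) :
    Subgroup.centralizer (B : Set G) = C.map (MulAut.conj g⁻¹).toMonoidHom := by
  obtain ⟨⟨u, hu⟩, hu1⟩ := Subgroup.ne_bot_iff_exists_ne_one.1 hne
  have hu1' : u ≠ 1 := fun h => hu1 (Subtype.ext h)
  have hmem : ∀ y ∈ B, g * y * g⁻¹ ∈ A := fun y hy => hB ⟨y, hy, rfl⟩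
  ext x
  rw [map_conj_mem, inv_inv]
  constructor
  · intro hx
    rw [← h.cent _ (hmem u hu) (by
      intro h1
      apply hu1'
      have : u = g⁻¹ * (g * u * g⁻¹) * g := by group
      rw [this, h1]; group), Subgroup.mem_centralizer_singleton_iff]
    have := Subgroup.mem_centralizer_iff.1 hx u hu
    calc g * x * g⁻¹ * (g * u * g⁻¹) = g * (x * u) * g⁻¹ := by group
      _ = g * (u * x) * g⁻¹ := by rw [this]
      _ = _ := by group
  · intro hx
    rw [Subgroup.mem_centralizer_iff]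
    intro y hy
    have := h.comm _ hx _ (h.le (hmem y hy))
    calc y * x = g⁻¹ * ((g * y * g⁻¹) * (g * x * g⁻¹)) * g := by group
      _ = g⁻¹ * ((g * x * g⁻¹) * (g * y * g⁻¹)) * g := by rw [this]
      _ = _ := by group

/-- a central element of prime order in a nontrivial `p`-group -/
theorem exists_central {G : Type*} [Group G] [Finite G] {p : ℕ} [hp : Fact p.Prime] {P : Subgroup G} (hP : IsPGroup p P) (hne : P ≠ ⊥) :
    ∃ z ∈ P, orderOf z = p ∧ ∀ y ∈ P, y * z = z * y := by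
  haveI : Nontrivial P := (Subgroup.nontrivial_iff_ne_bot P).2 hne
  have h1 := hP.center_nontrivial
  have h2 : p ∣ Nat.card (Subgroup.center P) := by
    obtain ⟨k, hk⟩ := IsPGroup.iff_card.1 (hP.to_subgroup (Subgroup.center P))
    have h3 : 1 < Nat.card (Subgroup.center P) := Finite.one_lt_card
    rw [hk] at h3 ⊢
    apply dvd_pow_self
    rintro rfl
    simp at h3
  obtain ⟨z, hz⟩ := exists_prime_orderOf_dvd_card' (G := Subgroup.center P) p h2
  refine ⟨((z : P) : G), (z : P).2, by rw [Subgroup.orderOf_coe, Subgroup.orderOf_coe, hz], ?_⟩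
  intro y hy
  exact congrArg Subtype.val (Subgroup.mem_center_iff.1 z.2 ⟨y, hy⟩)

/-- a nontrivial `p`-subgroup lies in a conjugate of the torus -/
theorem TDat.pgroup_conj (h : TDat A C n) {p : ℕ} [hp : Fact p.Prime] (hd : p ∣ Nat.card A) {P : Subgroup G} (hP : IsPGroup p P) :
    ∃ g : G, P.map (MulAut.conj g).toMonoidHom ≤ A := by
  by_cases hne : P = ⊥
  · refine ⟨1, ?_⟩
    rw [hne, Subgroup.map_bot]; exact bot_le
  have hp2 : Odd p := Odd.of_dvd_nat h.odd hd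
  obtain ⟨z, hz, hzp, hzc⟩ := exists_central hP hne
  obtain ⟨g, hg⟩ := h.conj_dvd (x := z) (by rw [hzp]; exact hd)
  refine ⟨g, ?_⟩
  rintro _ ⟨y, hy, rfl⟩
  change g * y * g⁻¹ ∈ A
  apply h.mem
  · rw [← h.cent _ hg (by
      intro h1
      have h2 := orderOf_conj' g z
      rw [h1, orderOf_one, hzp] at h2
      exact hp.out.one_lt.ne h2), Subgroup.mem_centralizer_singleton_iff]
    calc g * y * g⁻¹ * (g * z * g⁻¹) = g * (y * z) * g⁻¹ := by group
      _ = g * (z * y) * g⁻¹ := by rw [hzc y hy]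
      _ = _ := by group
  · rw [orderOf_conj']
    obtain ⟨k, hk⟩ := IsPGroup.iff_orderOf.1 hP ⟨y, hy⟩
    rw [Subgroup.orderOf_mk] at hk
    rw [hk]
    exact hp2.pow

theorem cyclic_of_le {G : Type*} [Group G] {A B : Subgroup G} (hA : IsCyclic A) (h : B ≤ A) : IsCyclic B :=
  isCyclic_of_injective (Subgroup.inclusion h) (Subgroup.inclusion_injective h)

theorem TDat.sylow_cyclic (h : TDat A C n) {p : ℕ} [hp : Fact p.Prime] (hd : p ∣ Nat.card A) {P : Subgroup G} (hP : IsPGroup p P) :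
    IsCyclic P := by
  obtain ⟨g, hg⟩ := h.pgroup_conj hd hP
  have h1 := cyclic_of_le h.cyc hg
  have h2 := cyclic_map_conj g⁻¹ h1
  have h3 : (P.map (MulAut.conj g).toMonoidHom).map (MulAut.conj g⁻¹).toMonoidHom = P := by
    ext x
    rw [map_conj_mem, map_conj_mem, show g⁻¹ * (g⁻¹⁻¹ * x * g⁻¹) * g = x by group]
  rwa [h3] at h2

/-- normaliser of a nontrivial `p`-subgroup -/
theorem TDat.norm_le (h : TDat A C n) {p : ℕ} [hp : Fact p.Prime] (hd : p ∣ Nat.card A) {P : Subgroup G} (hP : IsPGroup p P)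
    (hne : P ≠ ⊥) : ∃ B : Subgroup G, IsCyclic B ∧ Nat.card B = Nat.card A ∧ Subgroup.normalizer (P : Set G) = Subgroup.normalizer (B : Set G) := by
  obtain ⟨g, hg⟩ := h.pgroup_conj hd hP
  refine ⟨A.map (MulAut.conj g⁻¹).toMonoidHom, cyclic_map_conj _ h.cyc, card_map_conj _ _, ?_⟩
  have h1 := h.norm _ hg (by
    intro h1
    exact hne ((Subgroup.map_eq_bot_iff_of_injective _ (MulAut.conj g).injective).1 h1))
  ext x
  have key : ∀ (D : Subgroup G) (k : G), x ∈ Subgroup.normalizer ((D.map (MulAut.conj k).toMonoidHom : Subgroup G) : Set G) ↔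
      k⁻¹ * x * k ∈ Subgroup.normalizer (D : Set G) := by
    intro D k
    rw [Subgroup.mem_normalizer_iff, Subgroup.mem_normalizer_iff]
    constructor
    · intro hx y
      have := hx (k * y * k⁻¹)
      rw [map_conj_mem, map_conj_mem] at this
      rw [show k⁻¹ * (k * y * k⁻¹) * k = y by group, show k⁻¹ * (x * (k * y * k⁻¹) * x⁻¹) * k = k⁻¹ * x * k * y * (k⁻¹ * x * k)⁻¹ by group] at this
      exact this
    · intro hx y
      have := hx (k⁻¹ * y * k)
      rw [map_conj_mem, map_conj_mem]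
      rw [show k⁻¹ * x * k * (k⁻¹ * y * k) * (k⁻¹ * x * k)⁻¹ = k⁻¹ * (x * y * x⁻¹) * k by group] at this
      exact this
  rw [key, inv_inv, ← h1]
  have h2 : P = (P.map (MulAut.conj g).toMonoidHom).map (MulAut.conj g⁻¹).toMonoidHom := by
    ext x
    rw [map_conj_mem, map_conj_mem, show g⁻¹ * (g⁻¹⁻¹ * x * g⁻¹) * g = x by group]
  conv_lhs => rw [h2]
  rw [key, inv_inv]

end general

variable {K : Type*} [Field K] {e : ℕ} [RF K e] [Finite K]

local notation "iv" => (H24.ReeCen.inv : G1 K e)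

theorem half {m : ℕ} (hm : 1 ≤ m) (hn : Nat.card K = 3 ^ (2 * m + 1)) :
    ∃ A : Subgroup (G1 K e), TDat A (T1 K e) (2 * (Nat.card K - 1)) ∧ Nat.card A = (Nat.card K - 1) / 2 := by
  obtain ⟨r, hr1, hr2⟩ := exists_s hn
  have h27 : 3 ^ 3 ≤ Nat.card K := by rw [hn]; exact Nat.pow_le_pow_right (by norm_num) (by omega)
  obtain ⟨⟨g, hgT⟩, hg⟩ := (cyclic_T1 (K := K) (e := e)).exists_generator
  have hgen : ∀ x ∈ T1 K e, ∃ k : ℤ, g ^ k = x := by
    intro x hx
    obtain ⟨k, hk⟩ := Subgroup.mem_zpowers_iff.1 (hg ⟨x, hx⟩)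
    exact ⟨k, congrArg Subtype.val hk⟩
  have hT : T1 K e = Subgroup.zpowers g := by
    apply le_antisymm
    · intro x hx
      exact Subgroup.mem_zpowers_iff.2 (hgen x hx)
    · rw [Subgroup.zpowers_le]; exact hgT
  have hgo : orderOf g = Nat.card K - 1 := by rw [← Nat.card_zpowers, ← hT, card_T1]
  have hg2 : orderOf (g ^ 2) = (Nat.card K - 1) / 2 := by
    rw [orderOf_pow_of_dvd (by norm_num) (by rw [hgo]; omega), hgo]
  have hodd : Odd ((Nat.card K - 1) / 2) := ⟨2 * r, by omega⟩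
  have hAT : Subgroup.zpowers (g ^ 2) ≤ T1 K e := by
    rw [Subgroup.zpowers_le]; exact Subgroup.pow_mem _ hgT 2
  have hcard : Nat.card (Subgroup.zpowers (g ^ 2)) = (Nat.card K - 1) / 2 := by rw [Nat.card_zpowers, hg2]
  have hsq : ∀ u ∈ Subgroup.zpowers (g ^ 2), u ≠ 1 → u * u ≠ 1 := by
    intro u hu hu1 h2
    apply hu1
    apply H24.FourCent.eq_one_of_sq _ h2
    exact Odd.of_dvd_nat (by rw [hcard]; exact hodd) (order_dvd hu)
  have hNT : ∀ A₀ : Subgroup (G1 K e), A₀ ≤ Subgroup.zpowers (g ^ 2) → A₀ ≠ ⊥ → Subgroup.normalizer (A₀ : Set (G1 K e)) = NT K e := by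
    intro A₀ h1 h2
    obtain ⟨⟨u, hu⟩, hu1⟩ := Subgroup.ne_bot_iff_exists_ne_one.1 h2
    have hu1' : u ≠ 1 := fun h => hu1 (Subtype.ext h)
    exact norm_T1 (h1.trans hAT) hu (hsq u (h1 hu) hu1')
  have hne : Subgroup.zpowers (g ^ 2) ≠ ⊥ := by
    intro h1
    have h2 := congrArg (fun H : Subgroup (G1 K e) => Nat.card H) h1
    simp only [Subgroup.card_bot] at h2
    rw [hcard] at h2
    omega
  refine ⟨Subgroup.zpowers (g ^ 2), ⟨Subgroup.isCyclic_zpowers _, hAT, hne, by rw [hcard]; exact hodd, ?_, ?_, ?_, ?_, ?_, ?_⟩, hcard⟩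
  · intro x hx y hy
    exact comm_of_cyclic cyclic_T1 hx hy
  · intro u hu hu1
    exact cent_T1 (hAT hu) (hsq u hu hu1)
  · intro x hx ho
    obtain ⟨k, rfl⟩ := hgen x hx
    obtain ⟨j, hj⟩ := ho
    have h1 : (g ^ k) = ((g ^ k) ^ 2) ^ (j + 1) := by
      rw [← pow_mul, show 2 * (j + 1) = orderOf (g ^ k) + 1 by rw [hj]; ring, pow_succ, pow_orderOf_eq_one, one_mul]
    rw [h1]
    apply Subgroup.pow_mem
    refine Subgroup.mem_zpowers_iff.2 ⟨k, ?_⟩
    rw [← zpow_natCast, ← zpow_natCast, ← _root_.zpow_mul, ← _root_.zpow_mul, mul_comm]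
  · intro A₀ h1 h2
    rw [hNT A₀ h1 h2, hNT _ le_rfl hne]
  · rw [hNT _ le_rfl hne, card_NT]
  · intro p hp hpd x hx
    obtain ⟨c, hc⟩ := exists_pow_prime hp hx
    have hp2 : p ≠ 2 := by
      rintro rfl
      rw [hcard] at hpd
      obtain ⟨j, hj⟩ := hodd
      omega
    obtain ⟨-, y, hy⟩ := cent_h hn hp hp2 (by
      rw [hcard] at hpd
      exact hpd.trans (Nat.div_dvd_of_dvd (by omega))) hc
    exact ⟨y, hy x (Commute.self_pow x c).eq.symm⟩

theorem quarter {m : ℕ} (hm : 1 ≤ m) (hn : Nat.card K = 3 ^ (2 * m + 1)) :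
    ∃ A C : Subgroup (G1 K e), TDat A C (6 * (Nat.card K + 1)) ∧ Nat.card A = (Nat.card K + 1) / 4 ∧ Nat.card C = Nat.card K + 1 ∧
      (∀ x ∈ C, orderOf x ∣ (Nat.card K + 1) / 2) ∧ (∃ x ∈ C, orderOf x = (Nat.card K + 1) / 2) := by
  obtain ⟨c, b, h⟩ := exists_NS (K := K) (e := e)
  obtain ⟨k, hk, -⟩ := exists_s hn
  have h27 : 3 ^ 3 ≤ Nat.card K := by rw [hn]; exact Nat.pow_le_pow_right (by norm_num) (by omega)
  have h4 : (Nat.card K + 1) / 4 = 2 * k + 1 := by omega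
  have h2 : (Nat.card K + 1) / 2 = 2 * (2 * k + 1) := by omega
  have hcard := h.card_AA (e := e) hk
  refine ⟨AA K e c, DD K e c, ⟨Subgroup.isCyclic_zpowers _, NS.AA_le, ?_, by rw [hcard]; exact ⟨k, rfl⟩, (h.main hm hn).2.1, ?_, ?_, ?_,
    h.card_norm hm hn, ?_⟩, by rw [hcard, h4], (h.main hm hn).1, ?_, ?_⟩
  · intro h1
    have h2 := congrArg (fun H : Subgroup (G1 K e) => Nat.card H) h1
    simp only [Subgroup.card_bot] at h2
    rw [hcard] at h2
    omega
  · intro u hu hu1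
    exact h.cent_AA hm hn hu hu1
  · intro x hx ho
    exact h.mem_AA hm hn hx ho
  · intro A₀ a1 a2
    exact h.norm_eq hm hn a1 a2
  · intro p hp hpd x hx
    rw [hcard] at hpd
    exact conj_DD hm hn h hp (by rintro rfl; omega) (by rw [hk]; exact hpd.mul_left 4) hx
  · intro x hx
    rw [h2]
    exact order_DD hm hn h hk hx
  · refine ⟨rho c, ?_, ?_⟩
    · rw [DD, Subgroup.mem_centralizer_singleton_iff]
      have : al K e c = (rho c : G1 K e) ^ 2 := by rw [← map_pow]; rfl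
      rw [this]
      exact (Commute.self_pow _ _).eq
    · rw [h2, h.order_rho (m := 0) hk]

theorem tor_dat {m : ℕ} (hn : Nat.card K = 3 ^ (2 * m + 1)) {U : Subgroup (G1 K e)} (hU : Tor U)
    (hN : Nat.card (Subgroup.normalizer (U : Set (G1 K e))) = 6 * Nat.card U) : TDat U U (6 * Nat.card U) := by
  have hodd : Odd (Nat.card U) := by
    rw [← Nat.not_even_iff_odd, even_iff_two_dvd]
    intro h
    exact MQ_odd _ (hU.dvd_of_prime hn Nat.prime_two h)
  refine ⟨hU.isCyclic hn, le_rfl, ?_, hodd, fun x hx y hy => hU.comm hn hx hy, fun u hu hu1 => hU.centralizer hn hu hu1,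
    fun x hx _ => hx, ?_, hN, ?_⟩
  · intro h1
    have h2 := congrArg (fun H : Subgroup (G1 K e) => Nat.card H) h1
    simp only [Subgroup.card_bot] at h2
    have := hU.seven_le hn
    omega
  · intro A₀ h1 h2
    obtain ⟨⟨u, hu⟩, hu1⟩ := Subgroup.ne_bot_iff_exists_ne_one.1 h2
    have hu1' : u ≠ 1 := fun h => hu1 (Subtype.ext h)
    apply le_antisymm
    · intro g hg
      exact hU.mem_norm hn (h1 hu) hu1' (h1 ((Subgroup.mem_normalizer_iff.1 hg u).1 hu))
    · intro g hg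
      apply Subgroup.mem_normalizer_fintype
      intro x hx
      have h3 := mem_zpowers_of_cyclic (hU.isCyclic hn) (h1 hx) ((Subgroup.mem_normalizer_iff.1 hg x).1 (h1 hx)) (orderOf_conj' g x)
      exact (Subgroup.zpowers_le.2 hx) h3
  · intro p hp hpd x hx
    exact (hU.mem_cl hn hp hpd hx).2

/-- the four classes of tori -/
theorem tori4 {m : ℕ} (hm : 1 ≤ m) (hn : Nat.card K = 3 ^ (2 * m + 1)) :
    ∃ A1 A2 C2 A3 A4 : Subgroup (G1 K e), TDat A1 (T1 K e) (2 * (Nat.card K - 1)) ∧ TDat A2 C2 (6 * (Nat.card K + 1)) ∧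
      TDat A3 A3 (6 * (Nat.card K - 3 ^ (m + 1) + 1)) ∧ TDat A4 A4 (6 * (Nat.card K + 3 ^ (m + 1) + 1)) ∧
      Nat.card A1 = (Nat.card K - 1) / 2 ∧ Nat.card A2 = (Nat.card K + 1) / 4 ∧ Nat.card A3 = Nat.card K - 3 ^ (m + 1) + 1 ∧
      Nat.card A4 = Nat.card K + 3 ^ (m + 1) + 1 ∧ Nat.card C2 = Nat.card K + 1 ∧
      (∀ x ∈ C2, orderOf x ∣ (Nat.card K + 1) / 2) ∧ (∃ x ∈ C2, orderOf x = (Nat.card K + 1) / 2) ∧
      MQ (Nat.card K) = Nat.card A3 * Nat.card A4 := by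
  obtain ⟨A1, h1, c1⟩ := half (K := K) (e := e) hm hn
  obtain ⟨A2, C2, h2, c2, c2', o2, o2'⟩ := quarter (K := K) (e := e) hm hn
  obtain ⟨U, V, hU, hV, nU, nV, cU, cV⟩ := tori (K := K) (e := e) hm hn
  have hle : 3 ^ (m + 1) ≤ Nat.card K := by rw [hn]; exact Nat.pow_le_pow_right (by norm_num) (by omega)
  refine ⟨A1, A2, C2, V, U, h1, h2, by rw [← cV]; exact tor_dat hn hV nV, by rw [← cU]; exact tor_dat hn hU nU, c1, c2, cV, cU, c2', o2, o2', ?_⟩
  rw [cU, cV]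
  have h3 := MQ_add (Nat.card K)
  obtain ⟨t, ht⟩ := Nat.exists_eq_add_of_le hle
  have h4 : Nat.card K - 3 ^ (m + 1) = t := by omega
  have h5 : (3 ^ (m + 1)) ^ 2 = 3 * Nat.card K := by
    rw [hn, ← pow_mul, show (m + 1) * 2 = (2 * m + 1) + 1 by ring, pow_succ]; ring
  rw [h4]
  rw [ht] at h3 h5 ⊢
  generalize 3 ^ (m + 1) = w at *
  nlinarith

end H24.ReeDat
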