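/-
H24: the small Ree groups: normalisers of solvable local subgroups.
-/
import Cfsg.Agent.Lib.H24.ReeDat
set_option autoImplicit false
set_option linter.unusedSimpArgs false
set_option linter.unusedVariables false
set_option linter.unusedSectionVars false
namespace H24.ReeSolv

open Cfsg.Lie Matrix H24.ReeBlk H24.ReeAd H24.ReeAl H24.ReeGood H24.ReePts H24.ReeGrp
open H24.ReeAct H24.ReeStr H24.ReeInt H24.ReeUni H24.ReeSub H24.ReeSyl H24.ReeSyl3 H24.ReeCen H24.ReeSyl2 H24.ReeInvo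
open H24.ReeFour H24.ReeTor H24.ReeCnt H24.ReeDat
open scoped MatrixGroups Pointwise commutatorElement

section general

theorem exists_normal_pgroup {S : Type*} [Group S] [Finite S] (hS : Group.IsSolvable S) [Nontrivial S] :
    ∃ (p : ℕ) (_ : Fact p.Prime) (N : Subgroup S), N.Normal ∧ N ≠ ⊥ ∧ IsPGroup p N := by
  classical
  obtain ⟨n0, hn0⟩ := hS.solvable
  have hex : ∃ n, derivedSeries S n = ⊥ := ⟨n0, hn0⟩
  set n := Nat.find hex with hn
  have h1 : derivedSeries S n = ⊥ := Nat.find_spec hex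
  have h2 : n ≠ 0 := by
    intro h
    rw [h, derivedSeries_zero] at h1
    exact top_ne_bot h1
  obtain ⟨k, hk⟩ := Nat.exists_eq_succ_of_ne_zero h2
  have h3 : derivedSeries S k ≠ ⊥ := Nat.find_min hex (by omega)
  have hab : ∀ x ∈ derivedSeries S k, ∀ y ∈ derivedSeries S k, x * y = y * x := by
    intro x hx y hy
    have h4 : ⁅x, y⁆ ∈ derivedSeries S (k + 1) := by
      rw [derivedSeries_succ]
      exact Subgroup.commutator_mem_commutator hx hy
    rw [show k + 1 = n from hk.symm, h1, Subgroup.mem_bot] at h4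
    exact commutatorElement_eq_one_iff_mul_comm.1 h4
  set D := derivedSeries S k with hD
  have hDn : D.Normal := inferInstance
  obtain ⟨⟨u, hu⟩, hu1⟩ := Subgroup.ne_bot_iff_exists_ne_one.1 h3
  have hu1' : u ≠ 1 := fun h => hu1 (Subtype.ext h)
  have h5 : orderOf u ≠ 1 := fun h => hu1' (orderOf_eq_one_iff.1 h)
  obtain ⟨p, hp, hpu⟩ := Nat.exists_prime_and_dvd h5
  haveI : Fact p.Prime := ⟨hp⟩
  obtain ⟨c, hc⟩ := exists_pow_prime hp hpu
  let N : Subgroup S :=
    { carrier := {x | x ∈ D ∧ x ^ p = 1}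
      one_mem' := ⟨one_mem _, one_pow _⟩
      mul_mem' := by
        rintro a b ⟨ha, ha'⟩ ⟨hb, hb'⟩
        refine ⟨mul_mem ha hb, ?_⟩
        rw [(show Commute a b from hab a ha b hb).mul_pow, ha', hb', one_mul]
      inv_mem' := by
        rintro a ⟨ha, ha'⟩
        exact ⟨inv_mem ha, by rw [inv_pow, ha', inv_one]⟩ }
  refine ⟨p, ⟨hp⟩, N, ⟨?_⟩, ?_, ?_⟩
  · rintro x ⟨hx, hx'⟩ g
    exact ⟨hDn.conj_mem x hx g, by rw [conj_pow, hx', mul_one, mul_inv_cancel]⟩
  · intro h
    have h6 : u ^ c ∈ N := ⟨Subgroup.pow_mem _ hu c, by rw [← hc, pow_orderOf_eq_one]⟩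
    rw [h, Subgroup.mem_bot] at h6
    rw [h6, orderOf_one] at hc
    exact hp.one_lt.ne hc
  · rintro ⟨x, hx, hx'⟩
    exact ⟨1, Subtype.ext (by rw [pow_one]; exact hx')⟩

theorem le_norm_map {G : Type*} [Group G] {S : Subgroup G} {N : Subgroup S} (hN : N.Normal) :
    S ≤ Subgroup.normalizer ((N.map S.subtype : Subgroup G) : Set G) := by
  intro s hs
  rw [Subgroup.mem_normalizer_iff]
  have key : ∀ t ∈ S, ∀ y, y ∈ N.map S.subtype → t * y * t⁻¹ ∈ N.map S.subtype := by
    rintro t ht _ ⟨y, hy, rfl⟩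
    exact ⟨⟨t, ht⟩ * y * ⟨t, ht⟩⁻¹, hN.conj_mem y hy _, rfl⟩
  intro y
  constructor
  · exact key s hs y
  · intro h
    have h2 := key s⁻¹ (inv_mem hs) _ h
    rwa [show s⁻¹ * (s * y * s⁻¹) * s⁻¹⁻¹ = y by group] at h2

/-- a solvable group `S` has a nontrivial normal `p`-subgroup, `p` odd, or a normal `2`-subgroup of order at least four, or has order at
most two -/
theorem solv_cases {G : Type*} [Group G] [Finite G] {S : Subgroup G} (hS : Group.IsSolvable S) :
    Nat.card S ≤ 2 ∨ (∃ (p : ℕ) (_ : Fact p.Prime) (N : Subgroup G), p ≠ 2 ∧ N ≠ ⊥ ∧ IsPGroup p N ∧ S ≤ Subgroup.normalizer (N : Set G)) ∨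
      ∃ N : Subgroup G, 4 ≤ Nat.card N ∧ IsPGroup 2 N ∧ S ≤ Subgroup.normalizer (N : Set G) := by
  classical
  have hodd : ∀ (p : ℕ) (_ : Fact p.Prime) (N : Subgroup S), N.Normal → N ≠ ⊥ → IsPGroup p N → p ≠ 2 →
      (∃ (p : ℕ) (_ : Fact p.Prime) (N : Subgroup G), p ≠ 2 ∧ N ≠ ⊥ ∧ IsPGroup p N ∧ S ≤ Subgroup.normalizer (N : Set G)) := by
    intro p hp N hN hne hNp hp2
    refine ⟨p, hp, N.map S.subtype, hp2, ?_, hNp.map _, le_norm_map hN⟩
    intro h
    exact hne ((Subgroup.map_eq_bot_iff_of_injective _ S.subtype_injective).1 h)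
  have heven : ∀ (N : Subgroup S), N.Normal → 4 ≤ Nat.card N → IsPGroup 2 N →
      (∃ N : Subgroup G, 4 ≤ Nat.card N ∧ IsPGroup 2 N ∧ S ≤ Subgroup.normalizer (N : Set G)) := by
    intro N hN hc hNp
    exact ⟨N.map S.subtype, by rw [Subgroup.card_map_of_injective S.subtype_injective]; exact hc, hNp.map _, le_norm_map hN⟩
  by_cases hle : Nat.card S ≤ 2
  · exact Or.inl hle
  right
  push Not at hle
  haveI : Nontrivial S := Finite.one_lt_card_iff_nontrivial.1 (by omega)
  obtain ⟨p, hp, N, hN, hne, hNp⟩ := exists_normal_pgroup hS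
  by_cases hp2 : p ≠ 2
  · exact Or.inl (hodd p hp N hN hne hNp hp2)
  push Not at hp2
  subst hp2
  by_cases h4 : 4 ≤ Nat.card N
  · exact Or.inr (heven N hN h4 hNp)
  have hN2 : Nat.card N = 2 := by
    obtain ⟨k, hk⟩ := IsPGroup.iff_card.1 hNp
    have h1 : Nat.card N ≠ 1 := fun h => hne (Subgroup.card_eq_one.1 h)
    rcases k with _ | _ | k
    · rw [pow_zero] at hk; exact absurd hk h1
    · simpa using hk
    · exfalso
      apply h4
      rw [hk, pow_succ, pow_succ]
      have : 0 < 2 ^ k := by positivity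
      omega
  haveI := hN
  have hQ : Nat.card (S ⧸ N) ≠ 1 := by
    intro h
    have h1 := Subgroup.card_eq_card_quotient_mul_card_subgroup N
    rw [h, hN2] at h1
    omega
  haveI : Nontrivial (S ⧸ N) := by
    rw [← Finite.one_lt_card_iff_nontrivial]
    have : 0 < Nat.card (S ⧸ N) := Nat.card_pos
    omega
  have hSQ : Group.IsSolvable (S ⧸ N) := solvable_of_surjective (QuotientGroup.mk'_surjective N)
  obtain ⟨r, hr, M, hM, hMne, hMr⟩ := exists_normal_pgroup hSQ
  set M' := M.comap (QuotientGroup.mk' N) with hM'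
  have hM'n : M'.Normal := hM.comap _
  have hNM : N ≤ M' := by
    intro x hx
    rw [hM', Subgroup.mem_comap, QuotientGroup.mk'_apply, (QuotientGroup.eq_one_iff x).2 hx]
    exact one_mem _
  have hcardM : Nat.card M' = Nat.card M * 2 := by
    have h1 : M.index = M'.index := (Subgroup.index_comap_of_surjective M (QuotientGroup.mk'_surjective N)).symm
    have h2 := M.card_mul_index
    have h3 := M'.card_mul_index
    have h5 := Subgroup.card_eq_card_quotient_mul_card_subgroup N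
    rw [hN2, ← h2] at h5
    have hpos : 0 < M.index := Nat.pos_of_ne_zero M.index_ne_zero_of_finite
    rw [← h1, h5] at h3
    apply Nat.eq_of_mul_eq_mul_right hpos
    rw [h3]; ring
  obtain ⟨k, hk⟩ := IsPGroup.iff_card.1 hMr
  have hk0 : k ≠ 0 := by
    rintro rfl
    rw [pow_zero] at hk
    exact hMne (Subgroup.card_eq_one.1 hk)
  by_cases hr2 : r = 2
  · subst hr2
    right
    refine heven M' hM'n ?_ (IsPGroup.of_card (n := k + 1) (by rw [hcardM, hk, pow_succ]))
    rw [hcardM, hk]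
    obtain ⟨j, rfl⟩ := Nat.exists_eq_succ_of_ne_zero hk0
    rw [Nat.succ_eq_add_one, pow_succ]
    have : 0 < 2 ^ j := by positivity
    omega
  · left
    obtain ⟨R⟩ : Nonempty (Sylow r M') := inferInstance
    have hRc : Nat.card R = Nat.card M := by
      rw [R.card_eq_multiplicity, hcardM, hk]
      congr 1
      rw [Nat.factorization_mul (pow_ne_zero _ hr.out.ne_zero) (by norm_num), Finsupp.add_apply, Nat.Prime.factorization_pow hr.out,
        Finsupp.single_eq_same, Nat.Prime.factorization Nat.prime_two, Finsupp.single_apply, if_neg (Ne.symm hr2), add_zero]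
    have hRi : (R : Subgroup M').index = 2 := by
      have h1 := (R : Subgroup M').card_mul_index
      rw [hRc, hcardM] at h1
      exact Nat.eq_of_mul_eq_mul_left Nat.card_pos h1
    have hRn : (R : Subgroup M').Normal := Subgroup.normal_of_index_eq_two hRi
    have hRch : (R : Subgroup M').Characteristic := Sylow.characteristic_of_normal R hRn
    have hRS : ((R : Subgroup M').map M'.subtype).Normal := ConjAct.normal_of_characteristic_of_normal
    refine hodd r hr _ hRS ?_ (R.isPGroup'.map _) hr2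
    intro h
    rw [Subgroup.map_eq_bot_iff_of_injective _ M'.subtype_injective] at h
    rw [h, Subgroup.card_bot] at hRc
    exact hMne (Subgroup.card_eq_one.1 hRc.symm)

end general

variable {K : Type*} [Field K] {e : ℕ} [RF K e] [Finite K]

local notation "iv" => (H24.ReeCen.inv : G1 K e)

theorem three_norm {m : ℕ} (hn : Nat.card K = 3 ^ m) {N : Subgroup (G1 K e)} (hN : IsPGroup 3 N) (hne : N ≠ ⊥) :
    ∃ P : Sylow 3 (G1 K e), Subgroup.normalizer (N : Set (G1 K e)) ≤ Subgroup.normalizer ((P : Subgroup (G1 K e)) : Set (G1 K e)) := by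
  obtain ⟨P, hP⟩ := hN.exists_le_sylow
  refine ⟨P, fun g hg => ?_⟩
  by_cases h : g • P = P
  · rw [Sylow.smul_eq_iff_mem_normalizer] at h
    exact h
  · exfalso
    have h1 := ti hn (g • P) P h
    obtain ⟨⟨u, hu⟩, hu1⟩ := Subgroup.ne_bot_iff_exists_ne_one.1 hne
    have hu1' : u ≠ 1 := fun h => hu1 (Subtype.ext h)
    have h2 : u ∈ ((g • P : Sylow 3 (G1 K e)) : Subgroup (G1 K e)) ⊓ (P : Subgroup (G1 K e)) := by
      refine ⟨?_, hP hu⟩
      rw [Sylow.coe_subgroup_smul]
      change u ∈ (MulAut.conj g • (P : Subgroup (G1 K e)))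
      rw [Subgroup.mem_pointwise_smul_iff_inv_smul_mem]
      apply hP
      have h3 := (Subgroup.mem_normalizer_iff.1 (inv_mem hg) u).1 hu
      exact h3
    rw [h1, Subgroup.mem_bot] at h2
    exact hu1' h2

variable {c b : SL(2, K)}

theorem four_norm {m : ℕ} (hm : 1 ≤ m) (hn : Nat.card K = 3 ^ (2 * m + 1)) {V : Subgroup (G1 K e)} (hV : Nat.card V = 4) :
    ∃ B : Subgroup (G1 K e), IsCyclic B ∧ Nat.card B = (Nat.card K + 1) / 4 ∧
      Subgroup.normalizer (V : Set (G1 K e)) ≤ Subgroup.normalizer (B : Set (G1 K e)) := by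
  obtain ⟨c, b, h⟩ := exists_NS (K := K) (e := e)
  obtain ⟨s', hs', -⟩ := exists_s hn
  obtain ⟨s, hs⟩ : ∃ s, Nat.card K + 1 = 4 * s := ⟨_, hs'⟩
  have h27 : 3 ^ 3 ≤ Nat.card K := by rw [hn]; exact Nat.pow_le_pow_right (by norm_num) (by omega)
  have hsq : ∀ x ∈ V, x * x = 1 := by
    intro x hx
    have h1 := order_dvd hx
    rw [hV] at h1
    obtain ⟨k, -, hk⟩ := (Nat.dvd_prime_pow Nat.prime_two).1 (show orderOf x ∣ 2 ^ 2 by norm_num; exact h1)
    exact two_elem_sq hn hk
  have hVne : V ≠ ⊥ := by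
    rintro rfl
    rw [Subgroup.card_bot] at hV; omega
  obtain ⟨⟨a, ha⟩, ha1⟩ := Subgroup.ne_bot_iff_exists_ne_one.1 hVne
  have ha1' : a ≠ 1 := fun h => ha1 (Subtype.ext h)
  obtain ⟨g1, hg1⟩ := invo_conj hn (hsq a ha) ha1'
  -- first conjugation
  set V1 := V.map (MulAut.conj g1).toMonoidHom with hV1
  have hV1c : Nat.card V1 = 4 := by rw [hV1, card_map_conj, hV]
  have hiv : iv ∈ V1 := ⟨a, ha, hg1⟩
  have hsq1 : ∀ x ∈ V1, x * x = 1 := by
    rintro _ ⟨y, hy, rfl⟩
    rw [← map_mul, hsq y hy, map_one]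
  have hcomm1 : ∀ x ∈ V1, ∀ y ∈ V1, x * y = y * x := by
    intro x hx y hy
    rw [← inv_eq_of_mul_eq_one_left (hsq1 _ (mul_mem hx hy)), _root_.mul_inv_rev, inv_eq_of_mul_eq_one_left (hsq1 _ hx),
      inv_eq_of_mul_eq_one_left (hsq1 _ hy)]
  obtain ⟨t, htV, ht1, hti⟩ : ∃ t ∈ V1, t ≠ 1 ∧ t ≠ iv := by
    by_contra hcon
    push Not at hcon
    have h1 : (V1 : Set (G1 K e)) ⊆ {1, iv} := by
      intro x hx
      by_cases hx1 : x = 1
      · exact Or.inl hx1
      · exact Or.inr (hcon x hx hx1)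
    have h2 := Set.ncard_le_ncard h1
    have h3 : (V1 : Set (G1 K e)).ncard = 4 := hV1c
    have h4 := Set.ncard_insert_le (1 : G1 K e) {iv}
    rw [Set.ncard_singleton] at h4
    omega
  obtain ⟨M, hM⟩ := cent (hcomm1 _ hiv _ htV)
  have hMV : (rho M : G1 K e) ∈ V1 := by
    rcases hM with hM | hM
    · rw [← hM]; exact htV
    · have : (rho M : G1 K e) = iv * t := by rw [hM, ← mul_assoc, inv_sq, one_mul]
      rw [this]; exact mul_mem hiv htV
  have hM1 : (rho M : G1 K e) ≠ 1 := by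
    intro h1
    rcases hM with hM | hM
    · exact ht1 (hM.trans h1)
    · rw [h1, mul_one] at hM; exact hti hM
  have hMM : M * M = -1 := by
    have h1 : (rho (M * M) : G1 K e) = 1 := by rw [map_mul]; exact hsq1 _ hMV
    rcases rho_ker h1 with h2 | h2
    · exfalso
      rcases H58.SL2Prod.eq_one_or_neg_one_of_sq (two_ne' (K := K) (e := e)) h2 with h3 | h3
      · exact hM1 (by rw [h3, map_one])
      · exact hM1 (by rw [h3, rho_neg_one])
    · exact h2
  have hcs : c ^ s * c ^ s = -1 := by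
    have h1 : c ^ s * c ^ s * (c ^ s * c ^ s) = 1 := by
      rw [← pow_add, ← pow_add, show s + s + (s + s) = Nat.card K + 1 by omega, ← h.ord, pow_orderOf_eq_one]
    rcases H58.SL2Prod.eq_one_or_neg_one_of_sq (two_ne' (K := K) (e := e)) h1 with h3 | h3
    · exfalso
      rw [← pow_add] at h3
      have h4 := orderOf_dvd_of_pow_eq_one h3
      rw [h.ord] at h4
      have := Nat.le_of_dvd (by omega) h4
      omega
    · exact h3
  obtain ⟨N, hN⟩ := isConj_iff.1 (H58.SL2Prod.isConj_of_sq (two_ne' (K := K) (e := e)) hMM hcs)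
  -- second conjugation
  set V2 := V1.map (MulAut.conj (rho N : G1 K e)).toMonoidHom with hV2
  have hV2c : Nat.card V2 = 4 := by rw [hV2, card_map_conj, hV1c]
  have hiv2 : iv ∈ V2 := by
    refine ⟨iv, hiv, ?_⟩
    change (rho N : G1 K e) * iv * (rho N)⁻¹ = iv
    rw [← rho_comm, mul_inv_cancel_right]
  obtain ⟨t1, t2, t3⟩ := h.t0 (e := e) (m := 0) hs
  have ht2 : (rho c : G1 K e) ^ s ∈ V2 := by
    refine ⟨rho M, hMV, ?_⟩
    change (rho N : G1 K e) * rho M * (rho N)⁻¹ = (rho c : G1 K e) ^ s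
    rw [← map_inv, ← map_mul, ← map_mul, hN, map_pow]
  have hti2 : (rho c : G1 K e) ^ s ≠ iv := by
    intro h1
    have h3 : (rho (c ^ s) : G1 K e) = iv := by rw [map_pow]; exact h1
    -- iv is not in the image: it would centralise everything
    have h4 : ∀ X : SL(2, K), X * c ^ s = c ^ s * X ∨ X * c ^ s = -(c ^ s * X) := by
      intro X
      apply sign_of_comm (e := e)
      rw [h3]; exact (rho_comm X).symm
    have hcard := h.ncard_V (e := e) hm hn
    have hsub : {x : G1 K e | x ∈ DD K e c ∧ x * x = 1 ∧ x ≠ 1} ⊆ {iv} := by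
      rintro x ⟨x1, x2, x3⟩
      rcases h.sq_one hm hn hs x1 x2 with h5 | h5 | h5 | h5
      · exact absurd h5 x3
      · rw [h5, h1]; rfl
      · exact h5
      · exfalso; apply x3; rw [h5, h1, inv_sq]
    have := Set.ncard_le_ncard hsub
    rw [hcard, Set.ncard_singleton] at this
    omega
  have hVD : V2 ≤ DD K e c := by
    have h1 : V2 ⊓ DD K e c = V2 := by
      apply Subgroup.eq_of_le_of_card_ge inf_le_left
      have h2 : Nat.card ↥(V2 ⊓ DD K e c) ∣ 4 := by
        rw [← hV2c]; exact Subgroup.card_dvd_of_le inf_le_left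
      have h3 : ({1, iv, (rho c : G1 K e) ^ s} : Set (G1 K e)) ⊆ ((V2 ⊓ DD K e c : Subgroup (G1 K e)) : Set (G1 K e)) := by
        rintro x (rfl | rfl | rfl)
        · exact one_mem _
        · exact ⟨hiv2, NS.iv_mem h⟩
        · exact ⟨ht2, t3⟩
      have h4 := Set.ncard_le_ncard h3
      have h5 : ({1, iv, (rho c : G1 K e) ^ s} : Set (G1 K e)).ncard = 3 := by
        rw [Set.ncard_eq_three]
        exact ⟨_, _, _, Ne.symm inv_ne, Ne.symm t2, Ne.symm hti2, rfl⟩
      rw [h5] at h4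
      have h6 : ((V2 ⊓ DD K e c : Subgroup (G1 K e)) : Set (G1 K e)).ncard = Nat.card ↥(V2 ⊓ DD K e c) := rfl
      rw [h6] at h4
      rw [hV2c]
      have := Nat.le_of_dvd (by norm_num) h2
      interval_cases (Nat.card ↥(V2 ⊓ DD K e c))
      · norm_num at h2
      · exact le_rfl
    rw [← h1]; exact inf_le_right
  have halA : al K e c ∈ AA K e c := Subgroup.mem_zpowers _
  have hodd := h.odd_AA hn halA
  have hal1 : al K e c ≠ 1 := by
    intro h1
    have h2 := h.order_al (e := e) hs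
    rw [h1, orderOf_one] at h2
    omega
  -- the normaliser of V2
  have key : ∀ n ∈ Subgroup.normalizer (V2 : Set (G1 K e)), n ∈ Subgroup.normalizer (AA K e c : Set (G1 K e)) := by
    intro n hnV
    apply h.mem_norm hm hn halA hal1
    have hcm : ∀ v ∈ V2, v * (n * al K e c * n⁻¹) = (n * al K e c * n⁻¹) * v := by
      intro v hv
      have h1 := (Subgroup.mem_normalizer_iff.1 (inv_mem hnV) v).1 hv
      have h2 := (h.main hm hn).2.1 _ (hVD h1) _ (NS.al_mem)
      calc v * (n * al K e c * n⁻¹) = n * ((n⁻¹ * v * n⁻¹⁻¹) * al K e c) * n⁻¹ := by group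
        _ = n * (al K e c * (n⁻¹ * v * n⁻¹⁻¹)) * n⁻¹ := by rw [h2]
        _ = _ := by group
    set y := n * al K e c * n⁻¹ with hy
    have hyo : Odd (orderOf y) := by rw [hy, orderOf_conj']; exact hodd
    obtain ⟨X, hX1, hX2⟩ := exists_lift (hcm _ hiv2) hyo
    have h1 := hcm _ ht2
    rw [hX1, ← map_pow] at h1
    have hXc : X * c ^ s = c ^ s * X := by
      rcases sign_of_comm h1.symm with h2 | h2
      · exact h2
      · exfalso
        have h3 : c ^ s * X * (c ^ s)⁻¹ = -X := by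
          have : c ^ s * X = -(X * c ^ s) := by rw [h2, neg_neg]
          rw [this, neg_mul, mul_inv_cancel_right]
        have h4 : c ^ s * X ^ orderOf y * (c ^ s)⁻¹ = -1 := by
          rw [← conj_pow, h3, hyo.neg_pow, hX2]
        rw [hX2, mul_one, mul_inv_cancel] at h4
        exact H58.SL2Prod.neg_one_ne_one (two_ne' (K := K) (e := e)) h4.symm
    have hsc : ¬ H43.GL2Basic.IsScal ((c ^ s : SL(2, K)) : Matrix (Fin 2) (Fin 2) K) := by
      haveI : Fintype K := Fintype.ofFinite K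
      intro h5
      rcases (H43.SLTorus.isScal_iff' (c ^ s)).1 h5 with h6 | h6
      · rw [h6, one_mul] at hcs
        exact H58.SL2Prod.neg_one_ne_one (two_ne' (K := K) (e := e)) hcs.symm
      · rw [h6, neg_mul_neg, one_mul] at hcs
        exact H58.SL2Prod.neg_one_ne_one (two_ne' (K := K) (e := e)) hcs.symm
    have hXcc : X * c = c * X := by
      have hx' : ((c ^ s : SL(2, K)) : Matrix (Fin 2) (Fin 2) K) * (X : Matrix (Fin 2) (Fin 2) K) = X * ((c ^ s : SL(2, K)) : Matrix (Fin 2) (Fin 2) K) := (congrArg Subtype.val hXc).symm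
      have hy' : ((c ^ s : SL(2, K)) : Matrix (Fin 2) (Fin 2) K) * (c : Matrix (Fin 2) (Fin 2) K) = c * ((c ^ s : SL(2, K)) : Matrix (Fin 2) (Fin 2) K) := congrArg Subtype.val (Commute.self_pow c s).eq.symm
      obtain ⟨a, b, hab⟩ := (H43.GL2Basic.commute_iff hsc _).1 hx'
      obtain ⟨a', d', hcd⟩ := (H43.GL2Basic.commute_iff hsc _).1 hy'
      apply Subtype.ext
      change (X : Matrix (Fin 2) (Fin 2) K) * (c : Matrix (Fin 2) (Fin 2) K) = c * X
      rw [hab, hcd]
      simp only [add_mul, mul_add, smul_mul_smul_comm, one_mul, mul_one, mul_comm]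
      abel
    apply h.mem_AA hm hn _ hyo
    rw [DD, Subgroup.mem_centralizer_singleton_iff, hX1]
    have : al K e c = rho (c ^ 2) := rfl
    rw [this, ← map_mul, ← map_mul]
    congr 1
    exact ((show Commute X c from hXcc).pow_right 2).eq
  refine ⟨(AA K e c).map (MulAut.conj ((rho N : G1 K e) * g1)⁻¹).toMonoidHom, cyclic_map_conj _ (Subgroup.isCyclic_zpowers _), ?_, ?_⟩
  · rw [card_map_conj, h.card_AA hs]; omega
  · intro n hnV
    have h1 : (rho N : G1 K e) * g1 * n * ((rho N : G1 K e) * g1)⁻¹ ∈ Subgroup.normalizer (AA K e c : Set (G1 K e)) := by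
      apply key
      rw [Subgroup.mem_normalizer_iff] at hnV ⊢
      intro y
      rw [hV2, map_conj_mem, map_conj_mem, hV1, map_conj_mem, map_conj_mem]
      have := hnV (g1⁻¹ * ((rho N)⁻¹ * y * rho N) * g1)
      rw [this]
      have e1 : n * (g1⁻¹ * ((rho N : G1 K e)⁻¹ * y * rho N) * g1) * n⁻¹ =
        g1⁻¹ * ((rho N)⁻¹ * ((rho N : G1 K e) * g1 * n * ((rho N : G1 K e) * g1)⁻¹ * y * ((rho N : G1 K e) * g1 * n * ((rho N : G1 K e) * g1)⁻¹)⁻¹) * rho N) * g1 := by group
      rw [e1]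
    rw [Subgroup.mem_normalizer_iff] at h1 ⊢
    intro y
    rw [map_conj_mem, map_conj_mem, inv_inv]
    rw [h1]
    have e1 : (rho N : G1 K e) * g1 * n * ((rho N : G1 K e) * g1)⁻¹ * ((rho N : G1 K e) * g1 * y * ((rho N : G1 K e) * g1)⁻¹) *
      ((rho N : G1 K e) * g1 * n * ((rho N : G1 K e) * g1)⁻¹)⁻¹ = (rho N : G1 K e) * g1 * (n * y * n⁻¹) * ((rho N : G1 K e) * g1)⁻¹ := by group
    rw [e1]

end H24.ReeSolv
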