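import Mathlib

/-! Context for M. Hall's theorem on 4-transitive groups with odd 4-point stabilizer (S4221). -/

set_option autoImplicit false

namespace H24.FT

/-- `G` is 4-transitive and the elements of `G` fixing four distinct points have odd order. -/
structure Ctx {α : Type*} (G : Subgroup (Equiv.Perm α)) : Prop where
  tr : ∀ x y : Fin 4 → α, Function.Injective x → Function.Injective y →
    ∃ g ∈ G, ∀ i, g (x i) = y i
  odd : ∀ g ∈ G, ∀ x : Fin 4 → α, Function.Injective x → (∀ i, g (x i) = x i) →
    Odd (orderOf g)

end H24.FT
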